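import Cfsg.Agent.Lib.BSW.Main
import Cfsg.Agent.S0514
import Cfsg.Agent.Lib.PCore.Basic
import Cfsg.Agent.Lib.Transfer.Basic
import Mathlib.GroupTheory.SpecificGroups.Cyclic

/-!
# The Brauer–Suzuki–Wall configuration in a simple group with dihedral Sylow 2-subgroups
-/

set_option autoImplicit false
set_option linter.style.haveILetI false

namespace CfsgLib.BSW

open CfsgLib.Involutions

universe u

/-- A cyclic subgroup of index two of a dihedral group has only involutions outside. -/
theorem dihedral_outside {n : ℕ} (hn : 2 ≤ n) (H : Subgroup (DihedralGroup n)) [IsCyclic H]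
    (hH : H.index = 2) {g : DihedralGroup n} (hg : g ∉ H) : g * g = 1 := by
  haveI : NeZero n := ⟨by omega⟩
  rcases Nat.lt_or_ge n 3 with h3 | h3
  · obtain rfl : n = 2 := by omega
    have h2 : ∀ a : DihedralGroup 2, a * a = 1 := by decide
    exact h2 g
  · have hcard : Nat.card H = n := by
      have h1 := H.card_mul_index
      rw [hH, DihedralGroup.nat_card] at h1
      omega
    obtain ⟨⟨h, hh⟩, hgen⟩ := IsCyclic.exists_ofOrder_eq_natCard (α := H)
    rw [Subgroup.orderOf_mk, hcard] at hgen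
    obtain ⟨i, rfl⟩ : ∃ i, h = DihedralGroup.r i := by
      cases h with
      | r i => exact ⟨i, rfl⟩
      | sr i => rw [DihedralGroup.orderOf_sr] at hgen; omega
    have hzH : Subgroup.zpowers (DihedralGroup.r i) = H :=
      Subgroup.eq_of_le_of_card_ge (Subgroup.zpowers_le.2 hh)
        (by rw [Nat.card_zpowers, hgen, hcard])
    have hRle : Subgroup.zpowers (DihedralGroup.r i) ≤
        Subgroup.zpowers (DihedralGroup.r (1 : ZMod n)) := by
      refine Subgroup.zpowers_le.2 ⟨(i.val : ℤ), ?_⟩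
      show DihedralGroup.r (1 : ZMod n) ^ (i.val : ℤ) = DihedralGroup.r i
      rw [zpow_natCast, DihedralGroup.r_one_pow, ZMod.natCast_zmod_val]
    have hReq : Subgroup.zpowers (DihedralGroup.r i) =
        Subgroup.zpowers (DihedralGroup.r (1 : ZMod n)) :=
      Subgroup.eq_of_le_of_card_ge hRle
        (by rw [Nat.card_zpowers, Nat.card_zpowers, DihedralGroup.orderOf_r_one, hgen])
    cases g with
    | r j =>
      refine absurd ?_ hg
      rw [← hzH, hReq]
      refine ⟨(j.val : ℤ), ?_⟩
      show DihedralGroup.r (1 : ZMod n) ^ (j.val : ℤ) = DihedralGroup.r j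
      rw [zpow_natCast, DihedralGroup.r_one_pow, ZMod.natCast_zmod_val]
    | sr j => exact DihedralGroup.sr_mul_self j

/-- A central involution of a dihedral group lies in a cyclic subgroup of index two. -/
theorem dihedral_central {n : ℕ} (hn : 2 ≤ n) {z : DihedralGroup n} (hz : orderOf z = 2)
    (hc : ∀ g, g * z = z * g) :
    ∃ H : Subgroup (DihedralGroup n), IsCyclic H ∧ H.index = 2 ∧ z ∈ H := by
  haveI : NeZero n := ⟨by omega⟩
  rcases Nat.lt_or_ge n 3 with h3 | h3
  · obtain rfl : n = 2 := by omega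
    refine ⟨Subgroup.zpowers z, inferInstance, ?_, Subgroup.mem_zpowers z⟩
    have h1 := (Subgroup.zpowers z).card_mul_index
    rw [Nat.card_zpowers, hz, DihedralGroup.nat_card] at h1
    omega
  · refine ⟨Subgroup.zpowers (DihedralGroup.r (1 : ZMod n)), inferInstance, ?_, ?_⟩
    · have h1 := (Subgroup.zpowers (DihedralGroup.r (1 : ZMod n))).card_mul_index
      rw [Nat.card_zpowers, DihedralGroup.orderOf_r_one, DihedralGroup.nat_card] at h1
      exact mul_left_cancel₀ (by omega : n ≠ 0) (by rw [h1]; ring)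
    · cases z with
      | r j =>
        refine ⟨(j.val : ℤ), ?_⟩
        show DihedralGroup.r (1 : ZMod n) ^ (j.val : ℤ) = DihedralGroup.r j
        rw [zpow_natCast, DihedralGroup.r_one_pow, ZMod.natCast_zmod_val]
      | sr j =>
        exfalso
        have h1 := hc (DihedralGroup.r 1)
        rw [DihedralGroup.r_mul_sr, DihedralGroup.sr_mul_r, DihedralGroup.sr.injEq] at h1
        have h2 : (2 : ZMod n) = 0 := by linear_combination -h1
        have h4 := (ZMod.natCast_eq_zero_iff 2 n).1 (by exact_mod_cast h2)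
        have := Nat.le_of_dvd two_pos h4
        omega

variable {G : Type u} [Group G] [Finite G]

/-- The cyclic subgroup `T` of index two in a dihedral Sylow 2-subgroup, centralizing the core. -/
theorem exists_T {S : Subgroup G} {n : ℕ} (hn : 2 ≤ n) (e : S ≃* DihedralGroup n) {t : G}
    (ht : orderOf t = 2) (htS : t ∈ S) (htZ : ∀ s ∈ S, s * t = t * s) {O : Subgroup G}
    (hO : O ≤ Subgroup.centralizer ({t} : Set G))
    (ha : O ≠ ⊥ → IsCyclic (S ⊓ Subgroup.centralizer (O : Set G) : Subgroup G) ∧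
      (S ⊓ Subgroup.centralizer (O : Set G)).relIndex S = 2)
    (hb : ∀ s ∈ S, s ∉ Subgroup.centralizer (O : Set G) → ∀ y ∈ O, s * y * s⁻¹ = y⁻¹) :
    ∃ T : Subgroup G, T ≤ S ∧ IsCyclic T ∧ T.relIndex S = 2 ∧ t ∈ T ∧
      (∀ x ∈ T, ∀ y ∈ O, x * y = y * x) ∧
      ∀ s ∈ S, s ∉ T → s * s = 1 ∧ (∀ x ∈ T, s * x * s⁻¹ = x⁻¹) ∧
        ∀ y ∈ O, s * y * s⁻¹ = y⁻¹ := by
  obtain ⟨T, hTS, hTc, hTi, htT, hTO, hTinv⟩ : ∃ T : Subgroup G, T ≤ S ∧ IsCyclic T ∧
      T.relIndex S = 2 ∧ t ∈ T ∧ (∀ x ∈ T, ∀ y ∈ O, x * y = y * x) ∧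
      ∀ s ∈ S, s ∉ T → ∀ y ∈ O, s * y * s⁻¹ = y⁻¹ := by
    by_cases hne : O = ⊥
    · subst hne
      have hz : orderOf (e ⟨t, htS⟩) = 2 := by rw [MulEquiv.orderOf_eq, Subgroup.orderOf_mk, ht]
      obtain ⟨H, hH, hHi, hzH⟩ := dihedral_central hn hz fun g => by
        obtain ⟨x, rfl⟩ := e.surjective g
        rw [← map_mul, ← map_mul]
        exact congrArg e (Subtype.ext (htZ x x.2))
      refine ⟨(H.comap e.toMonoidHom).map S.subtype, fun x hx => by
        obtain ⟨y, -, rfl⟩ := hx; exact y.2, ?_, ?_, ⟨⟨t, htS⟩, hzH, rfl⟩, ?_, ?_⟩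
      · haveI := hH
        haveI : IsCyclic (H.comap e.toMonoidHom) :=
          isCyclic_of_injective ((e.toMonoidHom.comp (H.comap e.toMonoidHom).subtype).codRestrict H
            fun x => x.2) fun a b hab => Subtype.ext (e.injective (congrArg Subtype.val hab))
        exact isCyclic_of_surjective _
          (Subgroup.equivMapOfInjective _ S.subtype S.subtype_injective).surjective
      · rw [Subgroup.relIndex, Subgroup.subgroupOf, Subgroup.comap_map_eq_self_of_injective
          S.subtype_injective, Subgroup.index_comap_of_surjective _ e.surjective, hHi]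
      · intro x _ y hy
        rw [Subgroup.mem_bot.1 hy, mul_one, one_mul]
      · intro s _ _ y hy
        rw [Subgroup.mem_bot.1 hy]; group
    · obtain ⟨hc, hi⟩ := ha hne
      refine ⟨_, inf_le_left, hc, hi, ⟨htS, ?_⟩, ?_, ?_⟩
      · exact Subgroup.mem_centralizer_iff.2 fun y hy =>
          Subgroup.mem_centralizer_singleton_iff.1 (hO hy)
      · exact fun x hx y hy => (Subgroup.mem_centralizer_iff.1 hx.2 y hy).symm
      · exact fun s hs hsT => hb s hs fun hm => hsT ⟨hs, hm⟩
  refine ⟨T, hTS, hTc, hTi, htT, hTO, fun s hs hsT => ?_⟩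
  haveI := hTc
  haveI : IsCyclic ((T.subgroupOf S).map e.toMonoidHom) := by
    haveI : IsCyclic (T.subgroupOf S) :=
      isCyclic_of_surjective _ (Subgroup.subgroupOfEquivOfLe hTS).symm.surjective
    exact isCyclic_of_surjective _
      (Subgroup.equivMapOfInjective _ e.toMonoidHom e.injective).surjective
  have hidx : ((T.subgroupOf S).map e.toMonoidHom).index = 2 := by
    rw [Subgroup.index_map_of_bijective (f := e.toMonoidHom) e.bijective]
    exact hTi
  have hout : ∀ w ∈ S, w ∉ T → w * w = 1 := by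
    intro w hw hwT
    have h1 := dihedral_outside hn ((T.subgroupOf S).map e.toMonoidHom) hidx (g := e ⟨w, hw⟩)
      (fun hm => by
        obtain ⟨z, hz, hze⟩ := hm
        exact hwT (by rw [show w = (z : G) from congrArg Subtype.val (e.injective hze).symm]; exact hz))
    rw [← map_mul, ← map_one e] at h1
    exact congrArg Subtype.val (e.injective h1)
  have hs2 := hout s hs hsT
  refine ⟨hs2, fun x hx => ?_, hTinv s hs hsT⟩
  have h1 := hout (s * x) (S.mul_mem hs (hTS hx)) fun hm => hsT (by
    have := T.mul_mem hm (T.inv_mem hx); rwa [mul_inv_cancel_right] at this)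
  refine eq_inv_of_mul_eq_one_left ?_
  rw [inv_eq_of_mul_eq_one_right hs2]
  calc s * x * s * x = s * x * (s * x) := by group
    _ = 1 := h1

theorem exists_setup [IsSimpleGroup G] (S : Sylow 2 G) {n : ℕ} (hn : 2 ≤ n)
    (e : (S : Subgroup G) ≃* DihedralGroup n) {t : G} (ht : orderOf t = 2)
    (htS : t ∈ (S : Subgroup G)) (htZ : ∀ s ∈ (S : Subgroup G), s * t = t * s) {O : Subgroup G}
    (hO : O = (Cfsg.oddCore (Subgroup.centralizer ({t} : Set G))).map
      (Subgroup.centralizer ({t} : Set G)).subtype)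
    (ha : O ≠ ⊥ → IsCyclic ((S : Subgroup G) ⊓ Subgroup.centralizer (O : Set G) : Subgroup G) ∧
      ((S : Subgroup G) ⊓ Subgroup.centralizer (O : Set G)).relIndex (S : Subgroup G) = 2)
    (hb : ∀ s ∈ (S : Subgroup G), s ∉ Subgroup.centralizer (O : Set G) →
      ∀ y ∈ O, s * y * s⁻¹ = y⁻¹)
    (hc : ∀ Y : Subgroup G, Y ≤ O → Y ≠ ⊥ →
      Subgroup.normalizer (Y : Set G) ≤ Subgroup.centralizer ({t} : Set G)) :
    ∃ (K : Subgroup G) (s : G), Setup K t s := by
  classical
  haveI : Fact (Nat.Prime 2) := ⟨Nat.prime_two⟩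
  set C := Subgroup.centralizer ({t} : Set G) with hC
  have hSC : (S : Subgroup G) ≤ C := fun x hx =>
    Subgroup.mem_centralizer_singleton_iff.2 (htZ x hx)
  have hOC : O ≤ C := by rw [hO]; rintro _ ⟨y, -, rfl⟩; exact y.2
  have hOodd : Odd (Nat.card O) := by
    rw [hO, Subgroup.card_map_of_injective C.subtype_injective]
    exact Nat.coprime_two_right.1 CfsgLib.PCore.pPrimeCore_coprime
  obtain ⟨N, hNn, hNodd, k, hk⟩ := Cfsg.Agent.S0514.result S n hn ⟨e⟩ t ht
  have hNO : Nat.card N ∣ Nat.card O := by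
    rw [hO, Subgroup.card_map_of_injective C.subtype_injective]
    exact Subgroup.card_dvd_of_le
      (CfsgLib.PCore.le_pPrimeCore hNn (Nat.coprime_two_right.2 hNodd))
  obtain ⟨T, hTS, hTc, hTi, htT, hTO, hout⟩ := exists_T hn e ht htS htZ hOC ha hb
  have hSc : Nat.card (S : Subgroup G) = 2 * n := by
    rw [Nat.card_congr e.toEquiv, DihedralGroup.nat_card]
  obtain ⟨s, hsS, hsT⟩ : ∃ s ∈ (S : Subgroup G), s ∉ T := by
    by_contra! hall
    rw [Subgroup.relIndex_eq_one.2 hall] at hTi
    omega
  obtain ⟨hs2, hsinvT, hsinvO⟩ := hout s hsS hsT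
  have hs1 : s ≠ 1 := fun h => hsT (h ▸ T.one_mem)
  have hso : orderOf s = 2 := orderOf_eq_two_iff_mul.2 ⟨hs1, hs2⟩
  have hOab : ∀ x ∈ O, ∀ y ∈ O, x * y = y * x := by
    intro x hx y hy
    have h1 := hsinvO _ (O.mul_mem hx hy)
    rw [show s * (x * y) * s⁻¹ = (s * x * s⁻¹) * (s * y * s⁻¹) by group, hsinvO x hx, hsinvO y hy,
      mul_inv_rev] at h1
    calc x * y = (y⁻¹ * x⁻¹)⁻¹ := by group
      _ = (x⁻¹ * y⁻¹)⁻¹ := by rw [h1]
      _ = y * x := by group
  have hOT : O ≤ Subgroup.normalizer (T : Set G) := fun y hy =>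
    Subgroup.mem_normalizer_iff.2 fun x => by
      constructor
      · intro hx
        rw [show y * x * y⁻¹ = x by rw [← hTO x hx y hy, mul_inv_cancel_right]]
        exact hx
      · intro hx
        have h1 := hTO _ hx y hy
        have h2 : x = y * x * y⁻¹ := by
          calc x = y⁻¹ * (y * x * y⁻¹ * y) := by group
            _ = y⁻¹ * (y * (y * x * y⁻¹)) := by rw [h1]
            _ = y * x * y⁻¹ := by group
        rw [h2]; exact hx
  set K := T ⊔ O with hK
  have hmemK : ∀ {z : G}, z ∈ K ↔ ∃ x ∈ T, ∃ y ∈ O, x * y = z := fun {z} => by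
    rw [hK, ← SetLike.mem_coe, Subgroup.coe_mul_of_right_le_normalizer_left T O hOT, Set.mem_mul]
    rfl
  have hSO : ∀ {x : G}, x ∈ (S : Subgroup G) → x ∈ O → x = 1 := by
    intro x hx hxO
    obtain ⟨j, hj⟩ := IsPGroup.iff_orderOf.1 S.isPGroup' ⟨x, hx⟩
    rw [Subgroup.orderOf_mk] at hj
    refine orderOf_eq_one_iff.1 (Nat.eq_one_of_dvd_coprimes
      (Nat.Coprime.pow_left j (Nat.coprime_two_left.2 hOodd)) (hj ▸ dvd_rfl)
      (Subgroup.orderOf_dvd_natCard O hxO))
  have hTsq : ∀ x ∈ T, x * x = 1 → x = 1 ∨ x = t := by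
    intro x hx hx2
    by_contra hne
    push Not at hne
    haveI := hTc
    haveI := Fintype.ofFinite T
    have hle := IsCyclic.card_pow_eq_one_le (α := T) (n := 2) two_pos
    have hsub : ({1, ⟨t, htT⟩, ⟨x, hx⟩} : Finset T) ⊆
        Finset.univ.filter fun a : T => a ^ 2 = 1 := by
      intro a ha
      simp only [Finset.mem_insert, Finset.mem_singleton] at ha
      refine Finset.mem_filter.2 ⟨Finset.mem_univ a, ?_⟩
      rcases ha with rfl | rfl | rfl
      · exact one_pow 2
      · exact Subtype.ext (by rw [Subgroup.coe_pow, sq]; exact mul_self_eq_one ht)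
      · exact Subtype.ext (by rw [Subgroup.coe_pow, sq]; exact hx2)
    have h3 : ({1, ⟨t, htT⟩, ⟨x, hx⟩} : Finset T).card = 3 := by
      rw [Finset.card_eq_three]
      exact ⟨_, _, _, fun h => ne_one_of_involution ht (congrArg Subtype.val h).symm,
        fun h => hne.1 (congrArg Subtype.val h).symm, fun h => hne.2 (congrArg Subtype.val h).symm,
        rfl⟩
    have := (Finset.card_le_card hsub).trans hle
    omega
  have hKcomm : ∀ x ∈ K, ∀ y ∈ K, x * y = y * x := by
    intro u hu v hv
    obtain ⟨x, hx, y, hy, rfl⟩ := hmemK.1 hu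
    obtain ⟨x', hx', y', hy', rfl⟩ := hmemK.1 hv
    haveI := hTc
    letI : CommGroup T := IsCyclic.commGroup
    have hxx : x * x' = x' * x := congrArg Subtype.val (mul_comm (⟨x, hx⟩ : T) ⟨x', hx'⟩)
    calc x * y * (x' * y') = x * (y * x') * y' := by group
      _ = x * (x' * y) * y' := by rw [hTO x' hx' y hy]
      _ = (x * x') * (y * y') := by group
      _ = (x' * x) * (y' * y) := by rw [hxx, hOab y hy y' hy']
      _ = x' * (x * y') * y := by group
      _ = x' * (y' * x) * y := by rw [hTO x hx y' hy']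
      _ = x' * y' * (x * y) := by group
  have hKinv : ∀ z ∈ K, s * z * s⁻¹ = z⁻¹ := by
    intro z hz
    obtain ⟨x, hx, y, hy, rfl⟩ := hmemK.1 hz
    calc s * (x * y) * s⁻¹ = (s * x * s⁻¹) * (s * y * s⁻¹) := by group
      _ = x⁻¹ * y⁻¹ := by rw [hsinvT x hx, hsinvO y hy]
      _ = (y * x)⁻¹ := by group
      _ = (x * y)⁻¹ := by rw [hTO x hx y hy]
  have hsK : s ∉ K := by
    intro hm
    obtain ⟨x, hx, y, hy, hxy⟩ := hmemK.1 hm
    have hy1 : y = 1 := hSO (by
      rw [show y = x⁻¹ * s by rw [← hxy, inv_mul_cancel_left]]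
      exact (S : Subgroup G).mul_mem ((S : Subgroup G).inv_mem (hTS hx)) hsS) hy
    exact hsT (by rw [← hxy, hy1, mul_one]; exact hx)
  have hKsq : ∀ z ∈ K, z * z = 1 → z = 1 ∨ z = t := by
    intro z hz hz2
    obtain ⟨x, hx, y, hy, rfl⟩ := hmemK.1 hz
    have h1 : (x * x) * (y * y) = 1 := by
      rw [← hz2]
      calc x * x * (y * y) = x * (x * y) * y := by group
        _ = x * (y * x) * y := by rw [hTO x hx y hy]
        _ = x * y * (x * y) := by group
    have hyy : y * y = 1 := hSO (by
      rw [show y * y = (x * x)⁻¹ from (inv_eq_of_mul_eq_one_right h1).symm]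
      exact hTS (T.inv_mem (T.mul_mem hx hx))) (O.mul_mem hy hy)
    have hy1 : y = 1 := by
      have h2 : orderOf y ∣ 2 := orderOf_dvd_of_pow_eq_one (by rw [sq]; exact hyy)
      exact orderOf_eq_one_iff.1 (Nat.eq_one_of_dvd_coprimes (Nat.coprime_two_left.2 hOodd) h2
        (Subgroup.orderOf_dvd_natCard O hy))
    rw [hyy, mul_one] at h1
    rw [hy1, mul_one]
    exact hTsq x hx h1
  have hfix : ∀ z ∈ K, z * s = s * z → z = 1 ∨ z = t := by
    intro z hz hzs
    refine hKsq z hz ?_
    have h1 := hKinv z hz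
    rw [← hzs, mul_inv_cancel_right] at h1
    nth_rewrite 1 [h1]
    exact inv_mul_cancel z
  have hcent : C = K ⊔ Subgroup.zpowers s := by
    refine (Subgroup.eq_of_le_of_card_ge (sup_le (sup_le (hTS.trans hSC) hOC)
      (Subgroup.zpowers_le.2 (hSC hsS))) ?_).symm
    set L := K ⊔ Subgroup.zpowers s with hL
    have hSL : (S : Subgroup G) ≤ L := by
      intro w hw
      by_cases hwT : w ∈ T
      · exact Subgroup.mem_sup_left (Subgroup.mem_sup_left hwT)
      · have hmem : s * w ∈ T := by
          have hi : (T.subgroupOf (S : Subgroup G)).index = 2 := hTi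
          have := (Subgroup.mul_mem_iff_of_index_two hi (a := ⟨s, hsS⟩) (b := ⟨w, hw⟩)).2
            (iff_of_false hsT hwT)
          exact this
        have hw' : w = s⁻¹ * (s * w) := by group
        rw [hw']
        exact L.mul_mem (L.inv_mem (Subgroup.mem_sup_right (Subgroup.mem_zpowers s)))
          (Subgroup.mem_sup_left (Subgroup.mem_sup_left hmem))
    have h1 : Nat.card O ∣ Nat.card L :=
      Subgroup.card_dvd_of_le (le_trans le_sup_right le_sup_left)
    have h2 : Nat.card (S : Subgroup G) ∣ Nat.card L := Subgroup.card_dvd_of_le hSL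
    obtain ⟨a, hSa⟩ := IsPGroup.iff_card.1 S.isPGroup'
    have h3 : Nat.card O * Nat.card (S : Subgroup G) ∣ Nat.card L :=
      Nat.Coprime.mul_dvd_of_dvd_of_dvd
        (by rw [hSa]; exact Nat.Coprime.pow_right a (Nat.coprime_two_right.2 hOodd)) h1 h2
    have h4 := N.card_mul_index
    rw [hk] at h4
    have h5 : 2 ^ k ∣ Nat.card (S : Subgroup G) := by
      rw [S.card_eq_multiplicity]
      have h6 : 2 ^ k ∣ Nat.card G :=
        (Dvd.intro_left _ h4).trans C.card_subgroup_dvd_card
      exact pow_dvd_pow 2 ((Nat.prime_two.pow_dvd_iff_le_factorization Nat.card_pos.ne').1 h6)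
    exact Nat.le_of_dvd Nat.card_pos ((h4 ▸ Nat.mul_dvd_mul hNO h5).trans h3)
  have hInN : ∀ c ∈ C, c ∈ K ∨ ∀ z ∈ K, c * z * c⁻¹ = z⁻¹ := by
    intro c hc'
    let L : Subgroup G :=
      { carrier := {c | c ∈ K ∨ s * c ∈ K}
        one_mem' := Or.inl K.one_mem
        mul_mem' := fun {a b} ha' hb' => by
          have hs' : ∀ z ∈ K, s * z * s ∈ K := fun z hz => by
            have h1 := hKinv z hz
            rw [inv_eq_of_mul_eq_one_right hs2] at h1
            rw [h1]; exact K.inv_mem hz
          rcases ha' with ha' | ha' <;> rcases hb' with hb' | hb'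
          · exact Or.inl (K.mul_mem ha' hb')
          · refine Or.inr ?_
            rw [show s * (a * b) = s * a * (s * s) * b by rw [hs2]; group,
              show s * a * (s * s) * b = (s * a * s) * (s * b) by group]
            exact K.mul_mem (hs' a ha') hb'
          · exact Or.inr (by rw [← mul_assoc]; exact K.mul_mem ha' hb')
          · refine Or.inl ?_
            rw [show a * b = (s * s) * a * (s * s) * b by rw [hs2]; group,
              show (s * s) * a * (s * s) * b = (s * (s * a) * s) * (s * b) by group]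
            exact K.mul_mem (hs' _ ha') hb'
        inv_mem' := fun {a} ha' => by
          rcases ha' with ha' | ha'
          · exact Or.inl (K.inv_mem ha')
          · refine Or.inr ?_
            have h1 := hKinv _ (K.inv_mem ha')
            rw [inv_inv, inv_eq_of_mul_eq_one_right hs2] at h1
            rw [show s * a⁻¹ = s * (s * a)⁻¹ * s by group, h1]
            exact ha' }
    have hCL : C ≤ L := by
      rw [hcent]
      refine sup_le (fun z hz => Or.inl hz) (Subgroup.zpowers_le.2 (Or.inr ?_))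
      rw [hs2]; exact K.one_mem
    rcases hCL hc' with hcK | hcK
    · exact Or.inl hcK
    · refine Or.inr fun z hz => ?_
      calc c * z * c⁻¹ = s⁻¹ * ((s * c) * z * (s * c)⁻¹) * s := by group
        _ = s⁻¹ * z * s := by rw [hKcomm _ hcK z hz, mul_inv_cancel_right]
        _ = s * z * s⁻¹ := by rw [inv_eq_of_mul_eq_one_right hs2]
        _ = z⁻¹ := hKinv z hz
  refine ⟨K, s, ⟨ht, hso, Subgroup.mem_sup_left htT, hsK, hKcomm, hKinv, hcent, hfix, ?_, ?_⟩⟩
  · intro g x hg hx hgx
    by_contra hx1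
    have hgt : g * t * g⁻¹ = t → False := fun h =>
      hg (Subgroup.mem_centralizer_singleton_iff.2 (mul_inv_eq_iff_eq_mul.1 h))
    rcases Nat.even_or_odd (orderOf x) with ⟨m, hm⟩ | hodd
    · -- a power of `x` is the involution of `K`
      have hpos := orderOf_pos x
      have hm1 : x ^ m ≠ 1 := fun h => by
        have := Nat.le_of_dvd (by omega) (orderOf_dvd_of_pow_eq_one h)
        omega
      have hm2 : x ^ m * x ^ m = 1 := by rw [← pow_add, ← hm, pow_orderOf_eq_one]
      have hxt := (hKsq _ (K.pow_mem hx m) hm2).resolve_left hm1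
      refine hgt ((hKsq _ ?_ ?_).resolve_left fun h =>
        ne_one_of_involution ht (conj_eq_one_iff.1 h))
      · rw [← hxt, ← conj_pow]; exact K.pow_mem hgx m
      · rw [show g * t * g⁻¹ * (g * t * g⁻¹) = g * (t * t) * g⁻¹ by group, mul_self_eq_one ht]
        group
    · have hoddO : ∀ z ∈ K, Odd (orderOf z) → z ∈ O := by
        intro z hz hzo
        obtain ⟨a, ha', b, hb', rfl⟩ := hmemK.1 hz
        have hcom : Commute a b := hTO a ha' b hb'
        have h1 : (a * b) ^ (orderOf (a * b) * Nat.card O) = 1 := by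
          rw [pow_mul, pow_orderOf_eq_one, one_pow]
        rw [hcom.mul_pow] at h1
        have hbO : b ^ Nat.card O = 1 := orderOf_dvd_iff_pow_eq_one.1
          (Subgroup.orderOf_dvd_natCard O hb')
        rw [mul_comm (orderOf (a * b)), pow_mul b, hbO, one_pow, mul_one] at h1
        have h2 := orderOf_dvd_of_pow_eq_one h1
        obtain ⟨j, hj⟩ := IsPGroup.iff_orderOf.1 S.isPGroup' ⟨a, hTS ha'⟩
        rw [Subgroup.orderOf_mk] at hj
        have h3 : orderOf a = 1 := Nat.eq_one_of_dvd_coprimes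
          (Nat.Coprime.pow_left j (Nat.coprime_two_left.2 (hOodd.mul hzo))) (hj ▸ dvd_rfl) h2
        rw [orderOf_eq_one_iff.1 h3, one_mul]
        exact hb'
      have hyO : g * x * g⁻¹ ∈ O := hoddO _ hgx (by rwa [orderOf_conj_eq])
      have hy1 : g * x * g⁻¹ ≠ 1 := fun h => hx1 (conj_eq_one_iff.1 h)
      have htC : g * t * g⁻¹ ∈ C := by
        refine hc (Subgroup.zpowers (g * x * g⁻¹)) (Subgroup.zpowers_le.2 hyO)
          (Subgroup.zpowers_ne_bot.2 hy1) (Subgroup.centralizer_le_normalizer _ ?_)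
        rw [Subgroup.mem_centralizer_iff]
        rintro w ⟨i, rfl⟩
        have hxt : x * t = t * x :=
          Subgroup.mem_centralizer_singleton_iff.1 (hOC (hoddO x hx hodd))
        exact ((show Commute (g * x * g⁻¹) (g * t * g⁻¹) from
          (show Commute x t from hxt).map (MulAut.conj g).toMonoidHom).zpow_left i).eq
      rcases hInN _ htC with hK' | hinv
      · refine hgt ((hKsq _ hK' ?_).resolve_left fun h =>
          ne_one_of_involution ht (conj_eq_one_iff.1 h))
        rw [show g * t * g⁻¹ * (g * t * g⁻¹) = g * (t * t) * g⁻¹ by group, mul_self_eq_one ht]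
        group
      · have h1 := hinv _ hgx
        have hxt : x * t = t * x :=
          Subgroup.mem_centralizer_singleton_iff.1 (hOC (hoddO x hx hodd))
        rw [show g * t * g⁻¹ * (g * x * g⁻¹) * (g * t * g⁻¹)⁻¹ = g * (t * x * t⁻¹) * g⁻¹ by group,
          ← hxt, mul_inv_cancel_right] at h1
        have h2 : (g * x * g⁻¹) ^ 2 = 1 := by
          rw [sq]; nth_rewrite 1 [h1]; exact inv_mul_cancel _
        refine hy1 (orderOf_eq_one_iff.1 (Nat.eq_one_of_dvd_coprimes
          (Nat.coprime_two_left.2 hOodd) (orderOf_dvd_of_pow_eq_one h2)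
          (Subgroup.orderOf_dvd_natCard O hyO)))
  · -- one class of involutions
    have hkey : ∀ u : G, orderOf u = 2 → IsConj u t := by
      intro u hu
      by_contra hne
      obtain ⟨M, hMn, hMi, -⟩ := CfsgLib.Transfer.thompson_transfer S T hTi u
        (by rw [sq]; exact mul_self_eq_one hu) fun g _ hgT => hne (isConj_iff.2 ⟨g, (hTsq _ hgT (by
          rw [show g * u * g⁻¹ * (g * u * g⁻¹) = g * (u * u) * g⁻¹ by group, mul_self_eq_one hu]
          group)).resolve_left fun h => ne_one_of_involution hu (conj_eq_one_iff.1 h)⟩)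
      rcases IsSimpleGroup.eq_bot_or_eq_top_of_normal M hMn with h | h
      · rw [h, Subgroup.index_bot] at hMi
        have h4 : 2 * n ∣ Nat.card G := hSc ▸ (S : Subgroup G).card_subgroup_dvd_card
        rw [hMi] at h4
        have := Nat.le_of_dvd two_pos h4
        omega
      · rw [h, Subgroup.index_top] at hMi; omega
    exact fun x y hx hy => (hkey x hx).trans (hkey y hy).symm

end CfsgLib.BSW
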