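import Cfsg.Agent.Lib.BSW.Counting
import Cfsg.Agent.Lib.Recog.CentralSylowPSLTwo
import Cfsg.Agent.Lib.Characters.Burnside

/-!
# A simple group with the structure in the conclusion of Brauer–Suzuki–Wall is `PSL(2, q)`
-/

set_option autoImplicit false
set_option linter.style.haveILetI false

namespace CfsgLib.BSW

open CfsgLib.Involutions

universe u

variable {G : Type u} [Group G] [Finite G] {Q : Subgroup G}

/-- If `Q` is self-centralizing at each of its nontrivial elements and `N(Q)` has at most two orbits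
on `Q#`, then `Q` has prime power order. -/
theorem primePow_of_two_orbits (hC : ∀ x ∈ Q, x ≠ 1 → Subgroup.centralizer ({x} : Set G) = Q)
    (hQ : 1 < Nat.card Q)
    (hN : Nat.card (Subgroup.normalizer (Q : Set G)) * 2 = Nat.card Q * (Nat.card Q - 1)) :
    ∃ p f : ℕ, p.Prime ∧ 1 ≤ f ∧ Nat.card Q = p ^ f := by
  classical
  obtain ⟨p, hp, hpd⟩ := Nat.exists_prime_and_dvd (n := Nat.card Q) (by omega)
  suffices huniq : ∀ {r : ℕ}, r.Prime → r ∣ Nat.card Q → r = p by
    have h := Nat.eq_prime_pow_of_unique_prime_dvd (by omega) huniq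
    refine ⟨p, _, hp, ?_, h⟩
    rcases Nat.eq_zero_or_pos (Nat.card Q).primeFactorsList.length with e | e
    · rw [e, pow_zero] at h; omega
    · exact e
  intro r hr hrd
  by_contra hne
  haveI : Fact p.Prime := ⟨hp⟩
  haveI : Fact r.Prime := ⟨hr⟩
  set N := Subgroup.normalizer (Q : Set G) with hNdef
  haveI := Fintype.ofFinite G
  have hcent : ∀ a b : G, a ∈ Q → b ∈ Q → a * b = b * a := by
    intro a b ha hb
    by_cases hb1 : b = 1
    · rw [hb1, mul_one, one_mul]
    · rw [← hC b hb hb1, Subgroup.mem_centralizer_singleton_iff] at ha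
      exact ha
  obtain ⟨⟨a, ha⟩, hao⟩ := exists_prime_orderOf_dvd_card' (G := Q) p hpd
  obtain ⟨⟨b, hb⟩, hbo⟩ := exists_prime_orderOf_dvd_card' (G := Q) r hrd
  rw [Subgroup.orderOf_mk] at hao hbo
  have hco : Nat.Coprime (orderOf a) (orderOf b) := by
    rw [hao, hbo]; exact (Nat.coprime_primes hp hr).2 (Ne.symm hne)
  have habo : orderOf (a * b) = p * r := by
    rw [(show Commute a b from hcent a b ha hb).orderOf_mul_eq_mul_orderOf_of_coprime hco, hao, hbo]
  have ha1 : a ≠ 1 := fun e => by rw [e, orderOf_one] at hao; exact hp.one_lt.ne hao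
  have hb1 : b ≠ 1 := fun e => by rw [e, orderOf_one] at hbo; exact hr.one_lt.ne hbo
  have hab1 : a * b ≠ 1 := fun e => by
    rw [e, orderOf_one] at habo
    exact hp.one_lt.ne' (Nat.eq_one_of_mul_eq_one_right habo.symm)
  let orb : G → Finset G := fun x =>
    (Finset.univ.filter fun g => g ∈ N).image fun g => g * x * g⁻¹
  have horb_order : ∀ x y, y ∈ orb x → orderOf y = orderOf x := by
    intro x y hy
    obtain ⟨g, -, rfl⟩ := Finset.mem_image.1 hy
    exact orderOf_conj_eq g x
  have horb_card : ∀ x ∈ Q, x ≠ 1 → Nat.card N ≤ Nat.card Q * (orb x).card := by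
    intro x hx hx1
    have h := Finset.card_le_mul_card_image (f := fun g => g * x * g⁻¹)
      (Finset.univ.filter fun g => g ∈ N) (Nat.card Q) (fun y hy => by
        obtain ⟨g₀, -, rfl⟩ := Finset.mem_image.1 hy
        rw [Nat.card_eq_fintype_card, ← Finset.card_univ]
        refine Finset.card_le_card_of_injOn (fun g => if hg : g₀⁻¹ * g ∈ Q then ⟨g₀⁻¹ * g, hg⟩ else 1)
          (fun _ _ => Finset.mem_univ _) ?_
        have key : ∀ g, g * x * g⁻¹ = g₀ * x * g₀⁻¹ → g₀⁻¹ * g ∈ Q := by
          intro g e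
          rw [← hC x hx hx1, Subgroup.mem_centralizer_singleton_iff]
          calc g₀⁻¹ * g * x = g₀⁻¹ * (g * x * g⁻¹) * g := by group
            _ = g₀⁻¹ * (g₀ * x * g₀⁻¹) * g := by rw [e]
            _ = x * (g₀⁻¹ * g) := by group
        intro g hg g' hg' e
        simp only [Finset.coe_filter, Set.mem_setOf_eq] at hg hg'
        simp only [dif_pos (key g hg.2), dif_pos (key g' hg'.2), Subtype.mk.injEq] at e
        exact mul_left_cancel e)
    rwa [show (Finset.univ.filter fun g => g ∈ N).card = Nat.card N by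
      rw [Nat.card_eq_fintype_card, Fintype.card_subtype]] at h
  have hsub : ∀ x ∈ Q, x ≠ 1 → orb x ⊆ (Finset.univ.filter fun y => y ∈ Q).erase 1 := by
    intro x hx hx1 y hy
    obtain ⟨g, hg, rfl⟩ := Finset.mem_image.1 hy
    exact Finset.mem_erase.2 ⟨fun e => hx1 (conj_eq_one_iff.1 e), Finset.mem_filter.2
      ⟨Finset.mem_univ _, (Subgroup.mem_normalizer_iff.1 (Finset.mem_filter.1 hg).2 x).1 hx⟩⟩
  have hdisj : ∀ x y, orderOf x ≠ orderOf y → Disjoint (orb x) (orb y) := fun x y hxy =>
    Finset.disjoint_left.2 fun z h1 h2 => hxy ((horb_order x z h1).symm.trans (horb_order y z h2))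
  have hp2 := hp.two_le
  have hr2 := hr.two_le
  have d1 := hdisj a b (by rw [hao, hbo]; exact Ne.symm hne)
  have d2 := hdisj a (a * b) (by rw [hao, habo]; nlinarith)
  have d3 := hdisj b (a * b) (by rw [hbo, habo]; nlinarith)
  have hle := Finset.card_le_card (Finset.union_subset (Finset.union_subset (hsub a ha ha1)
    (hsub b hb hb1)) (hsub _ (Q.mul_mem ha hb) hab1))
  rw [Finset.card_union_of_disjoint (Finset.disjoint_union_left.2 ⟨d2, d3⟩),
    Finset.card_union_of_disjoint d1, Finset.card_erase_of_mem (by simp),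
    show (Finset.univ.filter fun y => y ∈ Q).card = Nat.card Q by
      rw [Nat.card_eq_fintype_card, Fintype.card_subtype]] at hle
  have h3 := Nat.mul_le_mul_left (Nat.card Q) hle
  have h4 := horb_card a ha ha1
  have h5 := horb_card b hb hb1
  have h6 := horb_card _ (Q.mul_mem ha hb) hab1
  have hNpos : 0 < Nat.card N := Nat.card_pos
  nlinarith

/-- A simple group as in the conclusion of the Brauer–Suzuki–Wall theorem is `PSL(2, q)`. -/
theorem psl_of_concl [IsSimpleGroup G] (h : Concl G) :
    ∃ (F : Type) (_ : Field F) (_ : Fintype F), Odd (Fintype.card F) ∧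
      Nonempty (G ≃* Matrix.ProjectiveSpecialLinearGroup (Fin 2) F) := by
  classical
  obtain ⟨Q, D, hcard, hC, -, hqD, hinf, hNQ, -⟩ := h
  set q := Nat.card Q with hq
  have hq1 : 1 < q := by
    by_contra hle
    have hq1 : q = 1 := by
      have := Nat.card_pos (α := Q)
      omega
    rw [hq1] at hcard
    have := Nat.card_pos (α := G)
    simp at hcard
    omega
  have hDle : D ≤ Subgroup.normalizer (Q : Set G) := by rw [hNQ]; exact le_sup_right
  have hco : Nat.Coprime q (Nat.card D) := by rw [← hqD]; simp [Nat.coprime_mul_left_add_left, mul_comm]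
  have hN : Nat.card (Subgroup.normalizer (Q : Set G)) = q * Nat.card D := by
    refine Nat.dvd_antisymm ?_ (hco.mul_dvd_of_dvd_of_dvd
      (Subgroup.card_dvd_of_le Subgroup.le_normalizer) (Subgroup.card_dvd_of_le hDle))
    haveI : (Q.subgroupOf (Subgroup.normalizer (Q : Set G))).Normal := Subgroup.normal_in_normalizer
    have h1 : (Q.subgroupOf (Subgroup.normalizer (Q : Set G))) ⊔
        (D.subgroupOf (Subgroup.normalizer (Q : Set G))) = ⊤ := by
      rw [← Subgroup.subgroupOf_sup Subgroup.le_normalizer hDle, ← hNQ, Subgroup.subgroupOf_self]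
    have h2 := CfsgLib.PCore.card_sup_dvd_mul (Q.subgroupOf (Subgroup.normalizer (Q : Set G)))
      (D.subgroupOf (Subgroup.normalizer (Q : Set G)))
    rwa [h1, Subgroup.card_top,
      Nat.card_congr (Subgroup.subgroupOfEquivOfLe Subgroup.le_normalizer).toEquiv,
      Nat.card_congr (Subgroup.subgroupOfEquivOfLe hDle).toEquiv] at h2
  obtain ⟨p, f, hp, hf, hqpf⟩ := primePow_of_two_orbits hC hq1 (by
    rw [hN, ← hq, show q - 1 = 2 * Nat.card D by omega]; ring)
  haveI : Fact p.Prime := ⟨hp⟩
  have hqodd : Odd q := ⟨Nat.card D, by omega⟩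
  have hdvd : 2 ∣ q ^ 2 - 1 := by
    have : Odd (q ^ 2) := hqodd.pow
    exact (Nat.Odd.sub_odd this odd_one).two_dvd
  set A := (q ^ 2 - 1) / 2 with hA
  have hdA : 2 * A = q ^ 2 - 1 := Nat.mul_div_cancel' hdvd
  have hGA : Nat.card G = q * A := by
    have h1 : (q + 1) * (q - 1) = q ^ 2 - 1 := by
      have := Nat.sq_sub_sq q 1
      rw [one_pow] at this
      exact this.symm
    rw [mul_assoc, h1, ← hdA] at hcard
    linarith
  have hqpf' : q = p ^ f := hqpf
  have hpq : p ∣ q := by rw [hqpf']; exact dvd_pow_self p (by omega)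
  have hnA : ¬ p ∣ A := by
    intro hd
    have h1 : p ∣ q ^ 2 - 1 := hdA ▸ hd.mul_left 2
    have h2 : p ∣ q ^ 2 := hpq.pow two_ne_zero
    have h3 := Nat.dvd_sub h2 h1
    rw [show q ^ 2 - (q ^ 2 - 1) = 1 by have := pow_pos (by omega : 0 < q) 2; omega] at h3
    exact hp.one_lt.ne' (Nat.dvd_one.1 h3)
  have hApos : 0 < A := Nat.pos_of_ne_zero fun e => hnA (e ▸ dvd_zero p)
  let P : Sylow p G := Sylow.ofCard Q (by
    rw [hGA, Nat.factorization_mul (by omega) hApos.ne', Finsupp.add_apply,
      Nat.factorization_eq_zero_of_not_dvd hnA, add_zero, hqpf', hp.factorization_pow,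
      Finsupp.single_eq_same]; exact hqpf)
  have hP : (P : Subgroup G) = Q := Sylow.coe_ofCard _ _
  by_cases hq3 : q = 3
  · -- `|G| = 12`
    exfalso
    have hp3 : p = 3 := (Nat.prime_dvd_prime_iff_eq hp Nat.prime_three).1 (hq3 ▸ hpq)
    have hNle : Subgroup.normalizer ((P : Subgroup G) : Set G) ≤
        Subgroup.centralizer ((P : Subgroup G) : Set G) := by
      rw [hP]
      have hD1 : Nat.card D = 1 := by omega
      have hNeq : Subgroup.normalizer (Q : Set G) = Q :=
        (Subgroup.eq_of_le_of_card_ge Subgroup.le_normalizer (by rw [hN, hD1, mul_one, hq])).symm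
      rw [hNeq]
      intro a ha
      rw [Subgroup.mem_centralizer_iff]
      intro b hb
      by_cases hb1 : b = 1
      · rw [hb1, mul_one, one_mul]
      · have := (hC b hb hb1).symm ▸ ha
        exact (Subgroup.mem_centralizer_singleton_iff.1 this).symm
    have hcomp := MonoidHom.ker_transferSylow_isComplement' P hNle
    have hPc : Nat.card (P : Subgroup G) = 3 := by rw [hP, ← hq, hq3]
    have hA4 : A = 4 := by rw [hA, hq3]; norm_num
    have hmul := hcomp.card_mul_card
    rw [hPc, hGA, hA4, hq3] at hmul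
    rcases IsSimpleGroup.eq_bot_or_eq_top_of_normal (MonoidHom.transferSylow P hNle).ker
      inferInstance with e | e <;> rw [e] at hmul
    · rw [Subgroup.card_bot] at hmul
      omega
    · rw [Subgroup.card_top, hGA, hA4, hq3] at hmul
      omega
  have hq5 : 5 ≤ q := by
    rcases hqodd with ⟨c, hc⟩
    omega
  have hcentp : ∀ v : G, v ≠ 1 → (∃ k, v ^ p ^ k = 1) →
      IsPGroup p (Subgroup.centralizer ({v} : Set G)) ∧
        q ∣ Nat.card (Subgroup.centralizer ({v} : Set G)) := by
    intro v hv ⟨k, hk⟩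
    have hpg : IsPGroup p (Subgroup.zpowers v) := by
      obtain ⟨j, -, hj⟩ := (Nat.dvd_prime_pow hp).1 (orderOf_dvd_of_pow_eq_one hk)
      exact IsPGroup.of_card (by rw [Nat.card_zpowers, hj])
    obtain ⟨P', hP'⟩ := hpg.exists_le_sylow
    obtain ⟨g, hg⟩ := MulAction.exists_smul_eq G P' P
    have hgv : g * v * g⁻¹ ∈ Q := by
      rw [← hP, ← hg, Sylow.smul_def]
      exact ⟨v, hP' (Subgroup.mem_zpowers v), rfl⟩
    have hmap : (Subgroup.centralizer ({v} : Set G)).map (MulAut.conj g).toMonoidHom = Q := by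
      rw [← hC _ hgv fun e => hv (conj_eq_one_iff.1 e)]
      ext b
      rw [mem_map_conj, Subgroup.mem_centralizer_singleton_iff,
        Subgroup.mem_centralizer_singleton_iff]
      constructor
      · intro e
        calc b * (g * v * g⁻¹) = g * (g⁻¹ * b * g * v) * g⁻¹ := by group
          _ = g * (v * (g⁻¹ * b * g)) * g⁻¹ := by rw [e]
          _ = g * v * g⁻¹ * b := by group
      · intro e
        calc g⁻¹ * b * g * v = g⁻¹ * (b * (g * v * g⁻¹)) * g := by group
          _ = g⁻¹ * (g * v * g⁻¹ * b) * g := by rw [e]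
          _ = v * (g⁻¹ * b * g) := by group
    have hcard' : Nat.card (Subgroup.centralizer ({v} : Set G)) = q := by
      rw [← Subgroup.card_map_of_injective (f := (MulAut.conj g).toMonoidHom)
        (MulAut.conj g).injective, hmap]
    exact ⟨IsPGroup.of_card (hcard'.trans hqpf), hcard' ▸ dvd_rfl⟩
  have hData : CfsgLib.Recog.CentralSylowTI.Data G p q A 2 :=
    { prime := hp
      isPow := ⟨f, hf, hqpf⟩
      dle := le_rfl
      dA := hdA
      dlt := by omega
      nA := hnA
      card := hGA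
      cent := hcentp }
  have hnr : CfsgLib.Recog.CentralSylowPSLTwo.NoRegular G q A := by
    intro r hr hrA
    haveI : Fact r.Prime := ⟨hr⟩
    obtain ⟨R⟩ := (inferInstance : Nonempty (Sylow r G))
    have hrG : r ∣ Nat.card G := hGA ▸ hrA.mul_left q
    haveI : Nontrivial (R : Subgroup G) :=
      (Subgroup.nontrivial_iff_ne_bot _).2 (R.ne_bot_of_dvd_card hrG)
    haveI := R.isPGroup'.center_nontrivial
    obtain ⟨w, hw⟩ := exists_ne (1 : Subgroup.center (R : Subgroup G))
    refine ⟨((w : (R : Subgroup G)) : G), fun e => hw (Subtype.ext (Subtype.ext e)), ⟨R, fun y hy => ?_⟩,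
      fun _ hidx => ?_⟩
    · rw [Subgroup.mem_centralizer_singleton_iff]
      exact congrArg Subtype.val (Subgroup.mem_center_iff.1 w.2 ⟨y, hy⟩)
    · have hprime := CfsgLib.Burnside.prime_card_of_prime_power_class hp
        (fun e => hw (Subtype.ext (Subtype.ext e))) (hidx.trans hqpf)
      rw [hGA] at hprime
      rcases Nat.prime_mul_iff.1 hprime with ⟨-, e⟩ | ⟨-, e⟩
      · have h25 : 25 ≤ q ^ 2 := Nat.pow_le_pow_left hq5 2
        omega
      · omega
  obtain ⟨F, iF, iT, hF, hiso⟩ :=
    CfsgLib.Recog.CentralSylowPSLTwo.odd_case hData rfl hq5 hnr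
  exact ⟨F, iF, iT, hF ▸ hqodd, hiso⟩

end CfsgLib.BSW
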