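import Cfsg.Agent.Lib.BSW.Local
import Cfsg.Agent.Lib.Characters.Values
import Cfsg.Agent.Lib.Characters.Generalized

/-!
# Character sums over products of two involutions
-/

set_option autoImplicit false
set_option linter.style.haveILetI false

namespace CfsgLib.BSW

open Cfsg CfsgLib.Characters CfsgLib.InvChar CfsgLib.Involutions
open scoped ComplexConjugate

variable {G : Type*} [Group G] [Fintype G] {t : G}

theorem sum_class_product [DecidableRel (IsConj : G → G → Prop)] (χ : IrrCharacter G) (t : G) :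
    ∑ a ∈ Finset.univ.filter (IsConj t), ∑ b ∈ Finset.univ.filter (IsConj t),
        (χ : G → ℂ) (a * b) =
      ((Nat.card {x : G // IsConj t x} : ℂ)) ^ 2 * ((χ : G → ℂ) t ^ 2 / (χ : G → ℂ) 1) := by
  obtain ⟨χ', n, ρ, hρ, rfl⟩ := χ
  haveI := hρ
  have hnc : (n : ℂ) ≠ 0 := by
    have h := irr_one_ne_zero (⟨ρ.character, n, ρ, hρ, rfl⟩ : IrrCharacter G)
    simpa [Representation.char_one] using h
  have hf : funEnd ρ (fun x => if IsConj t x then (1 : ℂ) else 0) =
      ∑ a ∈ Finset.univ.filter (IsConj t), ρ a := by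
    simp [funEnd, Finset.sum_filter, ite_smul]
  have h := congrArg (fun T => LinearMap.trace ℂ _ (T * T)) (funEnd_classSum ρ t)
  simp only [hf, Finset.sum_mul, Finset.mul_sum, map_sum, ← map_mul, smul_mul_assoc,
    mul_smul_comm, smul_smul, map_smul, one_mul, LinearMap.trace_one, smul_eq_mul] at h
  simp only [Module.finrank_fin_fun] at h
  show ∑ a ∈ _, ∑ b ∈ _, ρ.character (a * b) = _ * (ρ.character t ^ 2 / ρ.character 1)
  rw [Representation.char_one, Module.finrank_fin_fun]
  rw [Finset.sum_comm]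
  refine (Eq.trans ?_ h).trans ?_
  · rfl
  · field_simp

theorem sum_pairs_apply (f : G → ℂ) :
    ∑ a ∈ invs G, ∑ b ∈ invs G, f (a * b) = ∑ x : G, f x * ((invPairs x).card : ℂ) := by
  classical
  calc ∑ a ∈ invs G, ∑ b ∈ invs G, f (a * b)
      = ∑ a ∈ invs G, ∑ x : G, if a * x ∈ invs G then f x else 0 := by
        refine Finset.sum_congr rfl fun a ha => ?_
        rw [← Finset.sum_filter]
        refine Finset.sum_equiv (Equiv.mulLeft a) (fun b => ?_) fun b _ => rfl
        rw [Equiv.coe_mulLeft, Finset.mem_filter, and_iff_right (Finset.mem_univ _), ← mul_assoc,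
          mul_self_eq_one (mem_invs.1 ha), one_mul]
    _ = ∑ x : G, f x * ((invPairs x).card : ℂ) := by
        rw [Finset.sum_comm]
        refine Finset.sum_congr rfl fun x _ => ?_
        rw [← Finset.sum_filter, Finset.sum_const, nsmul_eq_mul, mul_comm]
        congr 3

theorem isClassFunction_card_invPairs :
    IsClassFunction G fun x => ((invPairs x).card : ℂ) := fun x g => by
  simp only [Setup.invPairs_conj]

variable {K : Subgroup G} {s : G}

theorem Setup.sum_pairs_irr (h : Setup K t s) (χ : IrrCharacter G) :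
    ∑ a ∈ invs G, ∑ b ∈ invs G, (χ : G → ℂ) (a * b) =
      ((invs G).card : ℂ) ^ 2 * ((χ : G → ℂ) t ^ 2 / (χ : G → ℂ) 1) := by
  classical
  have hK : invs G = Finset.univ.filter (IsConj t) := by
    ext y
    simp only [mem_invs, Finset.mem_filter, Finset.mem_univ, true_and]
    exact ⟨fun hy => h.hconj t y h.ht hy, fun hy => (orderOf_eq_of_isConj hy).trans h.ht⟩
  rw [hK, sum_class_product, Nat.card_eq_fintype_card, Fintype.card_subtype]

/-- The structure constant as a linear functional of the coefficients. -/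
theorem Setup.sum_coeff (h : Setup K t s) {f : G → ℂ} (hf : IsClassFunction G f) :
    ((invs G).card : ℂ) ^ 2 *
        ∑ χ : IrrCharacter G, classInner f (χ : G → ℂ) * ((χ : G → ℂ) t ^ 2 / (χ : G → ℂ) 1) =
      ∑ x : G, f x * ((invPairs x).card : ℂ) := by
  rw [← sum_pairs_apply]
  conv_rhs => rw [classFunction_eq_sum hf]
  simp only [Finset.sum_apply, Pi.smul_apply, smul_eq_mul]
  rw [Finset.sum_congr rfl (fun a _ => Finset.sum_comm), Finset.sum_comm, Finset.mul_sum]
  refine Finset.sum_congr rfl fun χ _ => ?_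
  simp only [← Finset.mul_sum, h.sum_pairs_irr]
  ring

/-- The number of inverting involutions of an element, by characters. -/
theorem Setup.card_invPairs_eq_sum (h : Setup K t s) (x : G) :
    (Nat.card G : ℂ) * ((invPairs x).card : ℂ) = ((invs G).card : ℂ) ^ 2 *
      ∑ χ : IrrCharacter G, conj ((χ : G → ℂ) x) * ((χ : G → ℂ) t ^ 2 / (χ : G → ℂ) 1) := by
  classical
  let f : G → ℂ := fun y => if IsConj x y then 1 else 0
  have h1 := h.sum_coeff (isClassFunction_isConj x : IsClassFunction G f)
  have h2 : ∀ χ : IrrCharacter G, classInner f (χ : G → ℂ) =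
      (Nat.card G : ℂ)⁻¹ * (Nat.card {y : G // IsConj x y} : ℂ) * conj ((χ : G → ℂ) x) := by
    intro χ
    simp only [classInner, f, ite_mul, one_mul, zero_mul, ← Finset.sum_filter, mul_assoc]
    congr 1
    rw [Finset.sum_congr rfl (fun y hy => by
      rw [← classFunction_eq_of_isConj (irr_isClassFunction χ) (Finset.mem_filter.mp hy).2]),
      Finset.sum_const, nsmul_eq_mul, Nat.card_eq_fintype_card, Fintype.card_subtype]
  have h3 : ∑ y : G, f y * ((invPairs y).card : ℂ) =
      (Nat.card {y : G // IsConj x y} : ℂ) * ((invPairs x).card : ℂ) := by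
    simp only [f, ite_mul, one_mul, zero_mul, ← Finset.sum_filter]
    rw [Finset.sum_congr rfl (fun y hy => by
      rw [← classFunction_eq_of_isConj isClassFunction_card_invPairs (Finset.mem_filter.mp hy).2]),
      Finset.sum_const, nsmul_eq_mul, Nat.card_eq_fintype_card, Fintype.card_subtype]
  rw [h3, Finset.sum_congr rfl (g := fun χ : IrrCharacter G =>
      (Nat.card G : ℂ)⁻¹ * (Nat.card {y : G // IsConj x y} : ℂ) *
        (conj ((χ : G → ℂ) x) * ((χ : G → ℂ) t ^ 2 / (χ : G → ℂ) 1)))
    (fun χ _ => by rw [h2, mul_assoc]), ← Finset.mul_sum] at h1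
  haveI : Nonempty {y : G // IsConj x y} := ⟨⟨x, IsConj.refl x⟩⟩
  have hne : (Nat.card {y : G // IsConj x y} : ℂ) ≠ 0 := Nat.cast_ne_zero.2 Nat.card_pos.ne'
  have hG : (Nat.card G : ℂ) ≠ 0 := Nat.cast_ne_zero.2 Nat.card_pos.ne'
  refine mul_left_cancel₀ hne ?_
  rw [mul_left_comm, ← h1]
  field_simp

end CfsgLib.BSW
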