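import Mathlib.Algebra.BigOperators.Ring.Finset
import Mathlib.Algebra.Order.BigOperators.Group.Finset
import Mathlib.Algebra.Order.Ring.Int
import Mathlib.Data.Fintype.BigOperators
import Mathlib.Data.Rat.Cast.Order
import Mathlib.Tactic.FieldSimp
import Mathlib.Tactic.LinearCombination
import Mathlib.Tactic.Linarith
import Mathlib.Tactic.Ring

/-!
# Integral coefficient vectors of the exceptional family in the Brauer–Suzuki–Wall configuration
-/

set_option autoImplicit false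

namespace CfsgLib.BSW.Coeff

variable {ι : Type*} [Fintype ι]

theorem pm_of_sum_sq {v : ι → ℤ} {m : ℤ} (h : ∑ i, v i ^ 2 = m) (hm : m ≤ 3) (i : ι) :
    v i = -1 ∨ v i = 0 ∨ v i = 1 := by
  have h1 : v i ^ 2 ≤ 3 := (Finset.single_le_sum (fun j _ => sq_nonneg (v j))
    (Finset.mem_univ i)).trans (h.le.trans hm)
  have h2 : -2 < v i := by nlinarith
  have h3 : v i < 2 := by nlinarith
  omega

theorem card_support [DecidableEq ι] {v : ι → ℤ} {m : ℕ} (h : ∑ i, v i ^ 2 = (m : ℤ))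
    (hm : m ≤ 3) : (Finset.univ.filter fun i => v i ≠ 0).card = m := by
  have hs : ∑ i ∈ Finset.univ.filter (fun i => v i ≠ 0), v i ^ 2 = (m : ℤ) := by
    rw [← h]
    exact Finset.sum_subset (Finset.subset_univ _) fun i _ hi => by simp_all
  rw [Finset.sum_congr rfl (g := fun _ => (1 : ℤ)) fun i hi => by
    rcases pm_of_sum_sq h (by exact_mod_cast hm) i with e | e | e <;> simp_all] at hs
  simpa using hs

theorem exists_two {v : ι → ℤ} (h : ∑ i, v i ^ 2 = 2) :
    ∃ a b, a ≠ b ∧ v a ≠ 0 ∧ v b ≠ 0 ∧ ∀ i, i ≠ a → i ≠ b → v i = 0 := by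
  classical
  obtain ⟨a, b, hab, hs⟩ := Finset.card_eq_two.1 (card_support (m := 2) h (by norm_num))
  have hm : ∀ i, v i ≠ 0 ↔ i = a ∨ i = b := fun i => by
    have := Finset.ext_iff.1 hs i
    simpa using this
  exact ⟨a, b, hab, (hm a).2 (Or.inl rfl), (hm b).2 (Or.inr rfl), fun i hia hib =>
    by_contra fun hi => ((hm i).1 hi).elim hia hib⟩

theorem exists_third {v : ι → ℤ} (h : ∑ i, v i ^ 2 = 3) {a b : ι} (hab : a ≠ b) (ha : v a ≠ 0)
    (hb : v b ≠ 0) :
    ∃ c, c ≠ a ∧ c ≠ b ∧ v c ≠ 0 ∧ ∀ i, i ≠ a → i ≠ b → i ≠ c → v i = 0 := by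
  classical
  have hc := card_support (m := 3) h le_rfl
  set s := Finset.univ.filter fun i => v i ≠ 0
  have h1 : ((s.erase a).erase b).card = 1 := by
    rw [Finset.card_erase_of_mem, Finset.card_erase_of_mem, hc] <;> simp [s, ha, hb, hab.symm]
  obtain ⟨c, hc1⟩ := Finset.card_eq_one.1 h1
  have hm : c ∈ (s.erase a).erase b := hc1 ▸ Finset.mem_singleton_self c
  simp only [Finset.mem_erase, s, Finset.mem_filter, Finset.mem_univ, true_and] at hm
  refine ⟨c, hm.2.1, hm.1, hm.2.2, fun i hia hib hic => by_contra fun hi => hic ?_⟩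
  exact Finset.mem_singleton.1 (hc1 ▸ by simp [s, hia, hib, hi])

theorem exists_three {v : ι → ℤ} (h : ∑ i, v i ^ 2 = 3) {a : ι} (ha : v a ≠ 0) :
    ∃ b c, b ≠ a ∧ c ≠ a ∧ c ≠ b ∧ v b ≠ 0 ∧ v c ≠ 0 ∧
      ∀ i, i ≠ a → i ≠ b → i ≠ c → v i = 0 := by
  classical
  obtain ⟨b, hb, hba⟩ := Finset.exists_mem_ne
    (s := Finset.univ.filter fun i => v i ≠ 0) (by rw [card_support (m := 3) h le_rfl]; norm_num) a
  have hb' := (Finset.mem_filter.1 hb).2
  obtain ⟨c, hca, hcb, hc, hrest⟩ := exists_third h hba.symm ha hb'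
  exact ⟨b, c, hba, hca, hcb, hb', hc, hrest⟩

theorem sum_two {R : Type*} [CommRing R] {v : ι → ℤ} {a b : ι} (hab : a ≠ b)
    (h0 : ∀ i, i ≠ a → i ≠ b → v i = 0) (g : ι → R) :
    ∑ i, (v i : R) * g i = v a * g a + v b * g b := by
  classical
  rw [← Finset.sum_subset (Finset.subset_univ {a, b}), Finset.sum_pair hab]
  intro i _ hi
  simp only [Finset.mem_insert, Finset.mem_singleton, not_or] at hi
  rw [h0 i hi.1 hi.2, Int.cast_zero, zero_mul]

theorem sum_three {R : Type*} [CommRing R] {v : ι → ℤ} {a b c : ι} (hab : a ≠ b) (hac : a ≠ c)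
    (hbc : b ≠ c) (h0 : ∀ i, i ≠ a → i ≠ b → i ≠ c → v i = 0) (g : ι → R) :
    ∑ i, (v i : R) * g i = v a * g a + v b * g b + v c * g c := by
  classical
  rw [← Finset.sum_subset (Finset.subset_univ {a, b, c}), Finset.sum_insert (by simp [hab, hac]),
    Finset.sum_pair hbc, add_assoc]
  intro i _ hi
  simp only [Finset.mem_insert, Finset.mem_singleton, not_or] at hi
  rw [h0 i hi.1 hi.2.1 hi.2.2, Int.cast_zero, zero_mul]

/-- A term `χ(t)^2 / χ(1)` carried by a coefficient `±1`, in signed values. -/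
theorem term_eq {v d z : ℤ} (hv : v = 1 ∨ v = -1) :
    (v : ℚ) * ((z : ℚ) ^ 2 / d) = ((v * z : ℤ) : ℚ) ^ 2 / ((v * d : ℤ) : ℚ) := by
  rcases hv with rfl | rfl
  · simp
  · push_cast
    rw [neg_one_mul, neg_one_mul, neg_one_mul, div_neg, neg_sq]

/-- The data: vectors `V l` of norm `2`, pairwise overlapping in one, and `u` of norm `3`, with
prescribed degree, value and `χ(t)^2 / χ(1)`-sum. -/
structure Data (d z : ι → ℤ) {Λ : Type*} (V : Λ → ι → ℤ) (e : Λ → ℤ) (u : ι → ℤ) (f : ℤ) (ℓ : ℚ)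
    (c : ℕ) : Prop where
  d_ne : ∀ i, d i ≠ 0
  norm : ∀ l, ∑ i, V l i ^ 2 = 2
  dot : ∀ l m, V l ≠ V m → ∑ i, V l i * V m i = 1
  deg : ∀ l, ∑ i, V l i * d i = -1
  val : ∀ l, ∑ i, V l i * z i = 1 - 2 * e l
  ell : ∀ l, ∑ i, (V l i : ℚ) * ((z i : ℚ) ^ 2 / d i) = ℓ
  u_norm : ∑ i, u i ^ 2 = 3
  u_dot : ∀ l, ∑ i, u i * V l i = 1
  u_deg : ∑ i, u i * d i = -1
  u_val : ∑ i, u i * z i = 1 - 2 * f
  u_ell : ∑ i, (u i : ℚ) * ((z i : ℚ) ^ 2 / d i) = ℓ
  ell_ne : ℓ ≠ -1
  f_pm : f = 1 ∨ f = -1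
  col : ∑ i, z i ^ 2 = 4 * c + 3
  count : ∀ s : Finset Λ, (∀ l ∈ s, ∀ m ∈ s, V l = V m → l = m) → s.card ≤ c
  count' : ∃ s : Finset Λ, (∀ l ∈ s, ∀ m ∈ s, V l = V m → l = m) ∧ s.card = c
  cases : (∃ l m, e l = -1 ∧ e m = 1) ∨ (c = 1 ∧ f = 1 ∧ ∀ l, e l = -1)

variable {d z : ι → ℤ} {Λ : Type*} {V : Λ → ι → ℤ} {e : Λ → ℤ} {u : ι → ℤ} {f : ℤ} {ℓ : ℚ}
  {c : ℕ}

namespace Data

theorem pm (D : Data d z V e u f ℓ c) {l : Λ} {i : ι} (hi : V l i ≠ 0) :
    V l i = 1 ∨ V l i = -1 := by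
  rcases pm_of_sum_sq (D.norm l) (by norm_num) i with h | h | h
  exacts [Or.inr h, absurd h hi, Or.inl h]

theorem u_pm (D : Data d z V e u f ℓ c) {i : ι} (hi : u i ≠ 0) : u i = 1 ∨ u i = -1 := by
  rcases pm_of_sum_sq D.u_norm le_rfl i with h | h | h
  exacts [Or.inr h, absurd h hi, Or.inl h]

theorem ne_of_e (D : Data d z V e u f ℓ c) {l m : Λ} (h : e l ≠ e m) : V l ≠ V m := by
  intro h'
  have := D.val m
  rw [← h', D.val l] at this
  omega

/-- The common constituent. -/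
theorem exists_common (D : Data d z V e u f ℓ c) :
    ∃ a, (u a = 1 ∨ u a = -1) ∧ u a * z a = 1 ∧ ∀ l, V l a = u a := by
  classical
  rcases D.cases with ⟨l, m, hl, hm⟩ | ⟨hc, hf, he⟩
  · have hne : V l ≠ V m := D.ne_of_e (by omega)
    obtain ⟨a₀, b₀, hab₀, ha₀, hb₀, h0₀⟩ := exists_two (D.norm l)
    have hd₀ := sum_two hab₀ h0₀ (V m)
    simp only [Int.cast_id] at hd₀
    rw [D.dot l m hne] at hd₀
    obtain ⟨a, b, hab, ha, hb, h0, hma, hmb⟩ : ∃ a b, a ≠ b ∧ V l a ≠ 0 ∧ V l b ≠ 0 ∧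
        (∀ i, i ≠ a → i ≠ b → V l i = 0) ∧ V m a = V l a ∧ V m b = 0 := by
      rcases D.pm ha₀ with e1 | e1 <;> rcases D.pm hb₀ with e2 | e2 <;>
        rcases pm_of_sum_sq (D.norm m) (by norm_num) a₀ with e3 | e3 | e3 <;>
        rcases pm_of_sum_sq (D.norm m) (by norm_num) b₀ with e4 | e4 | e4 <;>
        rw [e1, e2, e3, e4] at hd₀ <;>
        first
          | omega
          | exact ⟨a₀, b₀, hab₀, ha₀, hb₀, h0₀, by omega, e4⟩
          | exact ⟨b₀, a₀, hab₀.symm, hb₀, ha₀, fun i h1 h2 => h0₀ i h2 h1, by omega, e3⟩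
    obtain ⟨a', c', hac', ha', hc', h0'⟩ := exists_two (D.norm m)
    obtain ⟨c1, hca, hmc, hm0⟩ : ∃ c1, c1 ≠ a ∧ V m c1 ≠ 0 ∧
        ∀ i, i ≠ a → i ≠ c1 → V m i = 0 := by
      have : a = a' ∨ a = c' := by
        by_contra hcon
        push Not at hcon
        exact ha (hma ▸ h0' a hcon.1 hcon.2)
      rcases this with rfl | rfl
      · exact ⟨c', hac'.symm, hc', h0'⟩
      · exact ⟨a', hac', ha', fun i h1 h2 => h0' i h2 h1⟩
    have hcb : c1 ≠ b := fun h => hmc (h ▸ hmb)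
    have hlc : V l c1 = 0 := h0 c1 hca hcb
    have degl := sum_two hab h0 d
    have degm := sum_two hca.symm hm0 d
    simp only [Int.cast_id] at degl degm
    rw [D.deg] at degl degm
    rw [hma] at degm
    have vall := sum_two hab h0 z
    have valm := sum_two hca.symm hm0 z
    simp only [Int.cast_id] at vall valm
    rw [D.val] at vall valm
    rw [hma] at valm
    rw [hl] at vall
    rw [hm] at valm
    have elll := sum_two hab h0 fun i => (z i : ℚ) ^ 2 / d i
    have ellm := sum_two hca.symm hm0 fun i => (z i : ℚ) ^ 2 / d i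
    simp only [D.ell] at elll ellm
    rw [term_eq (D.pm ha), term_eq (D.pm hb)] at elll
    rw [hma, term_eq (D.pm ha), term_eq (D.pm hmc)] at ellm
    have hBne : V l a * d a ≠ 0 := mul_ne_zero ha (D.d_ne a)
    have hCne : V m c1 * d c1 ≠ 0 := mul_ne_zero hmc (D.d_ne c1)
    set B := V l a * d a with hB
    set y := V l a * z a with hy
    have hC : V m c1 * d c1 = -1 - B := by omega
    have hD : V l b * d b = -1 - B := by omega
    have hzb : V l b * z b = 3 - y := by omega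
    have hzc : V m c1 * z c1 = -1 - y := by omega
    rw [hC] at hCne
    rw [hD, hzb] at elll
    rw [hC, hzc] at ellm
    have hBq : (B : ℚ) ≠ 0 := by exact_mod_cast hBne
    have hCq : ((-1 - B : ℤ) : ℚ) ≠ 0 := by exact_mod_cast hCne
    have hy1 : y = 1 := by
      have : ((3 - y : ℤ) : ℚ) ^ 2 / ((-1 - B : ℤ) : ℚ) = ((-1 - y : ℤ) : ℚ) ^ 2 / ((-1 - B : ℤ) : ℚ) := by
        linarith
      rw [div_left_inj' hCq] at this
      have h2 : (3 - y) ^ 2 = (-1 - y) ^ 2 := by exact_mod_cast this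
      nlinarith
    have hall : ∀ p, V p a = V l a := by
      intro p
      by_cases hpl : V p = V l
      · rw [hpl]
      by_cases hpm : V p = V m
      · rw [hpm, hma]
      have d1 := sum_two hab h0 (V p)
      have d2 := sum_two hca.symm hm0 (V p)
      simp only [Int.cast_id] at d1 d2
      rw [D.dot l p (Ne.symm hpl)] at d1
      rw [D.dot m p (Ne.symm hpm), hma] at d2
      by_contra hpa
      have hbd : V p a = 0 ∧ V p b = V l b ∧ V p c1 = V m c1 := by
        rcases D.pm ha with e1 | e1 <;> rcases D.pm hb with e2 | e2 <;>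
          rcases D.pm hmc with e3 | e3 <;>
          rcases pm_of_sum_sq (D.norm p) (by norm_num) a with e4 | e4 | e4 <;>
          rcases pm_of_sum_sq (D.norm p) (by norm_num) b with e5 | e5 | e5 <;>
          rcases pm_of_sum_sq (D.norm p) (by norm_num) c1 with e6 | e6 | e6 <;>
          simp only [e1, e2, e3, e4, e5, e6] at d1 d2 hpa ⊢ <;> (revert d1 d2 hpa; norm_num)
      have hp0 : ∀ i, i ≠ b → i ≠ c1 → V p i = 0 := by
        intro i hib hic
        by_contra hi
        have hsum := Finset.sum_le_sum_of_subset_of_nonneg (f := fun j => V p j ^ 2)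
          (Finset.subset_univ {b, c1, i}) fun j _ _ => sq_nonneg _
        rw [D.norm p, Finset.sum_insert (by simp [hcb.symm, hib.symm]),
          Finset.sum_pair hic.symm, hbd.2.1, hbd.2.2] at hsum
        have e1 : V l b ^ 2 = 1 := by rcases D.pm hb with e | e <;> rw [e] <;> norm_num
        have e2 : V m c1 ^ 2 = 1 := by rcases D.pm hmc with e | e <;> rw [e] <;> norm_num
        have e3 : V p i ^ 2 = 1 := by rcases D.pm hi with e | e <;> rw [e] <;> norm_num
        omega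
      have degp := sum_two hcb.symm hp0 d
      simp only [Int.cast_id] at degp
      rw [D.deg, hbd.2.1, hbd.2.2, hC, hD] at degp
      omega
    refine ⟨a, ?_⟩
    suffices hua : u a = V l a by
      rw [hua]
      exact ⟨D.pm ha, hy1, hall⟩
    have d1 := sum_two hab h0 u
    have d2 := sum_two hca.symm hm0 u
    simp only [Int.cast_id] at d1 d2
    have swap : ∀ p, ∑ i, V p i * u i = 1 := fun p => by
      rw [← D.u_dot p]
      exact Finset.sum_congr rfl fun i _ => mul_comm _ _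
    rw [swap] at d1 d2
    rw [hma] at d2
    by_contra hua
    have hbd : u a = 0 ∧ u b = V l b ∧ u c1 = V m c1 := by
      rcases D.pm ha with e1 | e1 <;> rcases D.pm hb with e2 | e2 <;>
        rcases D.pm hmc with e3 | e3 <;>
        rcases pm_of_sum_sq D.u_norm le_rfl a with e4 | e4 | e4 <;>
        rcases pm_of_sum_sq D.u_norm le_rfl b with e5 | e5 | e5 <;>
        rcases pm_of_sum_sq D.u_norm le_rfl c1 with e6 | e6 | e6 <;>
        simp only [e1, e2, e3, e4, e5, e6] at d1 d2 hua ⊢ <;> (revert d1 d2 hua; norm_num)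
    obtain ⟨g, hgb, hgc, hg, hg0⟩ := exists_third D.u_norm hcb.symm (hbd.2.1 ▸ hb)
      (hbd.2.2 ▸ hmc)
    have degu := sum_three hcb.symm hgb.symm hgc.symm hg0 d
    have valu := sum_three hcb.symm hgb.symm hgc.symm hg0 z
    simp only [Int.cast_id] at degu valu
    rw [D.u_deg, hbd.2.1, hbd.2.2, hC, hD] at degu
    rw [D.u_val, hbd.2.1, hbd.2.2, hzb, hzc, hy1] at valu
    have hE : u g * d g = 2 * B + 1 := by omega
    have hZ : u g * z g = 1 - 2 * f := by omega
    have ellu := sum_three hcb.symm hgb.symm hgc.symm hg0 fun i => (z i : ℚ) ^ 2 / d i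
    simp only [D.u_ell] at ellu
    rw [hbd.2.1, hbd.2.2, term_eq (D.pm hb), term_eq (D.pm hmc), term_eq (D.u_pm hg),
      hzb, hzc, hC, hD, hE, hZ, hy1] at ellu
    rw [hy1] at elll
    have hEq : ((2 * B + 1 : ℤ) : ℚ) ≠ 0 := by exact_mod_cast (by omega : (2 * B + 1 : ℤ) ≠ 0)
    push_cast at elll ellu hCq hEq
    have hne1 := D.ell_ne
    rcases D.f_pm with rfl | rfl
    · push_cast at ellu
      rw [ellu] at elll
      field_simp at elll
      have h2 : 9 * B * B + 6 * B + 1 = 0 := by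
        have : (9 * B * B + 6 * B + 1 : ℚ) = 0 := by linarith
        exact_mod_cast this
      have h3 : (3 * B + 1) ^ 2 = 0 := by linarith
      rw [pow_eq_zero_iff two_ne_zero] at h3
      omega
    · push_cast at ellu
      have elll' := elll
      rw [ellu] at elll'
      field_simp at elll'
      have h2 : (B - 1) ^ 2 = 0 := by
        have : ((B : ℚ) - 1) ^ 2 = 0 := by linarith
        exact_mod_cast this
      rw [pow_eq_zero_iff two_ne_zero, sub_eq_zero] at h2
      rw [show (B : ℚ) = 1 by exact_mod_cast h2] at elll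
      norm_num at elll
      exact hne1 elll
  · obtain ⟨s, hs, hcard⟩ := D.count'
    obtain ⟨l, hl⟩ := Finset.card_eq_one.1 (hcard.trans hc)
    have hall : ∀ p, V p = V l := fun p => by
      by_contra hp
      have hne : l ≠ p := fun h => hp (by rw [h])
      have := D.count {l, p} (by
        intro x hx y hy hxy
        simp only [Finset.mem_insert, Finset.mem_singleton] at hx hy
        rcases hx with rfl | rfl <;> rcases hy with rfl | rfl
        exacts [rfl, absurd hxy.symm hp, absurd hxy hp, rfl])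
      rw [Finset.card_pair hne, hc] at this
      omega
    obtain ⟨a₀, b₀, hab₀, ha₀, hb₀, h0₀⟩ := exists_two (D.norm l)
    have hd₀ := sum_two hab₀ h0₀ u
    simp only [Int.cast_id] at hd₀
    rw [Finset.sum_congr rfl fun i _ => mul_comm (V l i) (u i), D.u_dot] at hd₀
    obtain ⟨a, b, hab, ha, hb, h0, hua, hub⟩ : ∃ a b, a ≠ b ∧ V l a ≠ 0 ∧ V l b ≠ 0 ∧
        (∀ i, i ≠ a → i ≠ b → V l i = 0) ∧ u a = V l a ∧ u b = 0 := by
      rcases D.pm ha₀ with e1 | e1 <;> rcases D.pm hb₀ with e2 | e2 <;>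
        rcases pm_of_sum_sq D.u_norm le_rfl a₀ with e3 | e3 | e3 <;>
        rcases pm_of_sum_sq D.u_norm le_rfl b₀ with e4 | e4 | e4 <;>
        rw [e1, e2, e3, e4] at hd₀ <;>
        first
          | omega
          | exact ⟨a₀, b₀, hab₀, ha₀, hb₀, h0₀, by omega, e4⟩
          | exact ⟨b₀, a₀, hab₀.symm, hb₀, ha₀, fun i h1 h2 => h0₀ i h2 h1, by omega, e3⟩
    refine ⟨a, by rw [hua]; exact D.pm ha, ?_, fun p => by rw [hall p, hua]⟩
    obtain ⟨p, q, hpa, hqa, hqp, hp, hq, hu0⟩ := exists_three D.u_norm (a := a) (hua ▸ ha)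
    have hpb : p ≠ b := fun h => hp (h ▸ hub)
    have hqb : q ≠ b := fun h => hq (h ▸ hub)
    have vall := sum_two hab h0 z
    have valu := sum_three hpa.symm hqa.symm hqp.symm hu0 z
    simp only [Int.cast_id] at vall valu
    rw [D.val, he l] at vall
    rw [D.u_val, hf, hua] at valu
    have hsum := Finset.sum_le_sum_of_subset_of_nonneg (f := fun j => z j ^ 2)
      (Finset.subset_univ ({a, b, p, q} : Finset ι)) fun j _ _ => sq_nonneg _
    rw [Finset.sum_insert (by simp [hab, hpa.symm, hqa.symm]),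
      Finset.sum_insert (by simp [hpb.symm, hqb.symm]), Finset.sum_pair hqp.symm, D.col, hc, Nat.cast_one] at hsum
    rw [hua]
    have s1 : ∀ {v w : ℤ}, (v = 1 ∨ v = -1) → w ^ 2 = (v * w) ^ 2 := by
      rintro v w (rfl | rfl) <;> ring
    rw [s1 (D.pm ha) (w := z a), s1 (D.pm hb) (w := z b), s1 (D.u_pm hp) (w := z p),
      s1 (D.u_pm hq) (w := z q)] at hsum
    generalize V l a * z a = y at *
    generalize V l b * z b = w at *
    generalize u p * z p = r at *
    generalize u q * z q = r' at *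
    have hw : w = 3 - y := by omega
    have hr : r + r' = -1 - y := by omega
    subst hw
    have h1 : 1 ≤ y := by
      by_contra hcon
      nlinarith [sq_nonneg r, sq_nonneg r']
    have h2 : y ≤ 2 := by
      by_contra hcon
      nlinarith [sq_nonneg r, sq_nonneg r']
    rcases (show y = 1 ∨ y = 2 by omega) with h | h
    · exact h
    · subst h
      exfalso
      have h3 : r + r' = -3 := by omega
      nlinarith [sq_nonneg (r - r'), mul_self_eq_mul_self_iff.2 (Or.inl h3)]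

/-- The structure of the family. -/
theorem exists_family (D : Data d z V e u f ℓ c) :
    ∃ (a P Q : ι) (φ : Λ → ι) (σ : Λ → ℤ) (B : ℤ),
      (u a = 1 ∨ u a = -1) ∧ u a * z a = 1 ∧ u a * d a = B ∧
      ℓ = 1 / (B : ℚ) - 4 / ((B : ℚ) + 1) ∧
      (∀ l, φ l ≠ a ∧ φ l ≠ P ∧ φ l ≠ Q ∧ (σ l = 1 ∨ σ l = -1) ∧ σ l * d (φ l) = -1 - B ∧
        σ l * z (φ l) = -2 * e l ∧ V l a = u a ∧ V l (φ l) = σ l ∧
        ∀ i, i ≠ a → i ≠ φ l → V l i = 0) ∧
      P ≠ a ∧ Q ≠ a ∧ P ≠ Q ∧ 2 * (u P * d P) = -1 - B ∧ 2 * (u Q * d Q) = -1 - B ∧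
      u P * z P = -f ∧ u Q * z Q = -f ∧ (∀ i, i ≠ a → i ≠ P → i ≠ Q → u i = 0) ∧
      (∀ l m, φ l = φ m → V l = V m) ∧
      (∀ i, i ≠ a → i ≠ P → i ≠ Q → (∀ l, i ≠ φ l) → z i = 0) := by
  classical
  obtain ⟨a, hpm, hza, hVa⟩ := D.exists_common
  have hane : u a ≠ 0 := by rcases hpm with h | h <;> rw [h] <;> norm_num
  have hex : ∀ l, ∃ b, b ≠ a ∧ V l b ≠ 0 ∧ ∀ i, i ≠ a → i ≠ b → V l i = 0 := by
    intro l
    obtain ⟨a', b', hab', ha', hb', h0'⟩ := exists_two (D.norm l)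
    have : a = a' ∨ a = b' := by
      by_contra hcon
      push Not at hcon
      exact hane (hVa l ▸ h0' a hcon.1 hcon.2)
    rcases this with rfl | rfl
    · exact ⟨b', hab'.symm, hb', h0'⟩
    · exact ⟨a', hab', ha', fun i h1 h2 => h0' i h2 h1⟩
  choose φ hφa hφne hφ0 using hex
  obtain ⟨P, Q, hPa, hQa, hQP, hP, hQ, hu0⟩ := exists_three D.u_norm hane
  have hφu : ∀ l, u (φ l) = 0 := by
    intro l
    have h1 := sum_two (hφa l).symm (hφ0 l) u
    simp only [Int.cast_id] at h1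
    rw [Finset.sum_congr rfl fun i _ => mul_comm (V l i) (u i), D.u_dot, hVa] at h1
    rcases hpm with e1 | e1 <;> rcases D.pm (hφne l) with e2 | e2 <;> rw [e1, e2] at h1 <;> omega
  have hφinj : ∀ l m, φ l = φ m → V l = V m := by
    intro l m h
    by_contra hne
    have h1 := sum_two (hφa l).symm (hφ0 l) (V m)
    simp only [Int.cast_id] at h1
    rw [D.dot l m hne, hVa, hVa, h] at h1
    rcases hpm with e1 | e1 <;> rcases D.pm (h ▸ hφne l) with e2 | e2 <;>
      rcases D.pm (hφne m) with e3 | e3 <;> rw [e1, e2, e3] at h1 <;> omega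
  set B := u a * d a with hB
  have hdeg : ∀ l, V l (φ l) * d (φ l) = -1 - B := by
    intro l
    have h1 := sum_two (hφa l).symm (hφ0 l) d
    simp only [Int.cast_id] at h1
    rw [D.deg, hVa] at h1
    omega
  have hval : ∀ l, V l (φ l) * z (φ l) = -2 * e l := by
    intro l
    have h1 := sum_two (hφa l).symm (hφ0 l) z
    simp only [Int.cast_id] at h1
    rw [D.val, hVa, hza] at h1
    omega
  have he : ∀ l, z (φ l) ^ 2 = 4 := by
    intro l
    have h1 : z (φ l) ^ 2 = (V l (φ l) * z (φ l)) ^ 2 := by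
      rcases D.pm (hφne l) with e2 | e2 <;> rw [e2] <;> ring
    rw [h1, hval]
    rcases D.cases with ⟨l1, m1, hl1, hm1⟩ | ⟨-, -, hall⟩
    · by_cases hl : V l = V l1
      · have := D.val l
        rw [hl, D.val, hl1] at this
        rw [show e l = -1 by omega]
        norm_num
      · by_cases hm : V l = V m1
        · have := D.val l
          rw [hm, D.val, hm1] at this
          rw [show e l = 1 by omega]
          norm_num
        · have hCne : (((-1 - B : ℤ)) : ℚ) ≠ 0 := by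
            rw [← hdeg l]; exact_mod_cast mul_ne_zero (hφne l) (D.d_ne _)
          have e1 := sum_two (hφa l).symm (hφ0 l) fun i => (z i : ℚ) ^ 2 / d i
          have e2 := sum_two (hφa l1).symm (hφ0 l1) fun i => (z i : ℚ) ^ 2 / d i
          simp only [D.ell] at e1 e2
          rw [term_eq (D.pm (hφne l)), hdeg, hval, hVa] at e1
          rw [term_eq (D.pm (hφne l1)), hdeg, hval, hVa, hl1] at e2
          have e3 : (((-2 * e l : ℤ)) : ℚ) ^ 2 / (((-1 - B : ℤ)) : ℚ) =
              (((-2 * (-1) : ℤ)) : ℚ) ^ 2 / (((-1 - B : ℤ)) : ℚ) := by linarith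
          rw [div_left_inj' hCne] at e3
          rw [show (-2 * e l) ^ 2 = (-2 * (-1 : ℤ)) ^ 2 by exact_mod_cast e3]
          norm_num
    · rw [hall l]; norm_num
  obtain ⟨s, hs, hcard⟩ := D.count'
  have hφP : ∀ l, φ l ≠ P := fun l h => hP (h ▸ hφu l)
  have hφQ : ∀ l, φ l ≠ Q := fun l h => hQ (h ▸ hφu l)
  have hsub := Finset.sum_le_sum_of_subset_of_nonneg (f := fun i => z i ^ 2)
    (Finset.subset_univ (({a, P, Q} : Finset ι) ∪ s.image φ)) fun _ _ _ => sq_nonneg _
  have hT : ∑ i ∈ ({a, P, Q} : Finset ι) ∪ s.image φ, z i ^ 2 =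
      1 + (u P * z P) ^ 2 + (u Q * z Q) ^ 2 + 4 * c := by
    have hd : Disjoint ({a, P, Q} : Finset ι) (s.image φ) := by
      rw [Finset.disjoint_right]
      intro i hi
      obtain ⟨l, -, rfl⟩ := Finset.mem_image.1 hi
      simp [hφa l, hφP l, hφQ l]
    rw [Finset.sum_union hd, Finset.sum_insert (by simp [hPa.symm, hQa.symm]),
      Finset.sum_pair hQP.symm, Finset.sum_image (fun l hl m hm h => hs l hl m hm (hφinj l m h)),
      Finset.sum_congr rfl fun l _ => he l, Finset.sum_const, hcard, nsmul_eq_mul]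
    have s1 : ∀ {v w : ℤ}, (v = 1 ∨ v = -1) → w ^ 2 = (v * w) ^ 2 := by
      rintro v w (rfl | rfl) <;> ring
    rw [s1 hpm (w := z a), hza, s1 (D.u_pm hP) (w := z P), s1 (D.u_pm hQ) (w := z Q)]
    ring
  rw [hT, D.col] at hsub
  have valu := sum_three hPa.symm hQa.symm hQP.symm hu0 z
  have degu := sum_three hPa.symm hQa.symm hQP.symm hu0 d
  simp only [Int.cast_id] at valu degu
  rw [D.u_val, hza] at valu
  rw [D.u_deg] at degu
  have hf2 : f * f = 1 := by rcases D.f_pm with h | h <;> rw [h] <;> norm_num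
  have hpq : u P * z P + u Q * z Q = -2 * f := by omega
  have hPz : u P * z P = -f := by
    generalize u P * z P = p at *
    generalize u Q * z Q = q at *
    obtain rfl : q = -2 * f - p := by omega
    have : (p + f) ^ 2 ≤ 0 := by nlinarith [hf2]
    have : p + f = 0 := pow_eq_zero_iff two_ne_zero |>.1 (le_antisymm this (sq_nonneg _))
    omega
  have hQz : u Q * z Q = -f := by omega
  have hzero : ∀ i, i ≠ a → i ≠ P → i ≠ Q → (∀ l, i ≠ φ l) → z i = 0 := by
    intro i h1 h2 h3 h4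
    have hni : i ∉ ({a, P, Q} : Finset ι) ∪ s.image φ := by
      simp [h1, h2, h3]
      exact fun l _ h => h4 l h.symm
    have := Finset.sum_le_sum_of_subset_of_nonneg (f := fun i => z i ^ 2)
      (Finset.subset_univ (insert i (({a, P, Q} : Finset ι) ∪ s.image φ))) fun _ _ _ => sq_nonneg _
    rw [Finset.sum_insert hni, hT, D.col, hPz, hQz] at this
    have h5 : z i ^ 2 ≤ 0 := by nlinarith
    exact pow_eq_zero_iff two_ne_zero |>.1 (le_antisymm h5 (sq_nonneg _))
  have hl : ∃ l : Λ, True := by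
    rcases D.cases with ⟨l, -⟩ | ⟨hc, -⟩
    · exact ⟨l, trivial⟩
    · obtain ⟨l, -⟩ := Finset.card_eq_one.1 (hcard.trans hc)
      exact ⟨l, trivial⟩
  obtain ⟨l, -⟩ := hl
  have hB0 : (B : ℚ) ≠ 0 := by exact_mod_cast mul_ne_zero hane (D.d_ne a)
  have hB1 : (B : ℚ) + 1 ≠ 0 := by
    intro h0
    have : -1 - B = 0 := by
      have : (B : ℤ) + 1 = 0 := by exact_mod_cast h0
      omega
    exact mul_ne_zero (hφne l) (D.d_ne _) ((hdeg l).trans this)
  have hell : ℓ = 1 / (B : ℚ) - 4 / ((B : ℚ) + 1) := by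
    have e1 := sum_two (hφa l).symm (hφ0 l) fun i => (z i : ℚ) ^ 2 / d i
    simp only [D.ell] at e1
    rw [term_eq (D.pm (hφne l)), hdeg, hVa, term_eq hpm, hza] at e1
    have e2 : (V l (φ l) * z (φ l)) ^ 2 = 4 := by
      rcases D.pm (hφne l) with e2 | e2 <;> rw [e2] <;> nlinarith [he l]
    rw [show (((V l (φ l) * z (φ l) : ℤ)) : ℚ) ^ 2 = 4 by exact_mod_cast e2] at e1
    rw [e1, ← hB]
    push_cast
    rw [show (-1 - (B : ℚ)) = -((B : ℚ) + 1) by ring, div_neg]
    ring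
  have e3 := sum_three hPa.symm hQa.symm hQP.symm hu0 fun i => (z i : ℚ) ^ 2 / d i
  simp only [D.u_ell] at e3
  rw [term_eq hpm, term_eq (D.u_pm hP), term_eq (D.u_pm hQ), hza, hPz, hQz, ← hB] at e3
  have hfq : ((-f : ℤ) : ℚ) ^ 2 = 1 := by
    rw [sq]; exact_mod_cast (by linarith : -f * -f = (1 : ℤ))
  rw [hfq] at e3
  set p := u P * d P with hp'
  set q := u Q * d Q with hq'
  have hpne : (p : ℚ) ≠ 0 := by exact_mod_cast mul_ne_zero hP (D.d_ne P)
  have hqne : (q : ℚ) ≠ 0 := by exact_mod_cast mul_ne_zero hQ (D.d_ne Q)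
  have hsum : p + q = -1 - B := by omega
  have heq : p = q := by
    rw [hell] at e3
    push_cast at e3
    field_simp at e3
    have h2 : ((B : ℚ) + 1) = -((p : ℚ) + q) := by
      have h2' : B + 1 = -(p + q) := by omega
      exact_mod_cast h2'
    have h3 : ((p : ℚ) - q) ^ 2 = 0 := by
      rw [h2] at e3
      by_contra hne
      apply hne
      have h4 : (B : ℚ) * (((p : ℚ) - q) ^ 2) = 0 := by linear_combination e3
      exact (mul_eq_zero.1 h4).resolve_left hB0
    have h5 : (p : ℚ) = q := sub_eq_zero.1 (pow_eq_zero_iff two_ne_zero |>.1 h3)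
    exact_mod_cast h5
  exact ⟨a, P, Q, φ, fun l => V l (φ l), B, hpm, hza, rfl, hell,
    fun l => ⟨hφa l, hφP l, hφQ l, D.pm (hφne l), hdeg l, hval l, hVa l, rfl, hφ0 l⟩, hPa, hQa,
    hQP.symm, by omega, by omega, hPz, hQz, hu0, hφinj, hzero⟩

end Data

end CfsgLib.BSW.Coeff
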