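import Cfsg.Agent.Lib.BSW.Local
import Mathlib.GroupTheory.Transfer
import Mathlib.GroupTheory.Commutator.Basic

/-!
# Counting, fusion in subgroups of odd order, and the shape of the conclusion
-/

set_option autoImplicit false
set_option linter.style.haveILetI false

namespace CfsgLib.BSW

open CfsgLib.Involutions
open scoped Pointwise

universe u

variable {G : Type u} [Group G]

theorem mem_map_conj {A : Subgroup G} {g x : G} :
    x ∈ A.map (MulAut.conj g).toMonoidHom ↔ g⁻¹ * x * g ∈ A := by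
  rw [Subgroup.mem_map_equiv, MulAut.conj_symm_apply]

theorem DTI.map_conj {A : Subgroup G} {v : G} (h : DTI A v) (g : G) :
    DTI (A.map (MulAut.conj g).toMonoidHom) (g * v * g⁻¹) where
  comm x hx y hy := by
    rw [mem_map_conj] at hx hy
    have := h.comm _ hx _ hy
    calc x * y = g * (g⁻¹ * x * g * (g⁻¹ * y * g)) * g⁻¹ := by group
      _ = g * (g⁻¹ * y * g * (g⁻¹ * x * g)) * g⁻¹ := by rw [this]
      _ = y * x := by group
  u_sq := by rw [show g * v * g⁻¹ * (g * v * g⁻¹) = g * (v * v) * g⁻¹ by group, h.u_sq]; group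
  u_notin hm := h.u_notin (by
    rw [mem_map_conj] at hm
    rwa [show g⁻¹ * (g * v * g⁻¹) * g = v by group] at hm)
  inv x hx := by
    rw [mem_map_conj] at hx
    calc g * v * g⁻¹ * x * (g * v * g⁻¹)⁻¹ = g * (v * (g⁻¹ * x * g) * v⁻¹) * g⁻¹ := by group
      _ = x⁻¹ := by rw [h.inv _ hx]; group
  ti a x hx hx1 hax := by
    rw [mem_map_conj] at hx hax ⊢
    rw [mem_map_conj]
    have h1 := h.ti (g⁻¹ * a * g) (g⁻¹ * x * g) hx
      (fun e => hx1 (by
        calc x = g * (g⁻¹ * x * g) * g⁻¹ := by group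
          _ = 1 := by rw [e]; group))
      (by rwa [show g⁻¹ * a * g * (g⁻¹ * x * g) * (g⁻¹ * a * g)⁻¹ = g⁻¹ * (a * x * a⁻¹) * g by group])
    rwa [show v * (g⁻¹ * a * g) = g⁻¹ * (g * v * g⁻¹ * a) * g by group] at h1

/-- An involution gives the trivial instance. -/
theorem DTI.of_bot {v : G} (hv : orderOf v = 2) : DTI (⊥ : Subgroup G) v where
  comm x hx y hy := by rw [Subgroup.mem_bot.1 hx, Subgroup.mem_bot.1 hy]
  u_sq := mul_self_eq_one hv
  u_notin h := ne_one_of_involution hv (Subgroup.mem_bot.1 h)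
  inv x hx := by rw [Subgroup.mem_bot.1 hx]; group
  ti g x hx hx1 _ := absurd (Subgroup.mem_bot.1 hx) hx1

/-- A nontrivial subgroup of odd order fused inside a dihedrally normalized TI-subgroup is
centralized by the odd elements normalizing it. -/
theorem DTI.commute_of_normalizes [Finite G] {A : Subgroup G} {v : G} (h : DTI A v) {g x : G}
    (hg : Odd (orderOf g)) {T : Subgroup G} (hT : T ≤ A) (hx : x ∈ T)
    (hn : ∀ y ∈ T, g * y * g⁻¹ ∈ T) : g * x = x * g := by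
  by_cases hx1 : x = 1
  · rw [hx1, mul_one, one_mul]
  have hN : InN A v g := h.ti g x (hT hx) hx1 (hT (hn x hx))
  by_cases hgA : g ∈ A
  · exact h.comm g hgA x (hT hx)
  · rw [h.orderOf_outside hN hgA] at hg
    exact absurd hg (by decide)

section

variable [Finite G]

/-- If `A` contains a Sylow `r`-subgroup then every `r`-subgroup is conjugate into `A`. -/
theorem exists_conj_le {A : Subgroup G} {r : ℕ} [Fact r.Prime] (hA : ¬ r ∣ A.index)
    {T : Subgroup G} (hT : IsPGroup r T) : ∃ g : G, ∀ x ∈ T, g * x * g⁻¹ ∈ A := by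
  obtain ⟨P₀⟩ := (inferInstance : Nonempty (Sylow r A))
  have hcard : Nat.card ((P₀ : Subgroup A).map A.subtype) = r ^ (Nat.card G).factorization r := by
    rw [Subgroup.card_map_of_injective A.subtype_injective, Sylow.card_eq_multiplicity,
      ← A.card_mul_index, Nat.factorization_mul Nat.card_pos.ne' Subgroup.index_ne_zero_of_finite,
      Finsupp.add_apply, Nat.factorization_eq_zero_of_not_dvd hA, add_zero]
  obtain ⟨Q, hQ⟩ := hT.exists_le_sylow
  obtain ⟨g, hg⟩ := MulAction.exists_smul_eq G Q (Sylow.ofCard _ hcard)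
  refine ⟨g, fun x hx => ?_⟩
  have h1 : g * x * g⁻¹ ∈ ((g • Q : Sylow r G) : Subgroup G) := by
    rw [Sylow.smul_def]; exact ⟨x, hQ hx, rfl⟩
  rw [hg, Sylow.coe_ofCard] at h1
  obtain ⟨y, -, hy⟩ := h1
  exact hy ▸ y.2

theorem exists_conj_mem {A : Subgroup G} {r : ℕ} [Fact r.Prime] (hA : ¬ r ∣ A.index) {x : G}
    (hx : orderOf x = r) : ∃ g : G, g * x * g⁻¹ ∈ A := by
  have hT : IsPGroup r (Subgroup.zpowers x) :=
    IsPGroup.of_card (n := 1) (by rw [Nat.card_zpowers, hx, pow_one])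
  obtain ⟨g, hg⟩ := exists_conj_le hA hT
  exact ⟨g, hg x (Subgroup.mem_zpowers x)⟩

/-- The local hypothesis for Burnside's transfer theorem, from a DTI subgroup containing a Sylow
subgroup. -/
theorem DTI.commute_of_pGroup {A : Subgroup G} {v : G} (h : DTI A v) {r : ℕ} [Fact r.Prime]
    (hA : ¬ r ∣ A.index) {T : Subgroup G} (hT : IsPGroup r T) {g : G} (hg : Odd (orderOf g))
    (hn : ∀ y ∈ T, g * y * g⁻¹ ∈ T) {x : G} (hx : x ∈ T) : g * x = x * g := by
  obtain ⟨a, ha⟩ := exists_conj_le hA hT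
  have h1 := h.commute_of_normalizes (g := a * g * a⁻¹) (x := a * x * a⁻¹)
    (by rwa [orderOf_conj_eq]) (T := T.map (MulAut.conj a).toMonoidHom)
    (fun y hy => by
      obtain ⟨z, hz, rfl⟩ := hy
      exact ha z hz)
    ⟨x, hx, rfl⟩ (fun y hy => by
      obtain ⟨z, hz, rfl⟩ := hy
      refine ⟨g * z * g⁻¹, hn z hz, ?_⟩
      simp only [MulEquiv.toMonoidHom_eq_coe, MonoidHom.coe_coe, MulAut.conj_apply]
      group)
  calc g * x = a⁻¹ * (a * g * a⁻¹ * (a * x * a⁻¹)) * a := by group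
    _ = a⁻¹ * (a * x * a⁻¹ * (a * g * a⁻¹)) * a := by rw [h1]
    _ = x * g := by group

/-- Repeated use of Burnside's transfer theorem: if the `r`-subgroups of `L` are centralized by
whatever normalizes them in `L` for all primes `r ≠ p`, then the `p`-elements and the commutators of
`L` generate a `p`-group. -/
theorem exists_pCore {L : Subgroup G} {p : ℕ}
    (hL : ∀ r : ℕ, r.Prime → r ≠ p → r ∣ Nat.card L → ∀ T : Subgroup G, IsPGroup r T → T ≤ L →
      ∀ g ∈ L, (∀ y ∈ T, g * y * g⁻¹ ∈ T) → ∀ x ∈ T, g * x = x * g) :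
    ∃ M : Subgroup G, M ≤ L ∧ IsPGroup p M ∧
      (p.Prime → ∀ x ∈ L, ∀ i : ℕ, x ^ p ^ i = 1 → x ∈ M) ∧
      ∀ a ∈ L, ∀ b ∈ L, a * b * a⁻¹ * b⁻¹ ∈ M := by
  classical
  have key : ∀ r : ℕ, r.Prime → r ≠ p → r ∣ Nat.card L → ∃ M : Subgroup L,
      ¬ r ∣ Nat.card M ∧ (p.Prime → ∀ x : L, ∀ i : ℕ, x ^ p ^ i = 1 → x ∈ M) ∧
      ∀ a b : L, a * b * a⁻¹ * b⁻¹ ∈ M := by
    intro r hr hrp hrd
    haveI : Fact r.Prime := ⟨hr⟩
    obtain ⟨T⟩ := (inferInstance : Nonempty (Sylow r L))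
    have hT : Subgroup.normalizer (T : Set L) ≤ Subgroup.centralizer (T : Set L) := by
      intro g hg
      rw [Subgroup.mem_centralizer_iff]
      intro x hx
      refine Subtype.ext ?_
      simp only [Subgroup.coe_mul]
      refine (hL r hr hrp hrd ((T : Subgroup L).map L.subtype) (T.isPGroup'.map _)
        (fun y hy => by obtain ⟨z, -, rfl⟩ := hy; exact z.2) g g.2 (fun y hy => ?_) x
        ⟨x, hx, rfl⟩).symm
      obtain ⟨z, hz, rfl⟩ := hy
      exact ⟨g * z * g⁻¹, (Subgroup.mem_normalizer_iff.1 hg z).1 hz, rfl⟩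
    refine ⟨(MonoidHom.transferSylow T hT).ker, MonoidHom.not_dvd_card_ker_transferSylow T hT,
      fun hp x i hx => ?_, fun a b => ?_⟩
    · rw [MonoidHom.mem_ker, ← orderOf_eq_one_iff]
      have h1 : orderOf (MonoidHom.transferSylow T hT x) ∣ p ^ i :=
        orderOf_dvd_of_pow_eq_one (by rw [← map_pow, hx, map_one])
      obtain ⟨j, hj⟩ := IsPGroup.iff_orderOf.1 T.isPGroup' (MonoidHom.transferSylow T hT x)
      have h2 : Nat.Coprime (p ^ i) (r ^ j) :=
        Nat.Coprime.pow _ _ ((Nat.coprime_primes hp hr).2 (Ne.symm hrp))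
      exact Nat.eq_one_of_dvd_coprimes h2 h1 (hj ▸ dvd_rfl)
    · have hc : ∀ x y : T, x * y = y * x := fun x y =>
        Subtype.ext (Subgroup.mem_centralizer_iff.1 (hT (Subgroup.le_normalizer y.2)) x x.2)
      rw [MonoidHom.mem_ker, map_mul, map_mul, map_mul, map_inv, map_inv,
        hc (MonoidHom.transferSylow T hT a) (MonoidHom.transferSylow T hT b),
        mul_inv_cancel_right, mul_inv_cancel]
  choose M hMr hMp hMc using key
  let s : Finset {r : ℕ // r ∈ (Nat.card L).primeFactors} :=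
    (Nat.card L).primeFactors.attach.filter fun r => r.1 ≠ p
  have hs : ∀ r : {r : ℕ // r ∈ (Nat.card L).primeFactors}, r ∈ s →
      (r : ℕ).Prime ∧ (r : ℕ) ≠ p ∧ (r : ℕ) ∣ Nat.card L := fun r hr =>
    ⟨Nat.prime_of_mem_primeFactors r.2, (Finset.mem_filter.1 hr).2, Nat.dvd_of_mem_primeFactors r.2⟩
  let N : Subgroup L := ⨅ r : {r : {r : ℕ // r ∈ (Nat.card L).primeFactors} // r ∈ s}, M r.1 (hs r.1 r.2).1 (hs r.1 r.2).2.1 (hs r.1 r.2).2.2
  refine ⟨N.map L.subtype, fun x hx => by obtain ⟨z, -, rfl⟩ := hx; exact z.2, ?_,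
    fun hp x hx i hxi => ⟨⟨x, hx⟩, ?_, rfl⟩,
    fun a ha b hb => ⟨⟨a, ha⟩ * ⟨b, hb⟩ * ⟨a, ha⟩⁻¹ * ⟨b, hb⟩⁻¹, ?_, rfl⟩⟩
  · refine IsPGroup.map ?_ _
    refine IsPGroup.of_card (Nat.eq_prime_pow_of_unique_prime_dvd Nat.card_pos.ne' fun {r} hr hrd => ?_)
    by_contra hrp
    have hrL : r ∣ Nat.card L := hrd.trans N.card_subgroup_dvd_card
    have hm : (⟨r, Nat.mem_primeFactors.2 ⟨hr, hrL, Nat.card_pos.ne'⟩⟩ :
        {r // r ∈ (Nat.card L).primeFactors}) ∈ s :=
      Finset.mem_filter.2 ⟨Finset.mem_attach _ _, hrp⟩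
    exact hMr r hr hrp hrL (hrd.trans (Subgroup.card_dvd_of_le
      (iInf_le (fun x : {x // x ∈ s} => M x.1 (hs x.1 x.2).1 (hs x.1 x.2).2.1 (hs x.1 x.2).2.2)
        ⟨_, hm⟩)))
  · simp only [N, Subgroup.mem_iInf, SetLike.mem_coe]
    exact fun r => hMp _ _ _ _ hp _ i (Subtype.ext (by rw [Subgroup.coe_pow]; exact hxi))
  · simp only [N, Subgroup.mem_iInf, SetLike.mem_coe]
    exact fun r => hMc _ _ _ _ _ _

end

variable [Fintype G]

/-- The conjugates of a self-centralizing TI-subgroup. -/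
theorem card_conjSet_of_cent {A : Subgroup G}
    (hA : ∀ c ∈ A, c ≠ 1 → Subgroup.centralizer ({c} : Set G) = A) :
    (DTI.conjSet A).card = (Subgroup.normalizer (A : Set G)).index * (Nat.card A - 1) := by
  classical
  set N := Subgroup.normalizer (A : Set G)
  have hti : ∀ g x : G, x ∈ A → x ≠ 1 → g * x * g⁻¹ ∈ A → g ∈ N := by
    intro g x hx hx1 hgx
    rw [Subgroup.mem_normalizer_iff]
    intro y
    rw [← hA x hx hx1]
    conv_rhs => rw [hA x hx hx1, ← hA _ hgx fun e => hx1 (conj_eq_one_iff.1 e)]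
    rw [Subgroup.mem_centralizer_singleton_iff, Subgroup.mem_centralizer_singleton_iff]
    constructor
    · intro e
      calc g * y * g⁻¹ * (g * x * g⁻¹) = g * (y * x) * g⁻¹ := by group
        _ = g * (x * y) * g⁻¹ := by rw [e]
        _ = g * x * g⁻¹ * (g * y * g⁻¹) := by group
    · intro e
      calc y * x = g⁻¹ * (g * y * g⁻¹ * (g * x * g⁻¹)) * g := by group
        _ = g⁻¹ * (g * x * g⁻¹ * (g * y * g⁻¹)) * g := by rw [e]
        _ = x * y := by group
  let B : Finset G := Finset.univ.filter fun x => x ∈ A ∧ x ≠ 1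
  have hB : B.card = Nat.card A - 1 := by
    have : B = (Finset.univ.filter fun x : G => x ∈ A).erase 1 := by
      ext x; simp [B, and_comm]
    rw [this, Finset.card_erase_of_mem (by simp), Nat.card_eq_fintype_card, Fintype.card_subtype]
  rw [← hB, Subgroup.index, Nat.card_eq_fintype_card, ← Finset.card_univ, ← Finset.card_product]
  symm
  refine Finset.card_bij (fun p _ => p.1.out * p.2 * p.1.out⁻¹) ?_ ?_ ?_
  · rintro ⟨q, x⟩ hp
    obtain ⟨hx, hx1⟩ := (Finset.mem_filter.1 (Finset.mem_product.1 hp).2).2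
    refine DTI.mem_conjSet.2 ⟨fun h1 => hx1 (by simpa using h1), q.out⁻¹, ?_⟩
    rw [show q.out⁻¹ * (q.out * x * q.out⁻¹) * q.out⁻¹⁻¹ = x by group]
    exact hx
  · rintro ⟨q, x⟩ hp ⟨r, y⟩ hp' e
    obtain ⟨hx, hx1⟩ := (Finset.mem_filter.1 (Finset.mem_product.1 hp).2).2
    obtain ⟨hy, -⟩ := (Finset.mem_filter.1 (Finset.mem_product.1 hp').2).2
    simp only at e hx hx1 hy
    have e' : (r.out⁻¹ * q.out) * x * (r.out⁻¹ * q.out)⁻¹ = y := by
      calc (r.out⁻¹ * q.out) * x * (r.out⁻¹ * q.out)⁻¹ = r.out⁻¹ * (q.out * x * q.out⁻¹) * r.out := by group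
        _ = r.out⁻¹ * (r.out * y * r.out⁻¹) * r.out := by rw [e]
        _ = y := by group
    have hN : r.out⁻¹ * q.out ∈ N := hti _ x hx hx1 (by rw [e']; exact hy)
    have hqr : r = q := by
      rw [← QuotientGroup.out_eq' r, ← QuotientGroup.out_eq' q]
      exact QuotientGroup.eq.2 hN
    subst hqr
    rw [inv_mul_cancel, inv_one, one_mul, mul_one] at e'
    exact Prod.ext rfl e'
  · intro z hz
    obtain ⟨hz1, g, hg⟩ := DTI.mem_conjSet.1 hz
    set q : G ⧸ N := QuotientGroup.mk g⁻¹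
    have hn : g * q.out ∈ N := by
      have := QuotientGroup.eq.1 ((QuotientGroup.out_eq' q).symm :
        QuotientGroup.mk g⁻¹ = QuotientGroup.mk q.out)
      rwa [inv_inv] at this
    refine ⟨(q, q.out⁻¹ * z * q.out), Finset.mem_product.2 ⟨Finset.mem_univ _,
      Finset.mem_filter.2 ⟨Finset.mem_univ _, ?_, fun h1 => hz1 ?_⟩⟩, by simp only; group⟩
    · have := (Subgroup.mem_normalizer_iff.1 (N.inv_mem hn) _).1 hg
      rwa [show (g * q.out)⁻¹ * (g * z * g⁻¹) * (g * q.out)⁻¹⁻¹ = q.out⁻¹ * z * q.out by group] at this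
    · calc z = q.out * (q.out⁻¹ * z * q.out) * q.out⁻¹ := by group
        _ = 1 := by simp only at h1; rw [h1]; group

/-- The conclusion of the theorem. -/
def Concl (G : Type u) [Group G] : Prop :=
  ∃ Q D : Subgroup G, 2 * Nat.card G = Nat.card ↥Q * (Nat.card ↥Q + 1) * (Nat.card ↥Q - 1) ∧
    (∀ x ∈ Q, x ≠ 1 → Subgroup.centralizer ({x} : Set G) = Q) ∧
    IsMulCommutative ↥D ∧ 2 * Nat.card ↥D + 1 = Nat.card ↥Q ∧ Q ⊓ D = ⊥ ∧
    Subgroup.normalizer (Q : Set G) = Q ⊔ D ∧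
    ∀ X : Subgroup G, X ≤ D → X ≠ ⊥ →
      Subgroup.normalizer (X : Set G) = Subgroup.normalizer (D : Set G) ∧
      ∃ u : G, orderOf u = 2 ∧ u ∉ D ∧ (∀ d ∈ D, u * d * u⁻¹ = d⁻¹) ∧
        Subgroup.normalizer (D : Set G) = D ⊔ Subgroup.zpowers u

omit [Fintype G] in
theorem concl_of [Finite G] {Q D : Subgroup G} {v : G} (hD : DTI D v)
    (hcard : 2 * Nat.card G = Nat.card Q * (Nat.card Q + 1) * (Nat.card Q - 1))
    (hQ : ∀ x ∈ Q, x ≠ 1 → Subgroup.centralizer ({x} : Set G) = Q)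
    (hq : 2 * Nat.card D + 1 = Nat.card Q)
    (hN : Nat.card (Subgroup.normalizer (Q : Set G)) = Nat.card Q * Nat.card D)
    (hle : D ≤ Subgroup.normalizer (Q : Set G)) : Concl G := by
  have hco : Nat.Coprime (Nat.card Q) (Nat.card D) := by
    rw [← hq, mul_comm]
    simp [Nat.coprime_mul_left_add_left]
  have hinf : Q ⊓ D = ⊥ := Subgroup.inf_eq_bot_of_coprime hco
  refine ⟨Q, D, hcard, hQ, ⟨⟨fun a b => Subtype.ext (hD.comm a a.2 b b.2)⟩⟩, hq, hinf, ?_, ?_⟩
  · refine (Subgroup.eq_of_le_of_card_ge (sup_le Subgroup.le_normalizer hle) ?_).symm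
    rw [hN]
    have h1 : Nat.card Q ∣ Nat.card (Q ⊔ D : Subgroup G) := Subgroup.card_dvd_of_le le_sup_left
    have h2 : Nat.card D ∣ Nat.card (Q ⊔ D : Subgroup G) := Subgroup.card_dvd_of_le le_sup_right
    exact Nat.le_of_dvd Nat.card_pos (hco.mul_dvd_of_dvd_of_dvd h1 h2)
  · intro X hX hne
    have hDne : D ≠ ⊥ := fun e => hne (le_bot_iff.1 (hX.trans e.le))
    exact ⟨(hD.normalizer_eq hX hne).trans (hD.normalizer_eq le_rfl hDne).symm, v, hD.orderOf_u,
      hD.u_notin, hD.inv, hD.normalizer_self hDne⟩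

end CfsgLib.BSW
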