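import Cfsg.Agent.Lib.Involutions.Basic
import Cfsg.Agent.Lib.Characters.Induction
import Cfsg.Agent.Lib.Characters.Artin
import Cfsg.Agent.Lib.Characters.Generalized
import Mathlib.GroupTheory.GroupAction.Quotient
import Mathlib.Tactic.Group

/-!
# Abelian TI-subgroups whose normalizer is a generalized dihedral group
-/

set_option autoImplicit false
set_option linter.style.haveILetI false

namespace CfsgLib.BSW

open Cfsg
open scoped ComplexConjugate

variable {G : Type*} [Group G]

/-- `A` is abelian, inverted by the involution `u ∉ A`, and `A ∪ u A` controls its own fusion. -/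
structure DTI (A : Subgroup G) (u : G) : Prop where
  comm : ∀ x ∈ A, ∀ y ∈ A, x * y = y * x
  u_sq : u * u = 1
  u_notin : u ∉ A
  inv : ∀ x ∈ A, u * x * u⁻¹ = x⁻¹
  ti : ∀ g x : G, x ∈ A → x ≠ 1 → g * x * g⁻¹ ∈ A → g ∈ A ∨ u * g ∈ A

variable {A : Subgroup G} {u : G}

/-- The elements of `A ∪ u A`. -/
def InN (A : Subgroup G) (u g : G) : Prop := g ∈ A ∨ u * g ∈ A

namespace DTI

theorem conj_of_mem (h : DTI A u) {g x : G} (hg : g ∈ A) (hx : x ∈ A) : g * x * g⁻¹ = x := by
  rw [h.comm g hg x hx, mul_inv_cancel_right]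

theorem conj_of_mul_mem (h : DTI A u) {g x : G} (hg : u * g ∈ A) (hx : x ∈ A) :
    g * x * g⁻¹ = x⁻¹ := by
  obtain ⟨y, hy, rfl⟩ : ∃ y ∈ A, g = u * y :=
    ⟨u * g, hg, by rw [← mul_assoc, h.u_sq, one_mul]⟩
  calc u * y * x * (u * y)⁻¹ = u * (y * x * y⁻¹) * u⁻¹ := by group
    _ = x⁻¹ := by rw [h.conj_of_mem hy hx, h.inv x hx]

theorem conj_mem (h : DTI A u) {g x : G} (hg : InN A u g) (hx : x ∈ A) : g * x * g⁻¹ ∈ A := by
  rcases hg with hg | hg
  · rw [h.conj_of_mem hg hx]; exact hx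
  · rw [h.conj_of_mul_mem hg hx]; exact A.inv_mem hx

theorem u_inN (h : DTI A u) : InN A u u := Or.inr (by rw [h.u_sq]; exact A.one_mem)

theorem orderOf_u (h : DTI A u) : orderOf u = 2 :=
  Involutions.orderOf_eq_two_iff_mul.2 ⟨fun hu => h.u_notin (hu ▸ A.one_mem), h.u_sq⟩

/-- The generalized dihedral group `A ⟨u⟩`. -/
def N (h : DTI A u) : Subgroup G where
  carrier := {g | InN A u g}
  one_mem' := Or.inl A.one_mem
  mul_mem' := fun {a b} ha hb => by
    rcases ha with ha | ha <;> rcases hb with hb | hb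
    · exact Or.inl (A.mul_mem ha hb)
    · refine Or.inr ?_
      have : u * (a * b) = a⁻¹ * (u * b) := by
        rw [← h.inv a ha]; group
      rw [this]
      exact A.mul_mem (A.inv_mem ha) hb
    · refine Or.inr ?_
      rw [← mul_assoc]
      exact A.mul_mem ha hb
    · refine Or.inl ?_
      have : a * b = u * (u * a) * u⁻¹ * (u * b) := by
        calc a * b = (u * u) * a * b := by rw [h.u_sq, one_mul]
          _ = u * (u * a) * u⁻¹ * (u * b) := by group
      rw [this, h.inv _ ha]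
      exact A.mul_mem (A.inv_mem ha) hb
  inv_mem' := fun {a} ha => by
    rcases ha with ha | ha
    · exact Or.inl (A.inv_mem ha)
    · refine Or.inr ?_
      have : u * a⁻¹ = u * (u * a)⁻¹ * u⁻¹ * (u * u) := by group
      rw [this, h.u_sq, mul_one, h.inv _ (A.inv_mem ha), inv_inv]
      exact ha

theorem mem_N (h : DTI A u) {g : G} : g ∈ h.N ↔ InN A u g := Iff.rfl

theorem le_N (h : DTI A u) : A ≤ h.N := fun _ hx => Or.inl hx

theorem N_eq_sup (h : DTI A u) : h.N = A ⊔ Subgroup.zpowers u := by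
  refine le_antisymm ?_ (sup_le h.le_N (Subgroup.zpowers_le.2 h.u_inN))
  rintro g (hg | hg)
  · exact Subgroup.mem_sup_left hg
  · rw [show g = u * (u * g) by rw [← mul_assoc, h.u_sq, one_mul]]
    exact Subgroup.mul_mem _ (Subgroup.mem_sup_right (Subgroup.mem_zpowers u))
      (Subgroup.mem_sup_left hg)

theorem normalizer_le (h : DTI A u) {X : Subgroup G} (hX : X ≤ A) (hne : X ≠ ⊥) :
    Subgroup.normalizer (X : Set G) ≤ h.N := by
  obtain ⟨x, hxX, hx1⟩ : ∃ x ∈ X, x ≠ 1 := by
    by_contra! hall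
    exact hne ((Subgroup.eq_bot_iff_forall X).2 hall)
  intro g hg
  exact h.ti g x (hX hxX) hx1 (hX ((Subgroup.mem_normalizer_iff.1 hg x).1 hxX))

theorem le_normalizer (h : DTI A u) {X : Subgroup G} (hX : X ≤ A) :
    h.N ≤ Subgroup.normalizer (X : Set G) := by
  have key : ∀ g ∈ h.N, ∀ x ∈ X, g * x * g⁻¹ ∈ X := by
    rintro g (hg | hg) x hx
    · rw [h.conj_of_mem hg (hX hx)]; exact hx
    · rw [h.conj_of_mul_mem hg (hX hx)]; exact X.inv_mem hx
  intro g hg
  refine Subgroup.mem_normalizer_iff.2 fun x => ⟨key g hg x, fun hx => ?_⟩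
  have := key g⁻¹ (h.N.inv_mem hg) _ hx
  rwa [show g⁻¹ * (g * x * g⁻¹) * g⁻¹⁻¹ = x by group] at this

theorem normalizer_eq (h : DTI A u) {X : Subgroup G} (hX : X ≤ A) (hne : X ≠ ⊥) :
    Subgroup.normalizer (X : Set G) = h.N :=
  le_antisymm (h.normalizer_le hX hne) (h.le_normalizer hX)

theorem normalizer_self (h : DTI A u) (hne : A ≠ ⊥) :
    Subgroup.normalizer (A : Set G) = A ⊔ Subgroup.zpowers u :=
  (h.normalizer_eq le_rfl hne).trans h.N_eq_sup

theorem centralizer_eq (h : DTI A u) {x : G} (hx : x ∈ A) (hx2 : x * x ≠ 1) :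
    Subgroup.centralizer ({x} : Set G) = A := by
  have hx1 : x ≠ 1 := fun h1 => hx2 (by rw [h1, one_mul])
  ext g
  rw [Subgroup.mem_centralizer_singleton_iff]
  refine ⟨fun hg => ?_, fun hg => h.comm g hg x hx⟩
  have hc : g * x * g⁻¹ = x := by rw [hg, mul_inv_cancel_right]
  rcases h.ti g x hx hx1 (hc.symm ▸ hx) with hg' | hg'
  · exact hg'
  · exfalso
    rw [h.conj_of_mul_mem hg' hx] at hc
    exact hx2 (by nth_rewrite 1 [← hc]; exact inv_mul_cancel x)

theorem orderOf_outside (h : DTI A u) {g : G} (hg : InN A u g) (hgA : g ∉ A) : orderOf g = 2 := by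
  have hg' := hg.resolve_left hgA
  refine Involutions.orderOf_eq_two_iff_mul.2 ⟨fun h1 => hgA (h1 ▸ A.one_mem), ?_⟩
  have := h.inv _ hg'
  rw [show u * (u * g) * u⁻¹ = u * u * (g * u⁻¹) by group, h.u_sq, one_mul, mul_inv_rev,
    mul_inv_eq_iff_eq_mul] at this
  calc g * g = g⁻¹ * u⁻¹ * u * g := by rw [← this]
    _ = 1 := by group

theorem card_N (h : DTI A u) : Nat.card h.N = 2 * Nat.card A := by
  classical
  let f : Bool × A → h.N := fun p =>
    if p.1 then ⟨u * p.2, Or.inr (by rw [← mul_assoc, h.u_sq, one_mul]; exact p.2.2)⟩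
    else ⟨p.2, Or.inl p.2.2⟩
  have hf : Function.Bijective f := by
    refine ⟨?_, ?_⟩
    · rintro ⟨b, x⟩ ⟨c, y⟩ e
      have e' := congrArg Subtype.val e
      cases b <;> cases c <;> simp [f] at e'
      · rw [e']
      · exfalso
        refine h.u_notin ?_
        have : u = (x : G) * (y : G)⁻¹ := by rw [e', mul_inv_cancel_right]
        rw [this]; exact A.mul_mem x.2 (A.inv_mem y.2)
      · exfalso
        refine h.u_notin ?_
        have : u = (y : G) * (x : G)⁻¹ := by rw [← e', mul_inv_cancel_right]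
        rw [this]; exact A.mul_mem y.2 (A.inv_mem x.2)
      · rw [e']
    · rintro ⟨g, hg | hg⟩
      · exact ⟨(false, ⟨g, hg⟩), rfl⟩
      · exact ⟨(true, ⟨_, hg⟩), Subtype.ext (by simp [f, ← mul_assoc, h.u_sq])⟩
  rw [← Nat.card_eq_of_bijective f hf, Nat.card_prod, Nat.card_eq_fintype_card (α := Bool),
    Fintype.card_bool]

variable [Fintype G]

open scoped Classical in
/-- The non-identity elements conjugate into `A`. -/
noncomputable def conjSet (A : Subgroup G) : Finset G :=
  Finset.univ.filter fun x => x ≠ 1 ∧ ∃ g : G, g * x * g⁻¹ ∈ A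

theorem mem_conjSet {A : Subgroup G} {x : G} :
    x ∈ conjSet A ↔ x ≠ 1 ∧ ∃ g : G, g * x * g⁻¹ ∈ A := by
  classical simp [conjSet]

theorem card_conjSet (h : DTI A u) :
    (conjSet A).card = h.N.index * (Nat.card A - 1) := by
  classical
  let B : Finset G := Finset.univ.filter fun x => x ∈ A ∧ x ≠ 1
  have hB : B.card = Nat.card A - 1 := by
    have : B = (Finset.univ.filter fun x : G => x ∈ A).erase 1 := by
      ext x; simp [B, and_comm]
    rw [this, Finset.card_erase_of_mem (by simp), Nat.card_eq_fintype_card, Fintype.card_subtype]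
  rw [← hB, Subgroup.index, Nat.card_eq_fintype_card, ← Finset.card_univ, ← Finset.card_product]
  symm
  refine Finset.card_bij (fun p _ => p.1.out * p.2 * p.1.out⁻¹) ?_ ?_ ?_
  · rintro ⟨q, x⟩ hp
    obtain ⟨hx, hx1⟩ := (Finset.mem_filter.1 (Finset.mem_product.1 hp).2).2
    refine mem_conjSet.2 ⟨fun h1 => hx1 (by simpa using h1), q.out⁻¹, ?_⟩
    rw [show q.out⁻¹ * (q.out * x * q.out⁻¹) * q.out⁻¹⁻¹ = x by group]
    exact hx
  · rintro ⟨q, x⟩ hp ⟨r, y⟩ hp' e
    obtain ⟨hx, hx1⟩ := (Finset.mem_filter.1 (Finset.mem_product.1 hp).2).2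
    obtain ⟨hy, -⟩ := (Finset.mem_filter.1 (Finset.mem_product.1 hp').2).2
    simp only at e hx hx1 hy
    have e' : (r.out⁻¹ * q.out) * x * (r.out⁻¹ * q.out)⁻¹ = y := by
      calc (r.out⁻¹ * q.out) * x * (r.out⁻¹ * q.out)⁻¹ = r.out⁻¹ * (q.out * x * q.out⁻¹) * r.out := by group
        _ = r.out⁻¹ * (r.out * y * r.out⁻¹) * r.out := by rw [e]
        _ = y := by group
    have hN : r.out⁻¹ * q.out ∈ h.N := h.ti _ x hx hx1 (by rw [e']; exact hy)
    have hqr : r = q := by
      rw [← QuotientGroup.out_eq' r, ← QuotientGroup.out_eq' q]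
      exact QuotientGroup.eq.2 hN
    subst hqr
    rw [inv_mul_cancel, inv_one, one_mul, mul_one] at e'
    exact Prod.ext rfl e'
  · intro z hz
    obtain ⟨hz1, g, hg⟩ := mem_conjSet.1 hz
    set q : G ⧸ h.N := QuotientGroup.mk g⁻¹
    have hn : g * q.out ∈ h.N := by
      have := QuotientGroup.eq.1 ((QuotientGroup.out_eq' q).symm : QuotientGroup.mk g⁻¹ = QuotientGroup.mk q.out)
      rwa [inv_inv] at this
    refine ⟨(q, q.out⁻¹ * z * q.out), Finset.mem_product.2 ⟨Finset.mem_univ _,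
      Finset.mem_filter.2 ⟨Finset.mem_univ _, ?_, fun h1 => hz1 ?_⟩⟩, by simp only; group⟩
    · have := h.conj_mem (h.N.inv_mem hn) hg
      rwa [show (g * q.out)⁻¹ * (g * z * g⁻¹) * (g * q.out)⁻¹⁻¹ = q.out⁻¹ * z * q.out by group] at this
    · calc z = q.out * (q.out⁻¹ * z * q.out) * q.out⁻¹ := by group
        _ = 1 := by simp only at h1; rw [h1]; group

theorem indFun_apply_mem (h : DTI A u) (θ : A → ℂ) (h1 : θ 1 = 0) {x : A} :
    indFun A θ (x : G) = θ x + θ x⁻¹ := by
  classical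
  by_cases hx : x = 1
  · subst hx
    rw [inv_one, h1, add_zero, CfsgLib.Induction.indFun_apply, Finset.sum_eq_zero, mul_zero]
    intro g _
    rw [show g⁻¹ * ((1 : A) : G) * g = ((1 : A) : G) by simp, CfsgLib.Induction.extendByZero_coe, h1]
  have hx1 : (x : G) ≠ 1 := fun e => hx (Subtype.ext e)
  rw [CfsgLib.Induction.indFun_apply]
  have key : ∀ g : G, extendByZero A θ (g⁻¹ * x * g) =
      (if g ∈ A then θ x else 0) + (if u * g ∈ A then θ x⁻¹ else 0) := by
    intro g
    by_cases hg : g ∈ A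
    · rw [if_pos hg, if_neg (fun h' => h.u_notin
        (by have := A.mul_mem h' (A.inv_mem hg); rwa [mul_inv_cancel_right] at this)), add_zero]
      have : g⁻¹ * x * g = (x : G) := by simpa using h.conj_of_mem (A.inv_mem hg) x.2
      rw [this, CfsgLib.Induction.extendByZero_coe]
    · rw [if_neg hg, zero_add]
      by_cases hg' : u * g ∈ A
      · rw [if_pos hg']
        have h2 : g⁻¹ * (x : G) * g⁻¹⁻¹ = ((x⁻¹ : A) : G) := by
          refine h.conj_of_mul_mem ?_ x.2
          exact ((h.N.inv_mem (show g ∈ h.N from Or.inr hg')).resolve_left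
            fun h3 => hg (by simpa using A.inv_mem h3))
        rw [inv_inv] at h2
        rw [h2, CfsgLib.Induction.extendByZero_coe]
      · rw [if_neg hg']
        refine CfsgLib.Induction.extendByZero_notMem A θ fun hm => ?_
        have h3 := h.ti g⁻¹ x x.2 hx1 (by rwa [inv_inv])
        have h4 : g ∈ h.N := by
          have := h.N.inv_mem (show g⁻¹ ∈ h.N from h3)
          rwa [inv_inv] at this
        exact h4.elim hg hg'
  rw [Finset.sum_congr rfl fun g _ => key g, Finset.sum_add_distrib, ← Finset.sum_filter,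
    ← Finset.sum_filter, Finset.sum_const, Finset.sum_const]
  have c1 : (Finset.univ.filter fun g : G => g ∈ A).card = Nat.card A := by
    rw [Nat.card_eq_fintype_card, Fintype.card_subtype]
  have c2 : (Finset.univ.filter fun g : G => u * g ∈ A).card = Nat.card A := by
    rw [← c1]
    refine Finset.card_equiv (Equiv.mulLeft u) fun g => by simp
  rw [c1, c2, nsmul_eq_mul, nsmul_eq_mul, ← mul_add, inv_mul_cancel_left₀]
  exact Nat.cast_ne_zero.2 Nat.card_pos.ne'

theorem indFun_apply_off (θ : A → ℂ) {x : G} (hx : ¬ ∃ g : G, g * x * g⁻¹ ∈ A) :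
    indFun A θ x = 0 := by
  rw [CfsgLib.Induction.indFun_apply, Finset.sum_eq_zero, mul_zero]
  intro g _
  refine CfsgLib.Induction.extendByZero_notMem A θ fun hm => hx ⟨g⁻¹, by rwa [inv_inv]⟩

end DTI

end CfsgLib.BSW
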