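import Cfsg.Agent.Lib.BSW.DTI
import Cfsg.Agent.Lib.Characters.Values
import Mathlib.GroupTheory.FiniteAbelian.Duality
import Mathlib.RingTheory.RootsOfUnity.AlgebraicallyClosed
import Mathlib.Analysis.Complex.Polynomial.Basic

/-!
# Induced functions `(1 - λ)^G` for a dihedrally normalized TI-subgroup
-/

set_option autoImplicit false
set_option linter.style.haveILetI false

namespace CfsgLib.BSW

open Cfsg CfsgLib.Characters
open scoped ComplexConjugate

section Dual

variable {A : Type*} [Group A] [Finite A]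

/-- A commutative finite group has as many linear characters as elements, and they separate. -/
theorem card_dual (hA : ∀ a b : A, a * b = b * a) : Nat.card (A →* ℂˣ) = Nat.card A := by
  letI : CommGroup A := { (inferInstance : Group A) with mul_comm := hA }
  haveI : NeZero (Monoid.exponent A : ℂ) :=
    ⟨Nat.cast_ne_zero.mpr Monoid.exponent_ne_zero_of_finite⟩
  exact CommGroup.card_monoidHom_of_hasEnoughRootsOfUnity A ℂ

theorem dual_separates (hA : ∀ a b : A, a * b = b * a) {x : A} (hx : x ≠ 1) :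
    ∃ l : A →* ℂˣ, l x ≠ 1 := by
  letI : CommGroup A := { (inferInstance : Group A) with mul_comm := hA }
  haveI : NeZero (Monoid.exponent A : ℂ) :=
    ⟨Nat.cast_ne_zero.mpr Monoid.exponent_ne_zero_of_finite⟩
  exact CommGroup.exists_apply_ne_one_of_hasEnoughRootsOfUnity A ℂ hx

theorem card_dual_two_torsion (hA : ∀ a b : A, a * b = b * a) :
    Nat.card {l : A →* ℂˣ // l * l = 1} = Nat.card {a : A // a * a = 1} := by
  letI : CommGroup A := { (inferInstance : Group A) with mul_comm := hA }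
  haveI : NeZero (Monoid.exponent A : ℂ) :=
    ⟨Nat.cast_ne_zero.mpr Monoid.exponent_ne_zero_of_finite⟩
  obtain ⟨e⟩ := CommGroup.monoidHom_mulEquiv_of_hasEnoughRootsOfUnity A ℂ
  exact Nat.card_congr (e.toEquiv.subtypeEquiv fun l => by
    rw [← e.map_eq_one_iff, map_mul]; rfl)

omit [Finite A] in
theorem sum_dual [Fintype A] (l : A →* ℂˣ) [Decidable (l = 1)] :
    ∑ a : A, ((l a : ℂˣ) : ℂ) = if l = 1 then (Nat.card A : ℂ) else 0 := by
  split_ifs with h
  · subst h; simp [Nat.card_eq_fintype_card]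
  · obtain ⟨b, hb⟩ : ∃ b, l b ≠ 1 := by
      by_contra! hall
      exact h (MonoidHom.ext hall)
    have h1 : ((l b : ℂˣ) : ℂ) * ∑ a : A, ((l a : ℂˣ) : ℂ) = ∑ a : A, ((l a : ℂˣ) : ℂ) := by
      rw [Finset.mul_sum]
      exact Fintype.sum_equiv (Equiv.mulLeft b) _ _ fun a => by simp [map_mul]
    have h2 : ((l b : ℂˣ) : ℂ) ≠ 1 := fun e => hb (Units.ext e)
    exact (mul_left_eq_self₀.1 h1).resolve_left h2

theorem conj_dual (l : A →* ℂˣ) (a : A) : conj ((l a : ℂˣ) : ℂ) = ((l⁻¹ a : ℂˣ) : ℂ) := by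
  have h1 : ((l a : ℂˣ) : ℂ) ^ orderOf a = 1 := by
    rw [← Units.val_pow_eq_pow_val, ← map_pow, pow_orderOf_eq_one, map_one, Units.val_one]
  have h2 : ‖((l a : ℂˣ) : ℂ)‖ = 1 :=
    Complex.norm_eq_one_of_pow_eq_one h1 (orderOf_pos a).ne'
  rw [MonoidHom.inv_apply, Units.val_inv_eq_inv_val, Complex.inv_eq_conj h2]

end Dual

variable {G : Type*} [Group G] [Fintype G] {A : Subgroup G} {u : G}

/-- The induced function `(1 - λ)^G`. -/
noncomputable def F (l : A →* ℂˣ) : G → ℂ := indFun A fun x => 1 - ((l x : ℂˣ) : ℂ)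

theorem isGeneralized_F (l : A →* ℂˣ) : IsGeneralizedCharacter G (F l) := by
  classical
  refine CfsgLib.CharArtin.isGeneralizedCharacter_indFun A ?_
  exact isGeneralizedCharacter_sub isGeneralizedCharacter_one (isGeneralizedCharacter_of_isCharacter
    (CfsgLib.Induction.isCharacter_monoidHom ((Units.coeHom ℂ).comp l)))

theorem isClassFunction_F (l : A →* ℂˣ) : IsClassFunction G (F l) :=
  isClassFunction_of_isGeneralizedCharacter (isGeneralized_F l)

namespace DTI

theorem F_mem (h : DTI A u) (l : A →* ℂˣ) (x : A) :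
    F l (x : G) = 2 - ((l x : ℂˣ) : ℂ) - ((l⁻¹ x : ℂˣ) : ℂ) := by
  rw [F, h.indFun_apply_mem _ (by simp), map_inv, MonoidHom.inv_apply]
  ring

theorem F_one (h : DTI A u) (l : A →* ℂˣ) : F l (1 : G) = 0 := by
  have := h.F_mem l 1
  rw [Subgroup.coe_one] at this
  rw [this]
  simp; norm_num

theorem F_off (l : A →* ℂˣ) {x : G} (hx : ¬ ∃ g : G, g * x * g⁻¹ ∈ A) : F l x = 0 :=
  DTI.indFun_apply_off _ hx

theorem F_inv (h : DTI A u) (l : A →* ℂˣ) : F l⁻¹ = F l := by
  funext x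
  by_cases hx : ∃ g : G, g * x * g⁻¹ ∈ A
  · obtain ⟨g, hg⟩ := hx
    rw [← isClassFunction_F l⁻¹ x g, ← isClassFunction_F l x g]
    have h1 := h.F_mem l⁻¹ ⟨_, hg⟩
    have h2 := h.F_mem l ⟨_, hg⟩
    simp only at h1 h2
    rw [h1, h2]
    simp only [MonoidHom.inv_apply, inv_inv]
    ring
  · rw [F_off _ hx, F_off _ hx]

theorem inner_F_one (l : A →* ℂˣ) (hl : l ≠ 1) : classInner (F l) (fun _ : G => (1 : ℂ)) = 1 := by
  classical
  rw [F, CfsgLib.Induction.classInner_indFun _ _ (fun _ _ => rfl), classInner]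
  simp only [map_one, mul_one, Finset.sum_sub_distrib, sum_dual, if_neg hl, sub_zero,
    Finset.sum_const, Finset.card_univ, nsmul_eq_mul, mul_one, ← Nat.card_eq_fintype_card]
  exact inv_mul_cancel₀ (Nat.cast_ne_zero.2 Nat.card_pos.ne')

theorem inner_F (h : DTI A u) [DecidableEq (A →* ℂˣ)] {l m : A →* ℂˣ} (hl : l ≠ 1) (hm : m ≠ 1) :
    classInner (F l) (F m) =
      2 + (if l = m then 1 else 0) + (if l = m⁻¹ then 1 else 0) := by
  classical
  rw [F, CfsgLib.Induction.classInner_indFun _ _ (isClassFunction_F m), classInner]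
  have hterm : ∀ x : A, (1 - ((l x : ℂˣ) : ℂ)) * conj (F m (x : G)) =
      2 - 2 * ((l x : ℂˣ) : ℂ) - ((m x : ℂˣ) : ℂ) - ((m⁻¹ x : ℂˣ) : ℂ) +
        (((l * m) x : ℂˣ) : ℂ) + (((l * m⁻¹) x : ℂˣ) : ℂ) := by
    intro x
    rw [h.F_mem, map_sub, map_sub, map_ofNat, conj_dual, conj_dual, MonoidHom.mul_apply,
      MonoidHom.mul_apply, Units.val_mul, Units.val_mul]
    simp only [MonoidHom.inv_apply, inv_inv]
    ring
  have e1 : ∀ k : A →* ℂˣ, (l * k = 1 ↔ l = k⁻¹) := fun k => by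
    simp only [MonoidHom.ext_iff, MonoidHom.mul_apply, MonoidHom.one_apply, MonoidHom.inv_apply,
      mul_eq_one_iff_eq_inv]
  have e2 : (m⁻¹)⁻¹ = m := MonoidHom.ext fun x => by simp
  have e3 : m⁻¹ ≠ 1 := fun e => hm (MonoidHom.ext fun x => by
    simpa using DFunLike.congr_fun e x)
  rw [Finset.sum_congr rfl fun x _ => hterm x]
  simp only [Finset.sum_add_distrib, Finset.sum_sub_distrib, ← Finset.mul_sum, sum_dual,
    if_neg hl, if_neg hm, if_neg e3, Finset.sum_const, Finset.card_univ,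
    nsmul_eq_mul, ← Nat.card_eq_fintype_card, mul_zero, sub_zero, e1, e2]
  have hc : (Nat.card A : ℂ) ≠ 0 := Nat.cast_ne_zero.2 Nat.card_pos.ne'
  split_ifs <;> field_simp <;> ring

/-- Pairing with a class function constant on the nonidentity elements of `A`. -/
theorem sum_F_mul (l : A →* ℂˣ) (hl : l ≠ 1) {f : G → ℂ} (hf : IsClassFunction G f) {c : ℂ}
    (hc : ∀ x ∈ A, x ≠ 1 → f x = c) :
    ∑ x : G, F l x * f x = (Nat.card G : ℂ) * c := by
  classical
  have h := CfsgLib.Induction.sum_indFun_mul A (fun x => 1 - ((l x : ℂˣ) : ℂ)) hf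
  have h2 : ∑ x : A, (1 - ((l x : ℂˣ) : ℂ)) * f x = (Nat.card A : ℂ) * c := by
    rw [Finset.sum_congr rfl (g := fun x : A => (1 - ((l x : ℂˣ) : ℂ)) * c) fun x _ => ?_,
      ← Finset.sum_mul, Finset.sum_sub_distrib, sum_dual, if_neg hl, sub_zero, Finset.sum_const,
      Finset.card_univ, nsmul_eq_mul, mul_one, ← Nat.card_eq_fintype_card]
    by_cases hx : x = 1
    · subst hx; simp
    · rw [hc x x.2 fun e => hx (Subtype.ext e)]
  rw [h2, ← mul_assoc, inv_mul_cancel₀ (Nat.cast_ne_zero.2 Nat.card_pos.ne' : (Nat.card A : ℂ) ≠ 0),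
    one_mul, inv_mul_eq_iff_eq_mul₀ (Nat.cast_ne_zero.2 Nat.card_pos.ne')] at h
  exact h

end DTI

end CfsgLib.BSW
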