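import Cfsg.Agent.Lib.BSW.DTI
import Cfsg.Agent.Lib.InvChar.InvolutionCount
import Mathlib.GroupTheory.Sylow
import Mathlib.GroupTheory.GroupAction.ConjAct

/-!
# Local structure in the Brauer–Suzuki–Wall configuration
-/

set_option autoImplicit false
set_option linter.style.haveILetI false

namespace CfsgLib.BSW

open CfsgLib.Involutions CfsgLib.InvChar

variable {G : Type*} [Group G]

/-- The hypotheses: `C(t) = K ⟨s⟩` generalized dihedral, `K` a TI-subgroup with the centralizer of
`t` as normalizer, one class of involutions. -/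
structure Setup (K : Subgroup G) (t s : G) : Prop where
  ht : orderOf t = 2
  hs : orderOf s = 2
  htK : t ∈ K
  hsK : s ∉ K
  comm : ∀ x ∈ K, ∀ y ∈ K, x * y = y * x
  inv : ∀ x ∈ K, s * x * s⁻¹ = x⁻¹
  cent : Subgroup.centralizer ({t} : Set G) = K ⊔ Subgroup.zpowers s
  fix : ∀ x ∈ K, x * s = s * x → x = 1 ∨ x = t
  hti : ∀ g x : G, g ∉ Subgroup.centralizer ({t} : Set G) → x ∈ K → g * x * g⁻¹ ∈ K → x = 1
  hconj : ∀ x y : G, orderOf x = 2 → orderOf y = 2 → IsConj x y

/-- Conjugate into `K`. -/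
def InK (K : Subgroup G) (x : G) : Prop := ∃ g : G, g * x * g⁻¹ ∈ K

variable {K : Subgroup G} {t s : G}

namespace Setup

theorem mem_cent (h : Setup K t s) {g : G} :
    g ∈ Subgroup.centralizer ({t} : Set G) ↔ InN K s g := by
  rw [h.cent]
  constructor
  · intro hg
    have hn : Subgroup.zpowers s ≤ Subgroup.normalizer (K : Set G) := by
      refine Subgroup.zpowers_le.2 (Subgroup.mem_normalizer_iff.2 fun x => ?_)
      refine ⟨fun hx => by rw [h.inv x hx]; exact K.inv_mem hx, fun hx => ?_⟩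
      have := h.inv _ hx
      rw [show s * (s * x * s⁻¹) * s⁻¹ = (s * s) * x * (s * s)⁻¹ by group, mul_self_eq_one h.hs,
        one_mul, inv_one, mul_one] at this
      rw [this]; exact K.inv_mem hx
    rw [← SetLike.mem_coe, Subgroup.coe_mul_of_right_le_normalizer_left K (Subgroup.zpowers s) hn] at hg
    obtain ⟨a, ha, b, hb, rfl⟩ := hg
    obtain ⟨m, rfl⟩ := hb
    rcases Int.even_or_odd m with ⟨j, rfl⟩ | ⟨j, rfl⟩
    · left
      simp only []
      rw [← two_mul, zpow_mul, show s ^ (2 : ℤ) = 1 by rw [zpow_two]; exact mul_self_eq_one h.hs,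
        one_zpow, mul_one]
      exact ha
    · right
      simp only []
      rw [zpow_add, zpow_mul, show s ^ (2 : ℤ) = 1 by rw [zpow_two]; exact mul_self_eq_one h.hs,
        one_zpow, one_mul, zpow_one, ← mul_assoc]
      rw [show s * a * s = s * a * s⁻¹ by rw [inv_eq_self_of_involution h.hs], h.inv a ha]
      exact K.inv_mem ha
  · rintro (hg | hg)
    · exact Subgroup.mem_sup_left hg
    · rw [show g = s * (s * g) by rw [← mul_assoc, mul_self_eq_one h.hs, one_mul]]
      exact Subgroup.mul_mem _ (Subgroup.mem_sup_right (Subgroup.mem_zpowers s))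
        (Subgroup.mem_sup_left hg)

theorem dti (h : Setup K t s) : DTI K s where
  comm := h.comm
  u_sq := mul_self_eq_one h.hs
  u_notin := h.hsK
  inv := h.inv
  ti g x hx hx1 hgx := h.mem_cent.1 (by_contra fun hg => hx1 (h.hti g x hg hx hgx))

theorem N_eq (h : Setup K t s) : h.dti.N = Subgroup.centralizer ({t} : Set G) :=
  SetLike.ext fun _ => h.mem_cent.symm

theorem ne_bot (h : Setup K t s) : K ≠ ⊥ := fun e =>
  ne_one_of_involution h.ht (Subgroup.mem_bot.1 (e ▸ h.htK))

theorem eq_of_sq (h : Setup K t s) {x : G} (hx : x ∈ K) (h2 : x * x = 1) : x = 1 ∨ x = t := by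
  refine h.fix x hx ?_
  have := h.inv x hx
  rw [inv_eq_of_mul_eq_one_right h2, mul_inv_eq_iff_eq_mul] at this
  exact this.symm

theorem eq_of_involution (h : Setup K t s) {x : G} (hx : x ∈ K) (h2 : orderOf x = 2) : x = t :=
  (h.eq_of_sq hx (mul_self_eq_one h2)).resolve_left (ne_one_of_involution h2)

theorem inK_of_involution (h : Setup K t s) {x : G} (hx : orderOf x = 2) : InK K x := by
  obtain ⟨g, hg⟩ := isConj_iff.1 (h.hconj x t hx h.ht)
  exact ⟨g, hg ▸ h.htK⟩

theorem inK_conj (x g : G) : InK K (g * x * g⁻¹) ↔ InK K x := by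
  constructor
  · rintro ⟨a, ha⟩
    exact ⟨a * g, by rwa [show a * g * x * (a * g)⁻¹ = a * (g * x * g⁻¹) * a⁻¹ by group]⟩
  · rintro ⟨a, ha⟩
    refine ⟨a * g⁻¹, ?_⟩
    rwa [show a * g⁻¹ * (g * x * g⁻¹) * (a * g⁻¹)⁻¹ = a * x * a⁻¹ by group]

/-- Whatever commutes with an involution is conjugate into `K`. -/
theorem inK_of_commute (h : Setup K t s) {x u : G} (hu : orderOf u = 2) (hxu : x * u = u * x) :
    InK K x := by
  obtain ⟨g, hg⟩ := isConj_iff.1 (h.hconj u t hu h.ht)
  have hmem : g * x * g⁻¹ ∈ Subgroup.centralizer ({t} : Set G) := by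
    rw [Subgroup.mem_centralizer_singleton_iff, ← hg]
    calc g * x * g⁻¹ * (g * u * g⁻¹) = g * (x * u) * g⁻¹ := by group
      _ = g * (u * x) * g⁻¹ := by rw [hxu]
      _ = g * u * g⁻¹ * (g * x * g⁻¹) := by group
  by_cases hK : g * x * g⁻¹ ∈ K
  · exact ⟨g, hK⟩
  · exact (inK_conj x g).1 (h.inK_of_involution (h.dti.orderOf_outside (h.mem_cent.1 hmem) hK))

theorem inK_one : InK K (1 : G) := ⟨1, by simp [K.one_mem]⟩

section

variable [Finite G]

theorem odd_centralizer (h : Setup K t s) {x : G} (hx : ¬ InK K x) :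
    Odd (Nat.card (Subgroup.centralizer ({x} : Set G))) := by
  rw [← Nat.not_even_iff_odd]
  intro he
  haveI : Fact (Nat.Prime 2) := ⟨Nat.prime_two⟩
  obtain ⟨⟨u, hu⟩, hu2⟩ := exists_prime_orderOf_dvd_card' (G := Subgroup.centralizer ({x} : Set G)) 2
    (even_iff_two_dvd.1 he)
  rw [Subgroup.orderOf_mk] at hu2
  exact hx (h.inK_of_commute hu2 (Subgroup.mem_centralizer_singleton_iff.1 hu).symm)

theorem not_inK_of_mem (h : Setup K t s) {x y : G} (hx : ¬ InK K x)
    (hy : y ∈ Subgroup.centralizer ({x} : Set G)) (hy1 : y ≠ 1) : ¬ InK K y := by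
  rintro ⟨g, hg⟩
  have hodd : Odd (orderOf y) :=
    (h.odd_centralizer hx).of_dvd_nat (Subgroup.orderOf_dvd_natCard _ hy)
  have h2 : g * y * g⁻¹ * (g * y * g⁻¹) ≠ 1 := by
    intro e
    rw [show g * y * g⁻¹ * (g * y * g⁻¹) = g * (y * y) * g⁻¹ by group, conj_eq_one_iff] at e
    have := orderOf_dvd_of_pow_eq_one (x := y) (n := 2) (by rw [sq]; exact e)
    rcases (Nat.dvd_prime Nat.prime_two).1 this with h1 | h1
    · exact hy1 (orderOf_eq_one_iff.1 h1)
    · rw [h1] at hodd; exact absurd hodd (by decide)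
  refine hx ⟨g, ?_⟩
  rw [← h.dti.centralizer_eq hg h2, Subgroup.mem_centralizer_singleton_iff]
  rw [Subgroup.mem_centralizer_singleton_iff] at hy
  calc g * x * g⁻¹ * (g * y * g⁻¹) = g * (x * y) * g⁻¹ := by group
    _ = g * (y * x) * g⁻¹ := by rw [hy]
    _ = g * y * g⁻¹ * (g * x * g⁻¹) := by group

end

variable [Fintype G]

/-- A strongly real element outside the conjugates of `K` has an abelian, inverted, self-centralizing
centralizer. -/
theorem real_facts (h : Setup K t s) {x u : G} (hx : ¬ InK K x) (hu : u ∈ invPairs x) :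
    (∀ c ∈ Subgroup.centralizer ({x} : Set G), u * c * u⁻¹ = c⁻¹) ∧
      (∀ a ∈ Subgroup.centralizer ({x} : Set G), ∀ b ∈ Subgroup.centralizer ({x} : Set G),
        a * b = b * a) ∧
      (invPairs x).card = Nat.card (Subgroup.centralizer ({x} : Set G)) ∧
      ∀ y ∈ Subgroup.centralizer ({x} : Set G), y ≠ 1 →
        u ∈ invPairs y ∧ Subgroup.centralizer ({y} : Set G) = Subgroup.centralizer ({x} : Set G) := by
  have hu2 := (mem_invPairs.1 hu).1
  have hfix : ∀ c ∈ Subgroup.centralizer ({x} : Set G), Commute c u → c = 1 := fun c hc hcu =>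
    by_contra fun hc1 => h.not_inK_of_mem hx hc hc1 (h.inK_of_commute hu2 hcu)
  obtain ⟨hinv, hab, hodd⟩ := inverts_centralizer hu hfix
  have hcomm : ∀ a ∈ Subgroup.centralizer ({x} : Set G),
      ∀ b ∈ Subgroup.centralizer ({x} : Set G), a * b = b * a :=
    fun a ha b hb => congrArg Subtype.val (hab.is_comm.comm (⟨a, ha⟩ :
      Subgroup.centralizer ({x} : Set G)) ⟨b, hb⟩)
  refine ⟨hinv, hcomm, card_invPairs_eq hu hfix, fun y hy hy1 => ?_⟩
  have huy : u ∈ invPairs y := by
    refine mem_invPairs_iff_inverts.2 ⟨hu2, fun e => ?_, hinv y hy⟩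
    have hd : orderOf y ∣ Nat.card (Subgroup.centralizer ({x} : Set G)) :=
      Subgroup.orderOf_dvd_natCard _ hy
    rw [← inv_eq_of_mul_eq_one_right e, inv_eq_self_of_involution hu2, hu2] at hd
    exact Nat.not_even_iff_odd.2 hodd (even_iff_two_dvd.2 hd)
  refine ⟨huy, le_antisymm ?_ ?_⟩
  · intro c hc
    have hy' := h.not_inK_of_mem hx hy hy1
    obtain ⟨-, hab', -⟩ := inverts_centralizer huy fun d hd hdu =>
      by_contra fun hd1 => h.not_inK_of_mem hy' hd hd1 (h.inK_of_commute hu2 hdu)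
    have hxy : x ∈ Subgroup.centralizer ({y} : Set G) :=
      Subgroup.mem_centralizer_singleton_iff.2 (Subgroup.mem_centralizer_singleton_iff.1 hy).symm
    exact Subgroup.mem_centralizer_singleton_iff.2 (congrArg Subtype.val (hab'.is_comm.comm
      (⟨c, hc⟩ : Subgroup.centralizer ({y} : Set G)) ⟨x, hxy⟩))
  · intro c hc
    exact Subgroup.mem_centralizer_singleton_iff.2 (hcomm c hc y hy)

omit [Fintype G] in
theorem x_mem (x : G) : x ∈ Subgroup.centralizer ({x} : Set G) :=
  Subgroup.mem_centralizer_singleton_iff.2 rfl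

omit [Fintype G] in
theorem ne_one_of_not_inK {x : G} (hx : ¬ InK K x) : x ≠ 1 := fun e => hx (e ▸ inK_one)

/-- The centralizer of a strongly real element is a trivial intersection set. -/
theorem real_ti (h : Setup K t s) {x u : G} (hx : ¬ InK K x) (hu : u ∈ invPairs x) {g a : G}
    (ha : a ∈ Subgroup.centralizer ({x} : Set G)) (ha1 : a ≠ 1)
    (hga : g * a * g⁻¹ ∈ Subgroup.centralizer ({x} : Set G)) :
    g ∈ Subgroup.normalizer (Subgroup.centralizer ({x} : Set G) : Set G) := by
  obtain ⟨-, hcomm, -, hy⟩ := h.real_facts hx hu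
  have hC' := (hy _ hga fun e => ha1 (conj_eq_one_iff.1 e)).2
  rw [Subgroup.mem_normalizer_iff_map_conj_eq]
  refine Subgroup.eq_of_le_of_card_ge ?_ ?_
  · rintro _ ⟨c, hc, rfl⟩
    rw [← hC', Subgroup.mem_centralizer_singleton_iff]
    calc g * c * g⁻¹ * (g * a * g⁻¹) = g * (c * a) * g⁻¹ := by group
      _ = g * (a * c) * g⁻¹ := by rw [hcomm c hc a ha]
      _ = g * a * g⁻¹ * (g * c * g⁻¹) := by group
  · rw [Subgroup.card_map_of_injective (MulAut.conj g).injective]

/-- Frattini argument for the inverting involutions. -/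
theorem real_factor (h : Setup K t s) {x u : G} (hx : ¬ InK K x) (hu : u ∈ invPairs x) {g : G}
    (hg : g ∈ Subgroup.normalizer (Subgroup.centralizer ({x} : Set G) : Set G)) :
    ∃ r ∈ Subgroup.centralizer ({x} : Set G), (r * g) * u = u * (r * g) := by
  obtain ⟨hinv, hcomm, -, hy⟩ := h.real_facts hx hu
  have hu2 := (mem_invPairs.1 hu).1
  set u' := g * u * g⁻¹ with hu'
  have hgx : g⁻¹ * x * g ∈ Subgroup.centralizer ({x} : Set G) := by
    have := (Subgroup.mem_normalizer_iff.1 hg (g⁻¹ * x * g)).2 (by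
      rw [show g * (g⁻¹ * x * g) * g⁻¹ = x by group]; exact x_mem x)
    exact this
  have hinv' : u' * x * u'⁻¹ = x⁻¹ := by
    rw [hu', show g * u * g⁻¹ * x * (g * u * g⁻¹)⁻¹ = g * (u * (g⁻¹ * x * g) * u⁻¹) * g⁻¹ by group,
      hinv _ hgx]
    group
  set c := u⁻¹ * u' with hcdef
  have hc : c ∈ Subgroup.centralizer ({x} : Set G) := by
    rw [Subgroup.mem_centralizer_singleton_iff, hcdef]
    calc u⁻¹ * u' * x = u⁻¹ * (u' * x * u'⁻¹) * u' := by group
      _ = u⁻¹ * (u * x * u⁻¹) * u' := by rw [hinv', hinv x (x_mem x)]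
      _ = x * (u⁻¹ * u') := by group
  obtain ⟨m, hm⟩ := h.odd_centralizer hx
  set r := c ^ (m + 1) with hr
  have hrm : r ∈ Subgroup.centralizer ({x} : Set G) := Subgroup.pow_mem _ hc _
  have hr2 : r * r = c := by
    rw [hr, ← pow_add, show m + 1 + (m + 1) = Nat.card (Subgroup.centralizer ({x} : Set G)) + 1
      by omega, pow_succ]
    have h1 : (⟨c, hc⟩ : Subgroup.centralizer ({x} : Set G)) ^
        Nat.card (Subgroup.centralizer ({x} : Set G)) = 1 := pow_card_eq_one'
    have h2 := congrArg Subtype.val h1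
    simp only [Subgroup.coe_pow, Subgroup.coe_one] at h2
    rw [h2, one_mul]
  have e4 : r * u = u * r⁻¹ := by
    rw [← hinv r hrm, inv_eq_self_of_involution hu2, ← mul_assoc, ← mul_assoc, mul_self_eq_one hu2,
      one_mul]
  have e2 : r * u' * r⁻¹ = u := by
    rw [show u' = u * (r * r) by rw [hr2, hcdef, mul_inv_cancel_left], ← mul_assoc, e4]
    group
  exact ⟨r, hrm, by
    calc (r * g) * u = r * u' * r⁻¹ * (r * g) := by rw [hu']; group
      _ = u * (r * g) := by rw [e2]⟩

theorem card_normalizer (h : Setup K t s) {x u : G} (hx : ¬ InK K x) (hu : u ∈ invPairs x) :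
    Nat.card (Subgroup.normalizer (Subgroup.centralizer ({x} : Set G) : Set G)) =
      Nat.card (Subgroup.centralizer ({x} : Set G)) *
        Nat.card (Subgroup.normalizer (Subgroup.centralizer ({x} : Set G) : Set G) ⊓
          Subgroup.centralizer ({u} : Set G) : Subgroup G) := by
  set A := Subgroup.centralizer ({x} : Set G) with hA
  set N := Subgroup.normalizer (A : Set G)
  set E := N ⊓ Subgroup.centralizer ({u} : Set G)
  have hu2 := (mem_invPairs.1 hu).1
  have hAN : A ≤ N := Subgroup.le_normalizer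
  let f : A × E → N := fun p => ⟨p.1 * p.2, N.mul_mem (hAN p.1.2) p.2.2.1⟩
  have hf : Function.Bijective f := by
    refine ⟨?_, ?_⟩
    · rintro ⟨a, e⟩ ⟨a', e'⟩ he
      have h0 : (a : G) * e = a' * e' := congrArg Subtype.val he
      have h1 : (a' : G)⁻¹ * a = e' * (e : G)⁻¹ := by
        rw [eq_mul_inv_iff_mul_eq, mul_assoc, h0, inv_mul_cancel_left]
      have hm : (a' : G)⁻¹ * a ∈ A := A.mul_mem (A.inv_mem a'.2) a.2
      have hcu : (a' : G)⁻¹ * a * u = u * ((a' : G)⁻¹ * a) := by
        rw [h1]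
        exact Subgroup.mem_centralizer_singleton_iff.1 (E.mul_mem e'.2 (E.inv_mem e.2)).2
      have h2 : (a' : G)⁻¹ * a = 1 := by_contra fun h3 =>
        h.not_inK_of_mem hx hm h3 (h.inK_of_commute hu2 hcu)
      have h4 : (a : G) = a' := (inv_mul_eq_one.1 h2).symm
      rw [h4, mul_right_inj] at h0
      exact Prod.ext (Subtype.ext h4) (Subtype.ext h0)
    · rintro ⟨g, hg⟩
      obtain ⟨r, hr, hru⟩ := h.real_factor hx hu hg
      refine ⟨(⟨r⁻¹, A.inv_mem hr⟩, ⟨r * g, N.mul_mem (hAN hr) hg,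
        Subgroup.mem_centralizer_singleton_iff.2 hru⟩), Subtype.ext (by simp [f])⟩
  rw [← Nat.card_eq_of_bijective f hf, Nat.card_prod]

/-- The complement `N(A) ∩ C(u)` lies in the conjugate of `K` belonging to `u`. -/
theorem complement_le (h : Setup K t s) {x u d : G} (hx : ¬ InK K x) (hu : u ∈ invPairs x)
    (hd : d * u * d⁻¹ = t) {g : G}
    (hg : g ∈ Subgroup.normalizer (Subgroup.centralizer ({x} : Set G) : Set G))
    (hgu : g * u = u * g) : d * g * d⁻¹ ∈ K := by
  obtain ⟨hinv, -, -, -⟩ := h.real_facts hx hu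
  have hu2 := (mem_invPairs.1 hu).1
  have hmem : d * g * d⁻¹ ∈ Subgroup.centralizer ({t} : Set G) := by
    rw [Subgroup.mem_centralizer_singleton_iff, ← hd]
    calc d * g * d⁻¹ * (d * u * d⁻¹) = d * (g * u) * d⁻¹ := by group
      _ = d * (u * g) * d⁻¹ := by rw [hgu]
      _ = d * u * d⁻¹ * (d * g * d⁻¹) := by group
  by_contra hK
  have hg2 : orderOf g = 2 := by
    rw [← orderOf_conj_eq d g]; exact h.dti.orderOf_outside (h.mem_cent.1 hmem) hK
  have hgu1 : g ≠ u := fun e => hK (by rw [e, hd]; exact h.htK)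
  have hinv2 := inverts_of_fixedPointFree hg2
    (fun c hc => (Subgroup.mem_normalizer_iff.1 hg c).1 hc)
    (fun c hc hcg => by_contra fun hc1 => h.not_inK_of_mem hx hc hc1 (h.inK_of_commute hg2 hcg))
  have hmul : u * g ∈ Subgroup.centralizer ({x} : Set G) := by
    rw [Subgroup.mem_centralizer_singleton_iff]
    calc u * g * x = u * (g * x * g⁻¹) * u⁻¹ * (u * g) := by group
      _ = u * x⁻¹ * u⁻¹ * (u * g) := by rw [hinv2 x (x_mem x)]
      _ = x * (u * g) := by rw [hinv _ (inv_mem (x_mem x)), inv_inv]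
  have hne : u * g ≠ 1 := fun e => hgu1 ((inv_eq_of_mul_eq_one_right e).symm.trans
    (inv_eq_self_of_involution hu2))
  exact h.not_inK_of_mem hx hmul hne (h.inK_of_commute hu2 (by rw [mul_assoc, hgu]))

theorem real_dti (h : Setup K t s) {x u : G} (hx : ¬ InK K x) (hu : u ∈ invPairs x)
    (hN : Nat.card (Subgroup.normalizer (Subgroup.centralizer ({x} : Set G) : Set G)) =
      2 * Nat.card (Subgroup.centralizer ({x} : Set G))) :
    DTI (Subgroup.centralizer ({x} : Set G)) u := by
  set A := Subgroup.centralizer ({x} : Set G) with hA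
  set N := Subgroup.normalizer (A : Set G)
  obtain ⟨hinv, hcomm, -, -⟩ := h.real_facts hx hu
  have hu2 := (mem_invPairs.1 hu).1
  have huN : u ∈ N := Subgroup.mem_normalizer_iff.2 fun c => ⟨fun hc => by
    rw [hinv c hc]; exact A.inv_mem hc, fun hc => by
    have := hinv _ hc
    rw [show u * (u * c * u⁻¹) * u⁻¹ = (u * u) * c * (u * u)⁻¹ by group, mul_self_eq_one hu2,
      one_mul, inv_one, mul_one] at this
    rw [this]; exact A.inv_mem hc⟩
  have huA : u ∉ A := fun hm =>
    hx (h.inK_of_commute hu2 (Subgroup.mem_centralizer_singleton_iff.1 hm).symm)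
  refine ⟨hcomm, mul_self_eq_one hu2, huA, hinv, fun g a ha ha1 hga => ?_⟩
  have hgN := h.real_ti hx hu ha ha1 hga
  set E := N ⊓ Subgroup.centralizer ({u} : Set G) with hEdef
  have hE : Nat.card E = 2 := by
    have := h.card_normalizer hx hu
    rw [hN, mul_comm] at this
    exact (mul_left_cancel₀ Nat.card_pos.ne' this).symm
  have huE : u ∈ E := ⟨huN, Subgroup.mem_centralizer_singleton_iff.2 rfl⟩
  have hEmem : ∀ e ∈ E, e = 1 ∨ e = u := by
    intro e he
    by_contra hne
    push Not at hne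
    have h3 : ({1, u, e} : Set G).ncard = 3 := by
      rw [Set.ncard_eq_three]
      exact ⟨1, u, e, (ne_one_of_involution hu2).symm, hne.1.symm, hne.2.symm, rfl⟩
    have hle : ({1, u, e} : Set G).ncard ≤ (E : Set G).ncard := by
      refine Set.ncard_le_ncard ?_ (Set.toFinite _)
      rintro y (rfl | rfl | rfl)
      exacts [E.one_mem, huE, he]
    rw [h3, ← Nat.card_coe_set_eq] at hle
    change 3 ≤ Nat.card E at hle
    omega
  obtain ⟨r, hr, hru⟩ := h.real_factor hx hu hgN
  have hrg : r * g ∈ E :=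
    ⟨N.mul_mem (Subgroup.le_normalizer hr) hgN, Subgroup.mem_centralizer_singleton_iff.2 hru⟩
  rcases hEmem _ hrg with e1 | e1
  · left
    rw [← inv_eq_of_mul_eq_one_right e1]; exact A.inv_mem hr
  · right
    have : g = r⁻¹ * u := by rw [← e1, inv_mul_cancel_left]
    rw [this, show u * (r⁻¹ * u) = u * r⁻¹ * u⁻¹ by rw [inv_eq_self_of_involution hu2, mul_assoc],
      hinv _ (A.inv_mem hr), inv_inv]
    exact hr

/-- Classes of strongly real centralizers are determined by any prime divisor of their order. -/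
theorem real_conj_of_prime (h : Setup K t s) {x u y v : G} (hx : ¬ InK K x) (hu : u ∈ invPairs x)
    (hy : ¬ InK K y) (hv : v ∈ invPairs y) {p : ℕ} [Fact p.Prime]
    (hpx : p ∣ Nat.card (Subgroup.centralizer ({x} : Set G)))
    (hpy : p ∣ Nat.card (Subgroup.centralizer ({y} : Set G))) :
    ∃ g : G, (Subgroup.centralizer ({x} : Set G)).map (MulAut.conj g).toMonoidHom =
      Subgroup.centralizer ({y} : Set G) := by
  have main : ∀ {z w : G}, ¬ InK K z → w ∈ invPairs z →
      p ∣ Nat.card (Subgroup.centralizer ({z} : Set G)) →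
      ∃ P : Sylow p G, (P : Subgroup G) ≤ Subgroup.centralizer ({z} : Set G) := by
    intro z w hz hw hp
    obtain ⟨⟨c, hc⟩, hc2⟩ := exists_prime_orderOf_dvd_card' p hp
    rw [Subgroup.orderOf_mk] at hc2
    have hc1 : c ≠ 1 := fun e => by
      rw [e, orderOf_one] at hc2; exact (Fact.out : p.Prime).one_lt.ne hc2
    have hpgroup : IsPGroup p (Subgroup.zpowers c) :=
      IsPGroup.of_card (n := 1) (by rw [Nat.card_zpowers, hc2, pow_one])
    obtain ⟨P, hP⟩ := hpgroup.exists_le_sylow
    have hcP : c ∈ (P : Subgroup G) := hP (Subgroup.mem_zpowers c)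
    haveI : Nontrivial P := ⟨⟨c, hcP⟩, 1, fun e => hc1 (congrArg Subtype.val e)⟩
    haveI := P.isPGroup'.center_nontrivial
    obtain ⟨q, hq⟩ := exists_ne (1 : Subgroup.center P)
    set q' : G := ((q : P) : G)
    have hq1 : q' ≠ 1 := fun e => hq (Subtype.ext (Subtype.ext e))
    obtain ⟨-, -, -, hfy⟩ := h.real_facts hz hw
    have hqC : q' ∈ Subgroup.centralizer ({z} : Set G) := by
      rw [← (hfy c hc hc1).2, Subgroup.mem_centralizer_singleton_iff]
      exact (congrArg Subtype.val (Subgroup.mem_center_iff.1 q.2 ⟨c, hcP⟩)).symm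
    refine ⟨P, fun b hb => ?_⟩
    rw [← (hfy q' hqC hq1).2, Subgroup.mem_centralizer_singleton_iff]
    exact congrArg Subtype.val (Subgroup.mem_center_iff.1 q.2 ⟨b, hb⟩)
  obtain ⟨P, hP⟩ := main hx hu hpx
  obtain ⟨Q, hQ⟩ := main hy hv hpy
  obtain ⟨g, hg⟩ := MulAction.exists_smul_eq G P Q
  have hne : (P : Subgroup G) ≠ ⊥ := P.ne_bot_of_dvd_card
    (hpx.trans (Subgroup.card_subgroup_dvd_card _))
  obtain ⟨c, hcP, hc1⟩ : ∃ c ∈ (P : Subgroup G), c ≠ 1 := by
    by_contra! hall
    exact hne ((Subgroup.eq_bot_iff_forall _).2 hall)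
  refine ⟨g, ?_⟩
  have hgc : g * c * g⁻¹ ∈ (Q : Subgroup G) := by
    rw [← hg, Sylow.smul_def]
    exact ⟨c, hcP, rfl⟩
  have hgc1 : g * c * g⁻¹ ≠ 1 := fun e => hc1 (conj_eq_one_iff.1 e)
  have hCx := ((h.real_facts hx hu).2.2.2 c (hP hcP) hc1).2
  have hCy := ((h.real_facts hy hv).2.2.2 _ (hQ hgc) hgc1).2
  rw [← hCx, ← hCy]
  ext b
  rw [Subgroup.mem_map_equiv, MulAut.conj_symm_apply, Subgroup.mem_centralizer_singleton_iff,
    Subgroup.mem_centralizer_singleton_iff]
  constructor
  · intro e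
    calc b * (g * c * g⁻¹) = g * (g⁻¹ * b * g * c) * g⁻¹ := by group
      _ = g * (c * (g⁻¹ * b * g)) * g⁻¹ := by rw [e]
      _ = g * c * g⁻¹ * b := by group
  · intro e
    calc g⁻¹ * b * g * c = g⁻¹ * (b * (g * c * g⁻¹)) * g := by group
      _ = g⁻¹ * (g * c * g⁻¹ * b) * g := by rw [e]
      _ = c * (g⁻¹ * b * g) := by group

/-! ### Counting -/

theorem card_invs (h : Setup K t s) :
    (invs G).card = (Subgroup.centralizer ({t} : Set G)).index := by
  rw [← ncard_conjugates t, ← Set.ncard_coe_finset]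
  congr 1
  ext y
  simp only [Finset.mem_coe, mem_invs, Set.mem_setOf_eq]
  exact ⟨fun hy => h.hconj t y h.ht hy, fun hy => (orderOf_eq_of_isConj hy).trans h.ht⟩

omit [Fintype G] in
theorem card_G (h : Setup K t s) :
    Nat.card G = 2 * Nat.card K * (Subgroup.centralizer ({t} : Set G)).index := by
  rw [← h.dti.card_N, h.N_eq, Subgroup.card_mul_index]

omit [Fintype G] in
theorem even_card_K (h : Setup K t s) : 2 ∣ Nat.card K :=
  h.ht ▸ Subgroup.orderOf_dvd_natCard K h.htK

/-- Inverting involutions of an element of `K`. -/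
theorem card_invPairs_K (h : Setup K t s) {x : G} (hx : x ∈ K) (hx1 : x ≠ 1) :
    (invPairs x).card = Nat.card K := by
  classical
  have key : ∀ v, v ∈ invPairs x ↔ s * v ∈ K := by
    intro v
    constructor
    · intro hv
      obtain ⟨hv2, hne, hinv⟩ := mem_invPairs_iff_inverts.1 hv
      have hcase : InN K s v := by
        refine h.dti.ti v x hx hx1 ?_
        rw [hinv]; exact K.inv_mem hx
      refine hcase.resolve_left fun hvK => ?_
      have hvt := h.eq_of_involution hvK hv2
      have hc := h.dti.conj_of_mem hvK hx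
      rw [hinv] at hc
      have hxx : x * x = 1 := by
        nth_rewrite 1 [← hc]
        exact inv_mul_cancel x
      exact hne (by rw [(h.eq_of_sq hx hxx).resolve_left hx1, hvt, mul_self_eq_one h.ht])
    · intro hv
      have hvK : v ∉ K := fun e => h.hsK (by
        have := K.mul_mem hv (K.inv_mem e); rwa [mul_inv_cancel_right] at this)
      refine mem_invPairs_iff_inverts.2 ⟨h.dti.orderOf_outside (Or.inr hv) hvK, fun e => hvK ?_,
        h.dti.conj_of_mul_mem hv hx⟩
      rw [← inv_inv v, inv_eq_of_mul_eq_one_right e]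
      exact K.inv_mem hx
  rw [Nat.card_eq_fintype_card, Fintype.card_subtype]
  refine Finset.card_equiv (Equiv.mulLeft s) fun v => ?_
  simp [key v]

theorem invPairs_conj (x g : G) : (invPairs (g * x * g⁻¹)).card = (invPairs x).card := by
  symm
  refine Finset.card_equiv (MulAut.conj g).toEquiv fun v => ?_
  simp only [MulEquiv.toEquiv_eq_coe, EquivLike.coe_coe, MulAut.conj_apply, mem_invPairs,
    orderOf_conj_eq]
  rw [show g * v * g⁻¹ * (g * x * g⁻¹) = g * (v * x) * g⁻¹ by group, orderOf_conj_eq]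

theorem card_invPairs_inK (h : Setup K t s) {x : G} (hx : InK K x) (hx1 : x ≠ 1) :
    (invPairs x).card = Nat.card K := by
  obtain ⟨g, hg⟩ := hx
  rw [← invPairs_conj x g]
  exact h.card_invPairs_K hg fun e => hx1 (conj_eq_one_iff.1 e)

open scoped Classical in
/-- The strongly real elements outside the conjugates of `K`. -/
noncomputable def realSet (K : Subgroup G) : Finset G :=
  Finset.univ.filter fun x => ¬ InK K x ∧ (invPairs x).Nonempty

theorem mem_realSet {K : Subgroup G} {x : G} :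
    x ∈ realSet K ↔ ¬ InK K x ∧ ∃ u, u ∈ invPairs x := by
  classical
  rw [realSet, Finset.mem_filter, and_iff_right (Finset.mem_univ x)]
  rfl

/-- Counting pairs of involutions by their product. -/
theorem sum_pairs (h : Setup K t s) :
    (invs G).card * (invs G).card = (invs G).card +
      (DTI.conjSet K).card * Nat.card K +
      ∑ x ∈ realSet K, Nat.card (Subgroup.centralizer ({x} : Set G)) := by
  classical
  rw [← sum_card_invPairs]
  have hd : Disjoint (DTI.conjSet K) (realSet K) := Finset.disjoint_left.2 fun x hx hx' =>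
    (mem_realSet.1 hx').1 (DTI.mem_conjSet.1 hx).2
  have h1 : (1 : G) ∉ DTI.conjSet K ∪ realSet K := by
    simp only [Finset.mem_union, not_or]
    exact ⟨fun e => (DTI.mem_conjSet.1 e).1 rfl, fun e => (mem_realSet.1 e).1 inK_one⟩
  rw [← Finset.sum_subset (Finset.subset_univ (insert 1 (DTI.conjSet K ∪ realSet K))),
    Finset.sum_insert h1, invPairs_one, Finset.sum_union hd, ← add_assoc]
  · congr 1
    · congr 1
      rw [← smul_eq_mul, ← Finset.sum_const]
      exact Finset.sum_congr rfl fun x hx =>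
        h.card_invPairs_inK (DTI.mem_conjSet.1 hx).2 (DTI.mem_conjSet.1 hx).1
    · refine Finset.sum_congr rfl fun x hx => ?_
      obtain ⟨hx1, u, hu⟩ := mem_realSet.1 hx
      exact (h.real_facts hx1 hu).2.2.1
  · intro x _ hx
    simp only [Finset.mem_insert, Finset.mem_union, DTI.mem_conjSet, not_or] at hx
    rw [Finset.card_eq_zero, Finset.eq_empty_iff_forall_notMem]
    intro u hu
    exact hx.2.2 (mem_realSet.2 ⟨fun e => hx.2.1 ⟨hx.1, e⟩, u, hu⟩)

theorem card_conjSet_K (h : Setup K t s) :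
    (DTI.conjSet K).card = (invs G).card * (Nat.card K - 1) := by
  rw [h.dti.card_conjSet, h.N_eq, h.card_invs]

/-- The number of involutions is `1` modulo `|K|`. -/
theorem card_K_dvd (h : Setup K t s) : Nat.card K ∣ (invs G).card + 2 * Nat.card K - 1 := by
  classical
  have htI : t ∈ invs G := mem_invs.2 h.ht
  letI : MulAction K {v : G // v ∈ invs G} :=
    { smul := fun k v => ⟨k * v * (k : G)⁻¹, mem_invs.2 (by rw [orderOf_conj_eq]; exact mem_invs.1 v.2)⟩
      one_smul := fun v => Subtype.ext (by show ((1 : K) : G) * v * _ = _; simp)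
      mul_smul := fun a b v => Subtype.ext (by
        show ((a * b : K) : G) * v * _ = (a : G) * ((b : G) * v * (b : G)⁻¹) * (a : G)⁻¹
        simp [mul_assoc]) }
  have hsmul : ∀ (k : K) (v : {v : G // v ∈ invs G}),
      (k • v = v) ↔ (k : G) * v = v * k := fun k v => by
    rw [Subtype.ext_iff]
    exact mul_inv_eq_iff_eq_mul
  have hb := MulAction.sum_card_fixedBy_eq_card_orbits_mul_card_group K {v : G // v ∈ invs G}
  let f : K → ℕ := fun k => Fintype.card (MulAction.fixedBy {v : G // v ∈ invs G} k)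
  have hone : f 1 = (invs G).card := by
    simp only [f]
    rw [← Nat.card_eq_fintype_card]
    exact (Nat.card_congr (Equiv.subtypeUnivEquiv fun v => one_smul K v)).trans
      (Nat.card_eq_finsetCard _)
  have hfix : ∀ k : K, (k : G) ≠ 1 → f k =
      if (k : G) = t then Nat.card K + 1 else 1 := by
    intro k hk1
    have hset : f k = ((invs G).filter fun v => (k : G) * v = v * k).card := by
      simp only [f]
      rw [Fintype.card_subtype]
      refine Finset.card_bij (fun v _ => (v : G)) (fun v hv => ?_) (fun a _ b _ e => Subtype.ext e)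
        fun v hv => ⟨⟨v, (Finset.mem_filter.1 hv).1⟩, ?_, rfl⟩
      · exact Finset.mem_filter.2 ⟨v.2, (hsmul k v).1 (Finset.mem_filter.1 hv).2⟩
      · exact Finset.mem_filter.2 ⟨Finset.mem_univ _, (hsmul k _).2 (Finset.mem_filter.1 hv).2⟩
    rw [hset]
    split_ifs with hkt
    · rw [hkt]
      have : (invs G).filter (fun v => t * v = v * t) = insert t (invPairs t) := by
        ext v
        rw [Finset.mem_filter, Finset.mem_insert, mem_invPairs_of_involution h.ht, mem_invs]
        constructor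
        · rintro ⟨hv, hc⟩
          by_cases e : v = t
          · exact Or.inl e
          · exact Or.inr ⟨hv, hc.symm, e⟩
        · rintro (rfl | ⟨hv, hc, -⟩)
          · exact ⟨h.ht, rfl⟩
          · exact ⟨hv, hc.eq.symm⟩
      rw [this, Finset.card_insert_of_notMem, h.card_invPairs_K h.htK (ne_one_of_involution h.ht)]
      intro e
      exact ((mem_invPairs_of_involution h.ht).1 e).2.2 rfl
    · have hk2 : (k : G) * k ≠ 1 := fun e => ((h.eq_of_sq k.2 e).resolve_left hk1 |> hkt)
      rw [Finset.card_eq_one]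
      refine ⟨t, Finset.eq_singleton_iff_unique_mem.2 ⟨Finset.mem_filter.2 ⟨htI, ?_⟩, ?_⟩⟩
      · exact h.comm k k.2 t h.htK
      · intro v hv
        obtain ⟨hv1, hv2⟩ := Finset.mem_filter.1 hv
        refine h.eq_of_involution ?_ (mem_invs.1 hv1)
        rw [← h.dti.centralizer_eq k.2 hk2]
        exact Subgroup.mem_centralizer_singleton_iff.2 hv2.symm
  have hK2 : 2 ≤ Nat.card K := Nat.le_of_dvd Nat.card_pos h.even_card_K
  have hsum : ∑ k : K, f k = (invs G).card + 2 * Nat.card K - 1 := by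
    let tK : K := ⟨t, h.htK⟩
    have ht1 : tK ≠ 1 := fun e => ne_one_of_involution h.ht (congrArg Subtype.val e)
    rw [← Finset.add_sum_erase Finset.univ _ (Finset.mem_univ (1 : K)), hone,
      ← Finset.add_sum_erase _ _ (Finset.mem_erase.2 ⟨ht1, Finset.mem_univ tK⟩),
      hfix tK fun e => ne_one_of_involution h.ht e, if_pos rfl,
      Finset.sum_congr rfl (g := fun _ => 1) fun k hk => by
        obtain ⟨hkt, hk'⟩ := Finset.mem_erase.1 hk
        rw [hfix k fun e => (Finset.mem_erase.1 hk').1 (Subtype.ext e),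
          if_neg fun e => hkt (Subtype.ext e)],
      Finset.sum_const, smul_eq_mul, mul_one,
      Finset.card_erase_of_mem (Finset.mem_erase.2 ⟨ht1, Finset.mem_univ tK⟩),
      Finset.card_erase_of_mem (Finset.mem_univ _), Finset.card_univ, ← Nat.card_eq_fintype_card]
    omega
  rw [← hsum]
  simp only [f]
  rw [hb, Nat.card_eq_fintype_card]
  exact Dvd.intro_left _ rfl

end Setup

end CfsgLib.BSW
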