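import Cfsg.Agent.Lib.BSW.Dual
import Cfsg.Agent.Lib.BSW.Local
import Mathlib.Algebra.Group.Hom.Instances

/-!
# Linear characters of `K` evaluated at the involution
-/

set_option autoImplicit false
set_option linter.style.haveILetI false

namespace CfsgLib.BSW

variable {G : Type*} [Group G] {K : Subgroup G} {t s : G}

namespace Setup

variable (h : Setup K t s)
include h

/-- The involution as an element of `K`. -/
theorem sq_one_tK : (⟨t, h.htK⟩ : K) * ⟨t, h.htK⟩ = 1 :=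
  Subtype.ext (Involutions.mul_self_eq_one h.ht)

theorem dual_at_t (l : K →* ℂˣ) :
    ((l ⟨t, h.htK⟩ : ℂˣ) : ℂ) = 1 ∨ ((l ⟨t, h.htK⟩ : ℂˣ) : ℂ) = -1 :=
  mul_self_eq_one_iff.1 (by rw [← Units.val_mul, ← map_mul, h.sq_one_tK, map_one, Units.val_one])

/-- The value at `t`, as an integer. -/
noncomputable def sgn (l : K →* ℂˣ) : ℤ :=
  if ((l ⟨t, h.htK⟩ : ℂˣ) : ℂ) = 1 then 1 else -1

theorem sgn_cast (l : K →* ℂˣ) : (h.sgn l : ℂ) = ((l ⟨t, h.htK⟩ : ℂˣ) : ℂ) := by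
  unfold sgn
  split_ifs with h1
  · rw [h1]; norm_num
  · rw [(h.dual_at_t l).resolve_left h1]; norm_num

theorem sgn_pm (l : K →* ℂˣ) : h.sgn l = 1 ∨ h.sgn l = -1 := by
  unfold sgn
  split_ifs
  exacts [Or.inl rfl, Or.inr rfl]

theorem sgn_mul (l m : K →* ℂˣ) : h.sgn (l * m) = h.sgn l * h.sgn m := by
  have : ((h.sgn (l * m) : ℤ) : ℂ) = ((h.sgn l * h.sgn m : ℤ) : ℂ) := by
    rw [Int.cast_mul, h.sgn_cast, h.sgn_cast, h.sgn_cast, MonoidHom.mul_apply, Units.val_mul]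
  exact_mod_cast this

theorem sgn_one : h.sgn 1 = 1 := by simp [sgn]

theorem sgn_inv (l : K →* ℂˣ) : h.sgn l⁻¹ = h.sgn l := by
  have h1 := h.sgn_mul l l⁻¹
  rw [show l * l⁻¹ = 1 from MonoidHom.ext fun x => by simp, h.sgn_one] at h1
  rcases h.sgn_pm l with e | e <;> rw [e] at h1 ⊢ <;> omega

variable [Finite G]

theorem comm_K : ∀ a b : K, a * b = b * a := fun a b => Subtype.ext (h.comm a a.2 b b.2)

theorem finite_dual : Finite (K →* ℂˣ) :=
  Nat.finite_of_card_ne_zero (by rw [card_dual h.comm_K]; exact Nat.card_pos.ne')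

/-- Exactly one nontrivial linear character of `K` has order two. -/
theorem exists_mu : ∃ μ : K →* ℂˣ, μ ≠ 1 ∧ μ * μ = 1 ∧ ∀ l, l * l = 1 → l = 1 ∨ l = μ := by
  classical
  haveI := h.finite_dual
  have h2 : Nat.card {a : K // a * a = 1} = 2 := by
    rw [Nat.card_eq_two_iff]
    refine ⟨⟨1, mul_one _⟩, ⟨⟨t, h.htK⟩, h.sq_one_tK⟩, fun e => ?_, ?_⟩
    · exact Involutions.ne_one_of_involution h.ht (congrArg (fun a => ((a.1 : K) : G)) e).symm
    · refine Set.eq_univ_of_forall fun a => ?_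
      rcases h.eq_of_sq a.1.2 (congrArg Subtype.val a.2) with e | e
      · exact Or.inl (Subtype.ext (Subtype.ext e))
      · exact Or.inr (Subtype.ext (Subtype.ext e))
  rw [← card_dual_two_torsion h.comm_K, Nat.card_eq_two_iff' (⟨1, MonoidHom.ext fun x => by simp⟩ : {l : K →* ℂˣ // l * l = 1})] at h2
  obtain ⟨⟨μ, hμ⟩, hne, huniq⟩ := h2
  refine ⟨μ, fun e => hne (Subtype.ext e), hμ, fun l hl => or_iff_not_imp_left.2 fun hl1 => ?_⟩
  exact congrArg Subtype.val (huniq ⟨l, hl⟩ fun e => hl1 (congrArg Subtype.val e))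

/-- The two fibres of evaluation at `t` have the same size. -/
theorem card_fibres :
    2 * Nat.card {l : K →* ℂˣ // h.sgn l = 1} = Nat.card K ∧
      2 * Nat.card {l : K →* ℂˣ // h.sgn l = -1} = Nat.card K := by
  classical
  haveI := h.finite_dual
  have ht1 : (⟨t, h.htK⟩ : K) ≠ 1 := fun e =>
    Involutions.ne_one_of_involution h.ht (congrArg Subtype.val e)
  obtain ⟨l₀, hl₀⟩ := dual_separates h.comm_K ht1
  have hs : h.sgn l₀ = -1 := by
    unfold sgn
    exact if_neg fun e => hl₀ (Units.ext e)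
  have e : Nat.card {l : K →* ℂˣ // h.sgn l = 1} = Nat.card {l : K →* ℂˣ // h.sgn l = -1} := by
    refine Nat.card_congr ((Equiv.mulLeft l₀).subtypeEquiv fun l => ?_)
    rw [Equiv.coe_mulLeft, h.sgn_mul, hs]
    omega
  have htot : Nat.card {l : K →* ℂˣ // h.sgn l = 1} + Nat.card {l : K →* ℂˣ // ¬ h.sgn l = 1} =
      Nat.card K := by
    rw [← Nat.card_sum, Nat.card_congr (Equiv.sumCompl _), card_dual h.comm_K]
  have e2 : Nat.card {l : K →* ℂˣ // ¬ h.sgn l = 1} = Nat.card {l : K →* ℂˣ // h.sgn l = -1} :=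
    Nat.card_congr (Equiv.subtypeEquivRight fun l => by rcases h.sgn_pm l with e | e <;> simp [e])
  omega

/-- Linear characters of order greater than two with prescribed value at `t`. -/
theorem sgn_cases (hK : 4 ≤ Nat.card K) {μ : K →* ℂˣ} (hμ1 : μ ≠ 1) (hμ2 : μ * μ = 1)
    (hμ : ∀ l, l * l = 1 → l = 1 ∨ l = μ) :
    (∃ l m : {l : K →* ℂˣ // l * l ≠ 1}, h.sgn l.1 = -1 ∧ h.sgn m.1 = 1) ∨
      (Nat.card K = 4 ∧ h.sgn μ = 1 ∧ ∀ l : {l : K →* ℂˣ // l * l ≠ 1}, h.sgn l.1 = -1) := by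
  classical
  haveI := h.finite_dual
  obtain ⟨hp, hm⟩ := h.card_fibres
  have hneg : ∃ l : {l : K →* ℂˣ // l * l ≠ 1}, h.sgn l.1 = -1 := by
    by_contra! hall
    have hsub : ∀ l : {l : K →* ℂˣ // h.sgn l = -1}, l.1 = μ := fun l => by
      refine (hμ l.1 (by_contra fun hne => hall ⟨l.1, hne⟩ l.2)).resolve_left fun e => ?_
      have := l.2
      rw [e, h.sgn_one] at this
      omega
    have : Nat.card {l : K →* ℂˣ // h.sgn l = -1} ≤ 1 :=
      Finite.card_le_one_iff_subsingleton.2 ⟨fun a b => Subtype.ext ((hsub a).trans (hsub b).symm)⟩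
    omega
  obtain ⟨l, hl⟩ := hneg
  by_cases hpos : ∃ m : {l : K →* ℂˣ // l * l ≠ 1}, h.sgn m.1 = 1
  · obtain ⟨m, hm⟩ := hpos
    exact Or.inl ⟨l, m, hl, hm⟩
  push Not at hpos
  refine Or.inr ?_
  have hsub : {l : K →* ℂˣ | h.sgn l = 1} ⊆ {1, μ} := fun m hm' =>
    hμ m (by_contra fun hne => hpos ⟨m, hne⟩ hm')
  have hle := Set.ncard_le_ncard hsub (Set.toFinite _)
  rw [← Nat.card_coe_set_eq] at hle
  have h2 : ({1, μ} : Set (K →* ℂˣ)).ncard ≤ 2 :=
    (Set.ncard_insert_le _ _).trans (by simp)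
  change Nat.card {l : K →* ℂˣ // h.sgn l = 1} ≤ _ at hle
  refine ⟨by omega, ?_, fun m => (h.sgn_pm m.1).resolve_left (hpos m)⟩
  by_contra hμs
  have hsub1 : ∀ a : {l : K →* ℂˣ // h.sgn l = 1}, a.1 = 1 := fun a =>
    (hsub a.2).resolve_right fun e => hμs (by rw [← Set.mem_singleton_iff.1 e]; exact a.2)
  have : Nat.card {l : K →* ℂˣ // h.sgn l = 1} ≤ 1 :=
    Finite.card_le_one_iff_subsingleton.2 ⟨fun a b => Subtype.ext ((hsub1 a).trans (hsub1 b).symm)⟩
  omega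

/-- The number of linear characters of order greater than two. -/
theorem card_nonreal {μ : K →* ℂˣ} (hμ1 : μ ≠ 1) (hμ2 : μ * μ = 1)
    (hμ : ∀ l, l * l = 1 → l = 1 ∨ l = μ) :
    Nat.card {l : K →* ℂˣ // l * l ≠ 1} + 2 = Nat.card K := by
  classical
  haveI := h.finite_dual
  have h2 : Nat.card {l : K →* ℂˣ // l * l = 1} = 2 := by
    rw [Nat.card_eq_two_iff]
    refine ⟨⟨1, MonoidHom.ext fun x => by simp⟩, ⟨μ, hμ2⟩, fun e => hμ1 (congrArg Subtype.val e).symm, ?_⟩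
    refine Set.eq_univ_of_forall fun a => ?_
    rcases hμ a.1 a.2 with e | e
    · exact Or.inl (Subtype.ext e)
    · exact Or.inr (Subtype.ext e)
  rw [← h2, add_comm, ← Nat.card_sum, Nat.card_congr (Equiv.sumCompl _), card_dual h.comm_K]

end Setup

end CfsgLib.BSW
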