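import Cfsg.Agent.Lib.BSW.Coeff
import Cfsg.Agent.Lib.BSW.DualAt
import Cfsg.Agent.Lib.BSW.ClassSum

/-!
# The exceptional family of irreducible characters
-/

set_option autoImplicit false
set_option linter.style.haveILetI false

namespace CfsgLib.BSW

open Cfsg CfsgLib.Characters CfsgLib.InvChar
open scoped ComplexConjugate

universe u

variable {G : Type u} [Group G] [Fintype G] {K : Subgroup G} {t s : G}

theorem exists_int_at_involution (χ : IrrCharacter G) {v : G} (hv : orderOf v = 2) :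
    ∃ z : ℤ, (χ : G → ℂ) v = z := by
  obtain ⟨n, ρ, hρ⟩ := irr_isCharacter χ
  rw [← hρ]
  obtain ⟨ω, h1, -, h3⟩ := exists_eigenvalues ρ v
  rw [h3]
  refine ⟨∑ i, if ω i = 1 then 1 else -1, ?_⟩
  push_cast
  refine Finset.sum_congr rfl fun i _ => ?_
  have := h1 i
  rw [hv, sq, mul_self_eq_one_iff] at this
  split_ifs with h4
  · exact h4
  · exact this.resolve_left h4

theorem exists_int_degree (χ : IrrCharacter G) : ∃ z : ℤ, (χ : G → ℂ) 1 = z ∧ z ≠ 0 := by
  obtain ⟨n, hn, hn'⟩ := irr_exists_degree χ.2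
  exact ⟨n, by simpa using hn', by omega⟩

/-- Expansion of a class function with principal coefficient `1`. -/
theorem sum_split [DecidableEq (IrrCharacter G)] (w : IrrCharacter G → ℂ) :
    ∑ χ, w χ = w (principalIrr G) + ∑ χ : {χ : IrrCharacter G // χ ≠ principalIrr G}, w χ.1 := by
  exact Fintype.sum_eq_add_sum_subtype_ne w (principalIrr G)

theorem hom_mul_self {A : Type*} [MulOneClass A] (l : A →* ℂˣ) : l * l = 1 ↔ l = l⁻¹ := by
  simp only [MonoidHom.ext_iff, MonoidHom.mul_apply, MonoidHom.one_apply, MonoidHom.inv_apply,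
    mul_eq_one_iff_eq_inv]

/-- What is used about the exceptional family. -/
structure Family (K : Subgroup G) (t : G) where
  /-- the signed degree -/
  B : ℤ
  /-- the common constituent -/
  ψ : IrrCharacter G
  /-- its sign -/
  ε : ℤ
  ε_pm : ε = 1 ∨ ε = -1
  ψ_one : (ε : ℂ) * (ψ : G → ℂ) 1 = B
  ψ_t : (ε : ℂ) * (ψ : G → ℂ) t = 1
  B_ne : B ≠ 0
  B_ne' : B + 1 ≠ 0
  B_odd : 2 ∣ B + 1
  main : ((invs G).card : ℤ) * (B - 1) ^ 2 = 2 * (Nat.card K : ℤ) ^ 2 * (B * (B + 1))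
  count : ∀ x : G, ¬ InK K x →
    2 * (Nat.card K : ℂ) * ((invPairs x).card : ℂ) = ((invs G).card : ℂ) *
      (1 + conj ((ε : ℂ) * (ψ : G → ℂ) x) / B +
        (2 * (Nat.card K : ℂ) - 2) * (1 + conj ((ε : ℂ) * (ψ : G → ℂ) x)) / ((B : ℂ) + 1))
  classify : ∀ χ : IrrCharacter G, χ ≠ principalIrr G → (χ : G → ℂ) t = 0 ∨ χ = ψ ∨
    (∃ dg : ℤ, (χ : G → ℂ) 1 = dg ∧ dg ^ 2 = (B + 1) ^ 2 ∧
      ((χ : G → ℂ) t = 2 ∨ (χ : G → ℂ) t = -2)) ∨
    ∃ dg : ℤ, (χ : G → ℂ) 1 = dg ∧ 4 * dg ^ 2 = (B + 1) ^ 2 ∧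
      ((χ : G → ℂ) t = 1 ∨ (χ : G → ℂ) t = -1)
  bound : ∀ x : G, ¬ InK K x → ∀ T : Finset (IrrCharacter G), (∀ χ ∈ T, (χ : G → ℂ) t = 0) →
    1 + ‖(ε : ℂ) * (ψ : G → ℂ) x‖ ^ 2 +
      ((Nat.card K : ℝ) - 1) / 2 * ‖1 + (ε : ℂ) * (ψ : G → ℂ) x‖ ^ 2 +
      ∑ χ ∈ T, ‖(χ : G → ℂ) x‖ ^ 2 ≤ (Nat.card (Subgroup.centralizer ({x} : Set G)) : ℝ)

/-- The exceptional family exists as soon as `|K| ≥ 4`. -/
theorem Setup.nonempty_family (h : Setup K t s) (hK : 4 ≤ Nat.card K) :
    Nonempty (Family (G := G) K t) := by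
  classical
  haveI := h.finite_dual
  letI := Fintype.ofFinite (K →* ℂˣ)
  obtain ⟨μ, hμ1, hμ2, hμ⟩ := h.exists_mu
  let ι := {χ : IrrCharacter G // χ ≠ principalIrr G}
  choose d hd hd0 using fun χ : ι => exists_int_degree χ.1
  choose z hz using fun χ : ι => exists_int_at_involution χ.1 h.ht
  choose co hco using fun (l : K →* ℂˣ) (χ : IrrCharacter G) =>
    classInner_generalized_int (isGeneralized_F l) (isGeneralizedCharacter_irr χ)
  let W : (K →* ℂˣ) → ι → ℤ := fun l χ => co l χ.1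
  let Λ := {l : K →* ℂˣ // l * l ≠ 1}
  have hne1 : ∀ l : Λ, l.1 ≠ 1 := fun l e => l.2 (by rw [e]; exact MonoidHom.ext fun x => by simp)
  have hexp : ∀ l : K →* ℂˣ, l ≠ 1 → ∀ w : IrrCharacter G → ℂ,
      ∑ χ : IrrCharacter G, classInner (F l) (χ : G → ℂ) * w χ =
        w (principalIrr G) + ∑ χ : ι, (W l χ : ℂ) * w χ.1 := by
    intro l hl w
    rw [sum_split]
    congr 1
    · rw [show classInner (F l) ((principalIrr G : IrrCharacter G) : G → ℂ) = 1 from
        DTI.inner_F_one l hl, one_mul]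
    · exact Finset.sum_congr rfl fun χ _ => by rw [hco]
  have hFval : ∀ l : K →* ℂˣ, l ≠ 1 → ∀ x : G,
      F l x = 1 + ∑ χ : ι, (W l χ : ℂ) * (χ.1 : G → ℂ) x := by
    intro l hl x
    conv_lhs => rw [classFunction_eq_sum (isClassFunction_F l)]
    simp only [Finset.sum_apply, Pi.smul_apply, smul_eq_mul]
    rw [hexp l hl fun χ => (χ : G → ℂ) x, principalIrr_apply]
  have hinner : ∀ l m : K →* ℂˣ, l ≠ 1 → m ≠ 1 →
      (∑ χ : ι, W l χ * W m χ) = 1 + (if l = m then 1 else 0) + (if l = m⁻¹ then 1 else 0) := by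
    intro l m hl hm
    have h1 := h.dti.inner_F hl hm
    rw [classInner_eq_sum_mul (isClassFunction_F m), hexp l hl] at h1
    simp only [hco, map_intCast] at h1
    have h2 : co m (principalIrr G) = 1 := by
      have := hco m (principalIrr G)
      rw [show classInner (F m) ((principalIrr G : IrrCharacter G) : G → ℂ) = 1 from
        DTI.inner_F_one m hm] at this
      exact_mod_cast this.symm
    rw [h2] at h1
    have h3 : (((1 + ∑ χ : ι, W l χ * W m χ) : ℤ) : ℂ) =
        ((2 + (if l = m then 1 else 0) + (if l = m⁻¹ then 1 else 0) : ℤ) : ℂ) := by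
      push_cast
      simpa using h1
    have h4 : (1 + ∑ χ : ι, W l χ * W m χ) =
        (2 + (if l = m then 1 else 0) + (if l = m⁻¹ then 1 else 0) : ℤ) := by exact_mod_cast h3
    linarith
  have hμinv : μ⁻¹ = μ := MonoidHom.ext fun x => by
    rw [MonoidHom.inv_apply]
    exact inv_eq_of_mul_eq_one_right (DFunLike.congr_fun hμ2 x)
  have hdotμ : ∀ l : Λ, ∑ χ : ι, W μ χ * W l.1 χ = 1 := by
    intro l
    rw [hinner μ l.1 hμ1 (hne1 l), if_neg fun e => l.2 (by rw [← e, hμ2]),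
      if_neg fun e => l.2 (by
        rw [show l.1 = μ by rw [← hμinv, e]; exact MonoidHom.ext fun x => by simp, hμ2])]
    rfl
  have hnorm : ∀ l : Λ, ∑ χ : ι, W l.1 χ ^ 2 = 2 := by
    intro l
    simp only [sq]
    rw [hinner l.1 l.1 (hne1 l) (hne1 l), if_pos rfl,
      if_neg fun e => l.2 (by rw [hom_mul_self]; exact e)]
    rfl
  have hWeq : ∀ l m : Λ, W l.1 = W m.1 → l.1 = m.1 ∨ l.1 = (m.1)⁻¹ := by
    intro l m e
    by_contra hne
    push Not at hne
    have h1 := hinner l.1 m.1 (hne1 l) (hne1 m)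
    rw [if_neg hne.1, if_neg hne.2, ← e] at h1
    have h2 := hnorm l
    simp only [sq] at h2
    omega
  have hWinv : ∀ l : K →* ℂˣ, W l⁻¹ = W l := by
    intro l
    funext χ
    have h1 := hco l⁻¹ χ.1
    rw [h.dti.F_inv l, hco l χ.1] at h1
    exact_mod_cast h1.symm
  set n := (invs G).card with hn
  have hn0 : n ≠ 0 := Finset.card_ne_zero.2 ⟨t, mem_invs.2 h.ht⟩
  have hnC : (n : ℂ) ≠ 0 := Nat.cast_ne_zero.2 hn0
  set ℓ : ℚ := 2 * (Nat.card K : ℚ) ^ 2 / n - 1 with hℓ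
  have hell : ∀ l : K →* ℂˣ, l ≠ 1 →
      ∑ χ : ι, (W l χ : ℚ) * ((z χ : ℚ) ^ 2 / d χ) = ℓ := by
    intro l hl
    have h1 := h.sum_coeff (isClassFunction_F l)
    rw [DTI.sum_F_mul l hl isClassFunction_card_invPairs (c := (Nat.card K : ℂ))
      (fun x hx hx1 => by rw [h.card_invPairs_K hx hx1]), hexp l hl] at h1
    simp only [principalIrr_apply, hz, hd] at h1
    rw [show (Nat.card G : ℂ) = 2 * (Nat.card K : ℂ) * n by
      rw [h.card_G, ← h.card_invs]; push_cast; rfl] at h1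
    have h2 : ((∑ χ : ι, (W l χ : ℚ) * ((z χ : ℚ) ^ 2 / d χ) : ℚ) : ℂ) = (ℓ : ℂ) := by
      rw [hℓ]
      push_cast
      rw [one_pow, div_one] at h1
      have h3 : (n : ℂ) * (1 + ∑ χ : ι, (W l χ : ℂ) * ((z χ : ℂ) ^ 2 / (d χ : ℂ))) =
          2 * (Nat.card K : ℂ) ^ 2 := mul_left_cancel₀ hnC (by rw [← mul_assoc, ← sq, h1]; ring)
      rw [eq_sub_iff_add_eq, eq_div_iff hnC, ← h3]
      ring
    exact_mod_cast h2
  have hdeg : ∀ l : K →* ℂˣ, l ≠ 1 → ∑ χ : ι, W l χ * d χ = -1 := by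
    intro l hl
    have h1 := hFval l hl 1
    rw [h.dti.F_one] at h1
    simp only [hd] at h1
    have h2 : ((∑ χ : ι, W l χ * d χ : ℤ) : ℂ) = ((-1 : ℤ) : ℂ) := by
      push_cast; linear_combination -h1
    exact_mod_cast h2
  have hval : ∀ l : K →* ℂˣ, l ≠ 1 → ∑ χ : ι, W l χ * z χ = 1 - 2 * h.sgn l := by
    intro l hl
    have h1 := hFval l hl t
    rw [show t = ((⟨t, h.htK⟩ : K) : G) from rfl, h.dti.F_mem] at h1
    simp only [hz] at h1
    rw [← h.sgn_cast, ← h.sgn_cast, h.sgn_inv] at h1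
    have h2 : ((∑ χ : ι, W l χ * z χ : ℤ) : ℂ) = ((1 - 2 * h.sgn l : ℤ) : ℂ) := by
      push_cast; linear_combination -h1
    exact_mod_cast h2
  set c := Nat.card K / 2 - 1 with hc
  have hK2 := h.even_card_K
  have hΛ : Nat.card Λ + 2 = Nat.card K := h.card_nonreal hμ1 hμ2 hμ
  have hcol : ∑ χ : ι, z χ ^ 2 = 4 * (c : ℤ) + 3 := by
    have h1 := column_orth (G := G) t t
    rw [if_pos (IsConj.refl t), sum_split] at h1
    simp only [principalIrr_apply, hz, map_intCast, map_one] at h1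
    rw [show Nat.card (Subgroup.centralizer ({t} : Set G)) = 2 * Nat.card K by
      rw [← h.N_eq, h.dti.card_N]] at h1
    have h2 : ((1 + ∑ χ : ι, z χ ^ 2 : ℤ) : ℂ) = ((2 * Nat.card K : ℕ) : ℤ) := by
      rw [Int.cast_natCast, ← h1]; push_cast; simp [sq]; convert rfl
    have h3 : (1 + ∑ χ : ι, z χ ^ 2 : ℤ) = ((2 * Nat.card K : ℕ) : ℤ) := by exact_mod_cast h2
    omega
  have hcases : (∃ l m : Λ, h.sgn l.1 = -1 ∧ h.sgn m.1 = 1) ∨
      (c = 1 ∧ h.sgn μ = 1 ∧ ∀ l : Λ, h.sgn l.1 = -1) := by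
    rcases h.sgn_cases hK hμ1 hμ2 hμ with hh | ⟨h4, hh, hall⟩
    · exact Or.inl hh
    · exact Or.inr ⟨by omega, hh, hall⟩
  let inv' : Λ → Λ := fun l => ⟨(l.1)⁻¹, fun e => l.2 (MonoidHom.ext fun x => by
    have := DFunLike.congr_fun e x
    simp only [MonoidHom.mul_apply, MonoidHom.inv_apply, MonoidHom.one_apply] at this ⊢
    exact inv_injective (by rwa [mul_inv, inv_one]))⟩
  have hcount : ∀ S : Finset Λ, (∀ l ∈ S, ∀ m ∈ S, W l.1 = W m.1 → l = m) → S.card ≤ c := by
    intro S hS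
    have hd' : Disjoint S (S.image inv') := by
      rw [Finset.disjoint_right]
      intro l hl hl'
      obtain ⟨m, hm, rfl⟩ := Finset.mem_image.1 hl
      have := congrArg Subtype.val (hS _ hl' m hm (hWinv m.1))
      exact m.2 (by rw [hom_mul_self]; exact this.symm)
    have hinj : Function.Injective inv' := fun a b e =>
      Subtype.ext (inv_inj.1 (congrArg Subtype.val e))
    have := Finset.card_le_univ (S ∪ S.image inv')
    rw [Finset.card_union_of_disjoint hd', Finset.card_image_of_injective _ hinj,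
      ← Nat.card_eq_fintype_card] at this
    omega
  have hcount' : ∃ S : Finset Λ, (∀ l ∈ S, ∀ m ∈ S, W l.1 = W m.1 → l = m) ∧ S.card = c := by
    let V' : Λ → ι → ℤ := fun l => W l.1
    have hsel : ∀ v : {v // v ∈ Finset.univ.image V'}, ∃ l, V' l = v.1 := fun v => by
      obtain ⟨l, -, hl⟩ := Finset.mem_image.1 v.2
      exact ⟨l, hl⟩
    choose sel hsel using hsel
    refine ⟨(Finset.univ.image V').attach.image sel, ?_, ?_⟩
    · intro l hl m hm e
      obtain ⟨v, -, rfl⟩ := Finset.mem_image.1 hl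
      obtain ⟨w, -, rfl⟩ := Finset.mem_image.1 hm
      have : V' (sel v) = V' (sel w) := e
      rw [hsel, hsel] at this
      rw [Subtype.ext this]
    · rw [Finset.card_image_of_injective _ fun v w e =>
        Subtype.ext ((hsel v).symm.trans ((congrArg V' e).trans (hsel w))), Finset.card_attach]
      have h1 := Finset.card_eq_sum_card_image V' (Finset.univ : Finset Λ)
      rw [Finset.sum_congr rfl (g := fun _ => 2) fun v hv => ?_, Finset.sum_const, smul_eq_mul,
        Finset.card_univ, ← Nat.card_eq_fintype_card] at h1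
      · clear hcases
        omega
      · obtain ⟨l, -, rfl⟩ := Finset.mem_image.1 hv
        rw [Finset.card_eq_two]
        refine ⟨l, inv' l, fun e => l.2 (by
          rw [hom_mul_self]; exact congrArg Subtype.val e), ?_⟩
        ext m
        simp only [Finset.mem_filter, Finset.mem_univ, true_and, Finset.mem_insert,
          Finset.mem_singleton, V']
        constructor
        · intro e
          rcases hWeq m l e with h' | h'
          · exact Or.inl (Subtype.ext h')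
          · exact Or.inr (Subtype.ext h')
        · rintro (rfl | rfl)
          · rfl
          · exact hWinv l.1
  have D : Coeff.Data d z (fun l : Λ => W l.1) (fun l : Λ => h.sgn l.1) (W μ) (h.sgn μ) ℓ c :=
    { d_ne := hd0
      norm := hnorm
      dot := fun l m hne => by
        rw [hinner l.1 m.1 (hne1 l) (hne1 m), if_neg fun e => hne (congrArg W e),
          if_neg fun e => hne ((congrArg W e).trans (hWinv m.1))]
        rfl
      deg := fun l => hdeg _ (hne1 l)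
      val := fun l => hval _ (hne1 l)
      ell := fun l => hell _ (hne1 l)
      u_norm := by
        simp only [sq]
        rw [hinner μ μ hμ1 hμ1, hμinv, if_pos rfl]
        rfl
      u_dot := hdotμ
      u_deg := hdeg _ hμ1
      u_val := hval _ hμ1
      u_ell := hell _ hμ1
      ell_ne := by
        rw [hℓ]
        intro e
        have h1 : (2 : ℚ) * (Nat.card K : ℚ) ^ 2 / n = 0 := by linarith
        have h2 : (Nat.card K : ℚ) ≠ 0 := Nat.cast_ne_zero.2 Nat.card_pos.ne'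
        simp [hn0, h2] at h1
      f_pm := h.sgn_pm μ
      col := hcol
      count := hcount
      count' := hcount'
      cases := hcases }
  obtain ⟨a, P, Q, φ, σ, B, ha_pm, ha_z, ha_d, hellB, hφ, hPa, hQa, hPQ, hPd, hQd, hPz, hQz, hu0,
    hφinj, hzero⟩ := D.exists_family
  obtain ⟨l₀⟩ : Nonempty Λ := ⟨by
    refine Classical.choice ?_
    rcases hcases with ⟨l, -⟩ | ⟨hc1, -⟩
    · exact ⟨l⟩
    · exact (Finite.card_pos_iff.1 (by omega : 0 < Nat.card Λ))⟩
  have hB0 : B ≠ 0 := ha_d ▸ mul_ne_zero (by rcases ha_pm with e | e <;> rw [e] <;> norm_num) (hd0 a)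
  have hB1 : B + 1 ≠ 0 := by
    obtain ⟨-, -, -, hσ, hσd, -⟩ := hφ l₀
    intro e
    exact mul_ne_zero (by rcases hσ with e | e <;> rw [e] <;> norm_num) (hd0 (φ l₀))
      (hσd.trans (by omega))
  have hP1 : W μ P = 1 ∨ W μ P = -1 := by
    refine D.u_pm fun e => ?_
    rw [e] at hPd
    omega
  have hQ1 : W μ Q = 1 ∨ W μ Q = -1 := by
    refine D.u_pm fun e => ?_
    rw [e] at hQd
    omega
  set ε := W μ a
  have hrel : ∀ x : G, ¬ InK K x →
      (∀ l : Λ, (σ l : ℂ) * ((φ l).1 : G → ℂ) x = -1 - (ε : ℂ) * (a.1 : G → ℂ) x) ∧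
      (W μ P : ℂ) * (P.1 : G → ℂ) x + (W μ Q : ℂ) * (Q.1 : G → ℂ) x =
        -1 - (ε : ℂ) * (a.1 : G → ℂ) x := by
    intro x hx
    refine ⟨fun l => ?_, ?_⟩
    · obtain ⟨h1, -, -, -, -, -, h7, h8, h9⟩ := hφ l
      have := hFval l.1 (hne1 l) x
      rw [DTI.F_off _ hx, Coeff.sum_two h1.symm h9 fun χ : ι => (χ.1 : G → ℂ) x] at this
      rw [h7, h8] at this
      linear_combination -this
    · have := hFval μ hμ1 x
      rw [DTI.F_off _ hx,
        Coeff.sum_three hPa.symm hQa.symm hPQ hu0 fun χ : ι => (χ.1 : G → ℂ) x] at this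
      linear_combination -this
  obtain ⟨S, hS, hScard⟩ := hcount'
  let Z : Finset ι := {a, P, Q} ∪ S.image φ
  have hφinS : ∀ l : Λ, ∃ m ∈ S, φ m = φ l := by
    intro l
    by_contra! hne
    have hcontra : (insert l S).card ≤ c := hcount _ (by
      have hdist : ∀ m ∈ S, W l.1 ≠ W m.1 := fun m hm e => by
        obtain ⟨h1, -, -, -, -, -, -, -, h9⟩ := hφ l
        obtain ⟨g1, -, -, g4, -, -, -, g8, -⟩ := hφ m
        have : W l.1 (φ m) ≠ 0 := by
          rw [e, g8]; rcases g4 with e | e <;> rw [e] <;> norm_num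
        exact this (h9 _ g1 (hne m hm))
      intro x hx y hy e
      rcases Finset.mem_insert.1 hx with h1 | h1 <;> rcases Finset.mem_insert.1 hy with h2 | h2
      · exact h1.trans h2.symm
      · exact absurd (h1 ▸ e) (hdist y h2)
      · exact absurd (h2 ▸ e).symm (hdist x h1)
      · exact hS x h1 y h2 e)
    have hl : l ∉ S := fun hm => hne l hm rfl
    rw [Finset.card_insert_of_notMem hl, hScard] at hcontra
    omega
  have hzeroZ : ∀ i : ι, i ∉ Z → z i = 0 := by
    intro i hi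
    simp only [Z, Finset.mem_union, Finset.mem_insert, Finset.mem_singleton, Finset.mem_image,
      not_or, not_exists, not_and] at hi
    refine hzero i hi.1.1 hi.1.2.1 hi.1.2.2 fun l e => ?_
    obtain ⟨m, hm, hme⟩ := hφinS l
    exact hi.2 m hm (hme.trans e.symm)
  have hZsum : ∀ {R : Type} [AddCommMonoid R] (w : ι → R),
      ∑ i ∈ Z, w i = w a + (w P + w Q) + ∑ l ∈ S, w (φ l) := by
    intro R _ w
    have hdisj : Disjoint ({a, P, Q} : Finset ι) (S.image φ) := by
      rw [Finset.disjoint_right]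
      intro i hi
      obtain ⟨l, -, rfl⟩ := Finset.mem_image.1 hi
      obtain ⟨h1, h2, h3, -⟩ := hφ l
      simp [h1, h2, h3]
    rw [Finset.sum_union hdisj, Finset.sum_insert (by simp [hPa.symm, hQa.symm]),
      Finset.sum_pair hPQ, Finset.sum_image fun l hl m hm e => hS l hl m hm (hφinj l m e)]
  have hterm : ∀ {v dd zz : ℤ}, (v = 1 ∨ v = -1) → ∀ y : ℂ,
      y * ((zz : ℂ) ^ 2 / dd) = ((v : ℂ) * y) * (((v * zz : ℤ) : ℂ) ^ 2 / ((v * dd : ℤ) : ℂ)) := by
    rintro v dd zz (rfl | rfl) y <;> push_cast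
    · ring
    · rw [neg_one_mul, neg_one_mul, neg_one_mul, neg_sq, div_neg, neg_mul_neg]
  have hε : (ε : ℂ) * (a.1 : G → ℂ) t = 1 := by
    rw [hz, ← Int.cast_mul, ha_z, Int.cast_one]
  refine ⟨{
    B := B
    ψ := a.1
    ε := ε
    ε_pm := ha_pm
    ψ_one := by rw [hd, ← Int.cast_mul, ha_d]
    ψ_t := hε
    B_ne := hB0
    B_ne' := hB1
    B_odd := ⟨-(W μ P * d P), by linarith⟩
    main := ?_
    count := ?_
    classify := ?_
    bound := ?_ }⟩
  · have hB0' : (B : ℚ) ≠ 0 := Int.cast_ne_zero.2 hB0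
    have hB1' : (B : ℚ) + 1 ≠ 0 := by exact_mod_cast hB1
    have hnQ : (n : ℚ) ≠ 0 := Nat.cast_ne_zero.2 hn0
    rw [hℓ] at hellB
    field_simp at hellB
    have : (n : ℚ) * ((B : ℚ) - 1) ^ 2 = 2 * (Nat.card K : ℚ) ^ 2 * (B * (B + 1)) := by
      linear_combination -hellB
    exact_mod_cast this
  · intro x hx
    obtain ⟨hrl, hru⟩ := hrel x hx
    have h1 := h.card_invPairs_eq_sum x
    rw [h.card_G, ← h.card_invs, sum_split] at h1
    simp only [principalIrr_apply, hz, hd, map_one] at h1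
    rw [← Finset.sum_subset (Finset.subset_univ Z) fun i _ hi => by simp [hzeroZ i hi],
      hZsum] at h1
    rw [hterm ha_pm (conj ((a.1 : G → ℂ) x)), hterm hP1 (conj ((P.1 : G → ℂ) x)),
      hterm hQ1 (conj ((Q.1 : G → ℂ) x)),
      Finset.sum_congr rfl fun l _ => hterm (hφ l).2.2.2.1 (conj (((φ l).1 : G → ℂ) x))] at h1
    set b := (ε : ℂ) * (a.1 : G → ℂ) x with hb
    have hcb : conj b = (ε : ℂ) * conj ((a.1 : G → ℂ) x) := by rw [hb, map_mul, map_intCast]
    have hB1' : (B : ℂ) + 1 ≠ 0 := by exact_mod_cast hB1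
    have hsum : ∀ l ∈ S, (σ l : ℂ) * conj (((φ l).1 : G → ℂ) x) *
        (((σ l * z (φ l) : ℤ) : ℂ) ^ 2 / ((σ l * d (φ l) : ℤ) : ℂ)) =
        4 * (1 + conj b) / ((B : ℂ) + 1) := by
      intro l _
      obtain ⟨-, -, -, -, h5, h6, -⟩ := hφ l
      have := congrArg conj (hrl l)
      rw [map_mul, map_intCast, map_sub, map_neg, map_one] at this
      rw [this, h5, h6]
      push_cast
      rcases h.sgn_pm l.1 with e | e <;> rw [e] <;> push_cast <;>
        rw [show (-1 - (B : ℂ)) = -((B : ℂ) + 1) by ring, div_neg] <;> ring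
    rw [Finset.sum_congr rfl hsum, Finset.sum_const, hScard, nsmul_eq_mul, ha_z, ha_d, hPz, hQz,
      ← hcb] at h1
    have hPC : ((W μ P * d P : ℤ) : ℂ) = -((B : ℂ) + 1) / 2 := by
      rw [eq_div_iff two_ne_zero, mul_comm]
      exact_mod_cast (by linarith : 2 * (W μ P * d P) = -(B + 1))
    have hQC : ((W μ Q * d Q : ℤ) : ℂ) = -((B : ℂ) + 1) / 2 := by
      rw [eq_div_iff two_ne_zero, mul_comm]
      exact_mod_cast (by linarith : 2 * (W μ Q * d Q) = -(B + 1))
    rw [hPC, hQC, ← add_mul] at h1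
    have hru' := congrArg conj hru
    rw [map_add, map_mul, map_mul, map_intCast, map_intCast, map_sub, map_neg, map_one] at hru'
    rw [hru'] at h1
    have hf : ((-h.sgn μ : ℤ) : ℂ) ^ 2 = 1 := by
      rcases h.sgn_pm μ with e | e <;> simp [e]
    rw [hf] at h1
    have hcc : (c : ℂ) = (Nat.card K : ℂ) / 2 - 1 := by
      obtain ⟨k, hk⟩ := hK2
      rw [hc, hk, Nat.mul_div_cancel_left _ two_pos, Nat.cast_sub (by omega)]
      push_cast; ring
    rw [hcc] at h1
    push_cast at h1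
    refine mul_left_cancel₀ hnC (Eq.trans ?_ (h1.trans ?_))
    · ring
    · field_simp
      ring
  · intro χ hχ
    set i : ι := ⟨χ, hχ⟩
    by_cases hi : i ∈ Z
    · have key : ∀ {v : ℤ}, (v = 1 ∨ v = -1) → ∀ y : ℤ, y ^ 2 = (v * y) ^ 2 := by
        rintro v (rfl | rfl) y <;> ring
      simp only [Z, Finset.mem_union, Finset.mem_insert, Finset.mem_singleton,
        Finset.mem_image] at hi
      rcases hi with (hi | hi | hi) | ⟨l, -, hl⟩
      · exact Or.inr (Or.inl (congrArg Subtype.val hi))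
      · refine Or.inr (Or.inr (Or.inr ⟨d i, hd i, ?_, ?_⟩))
        · rw [hi, key hP1 (d P)]
          linear_combination (2 * (W μ P * d P) + (-1 - B)) * hPd
        · rw [show (χ : G → ℂ) t = z i from hz i, hi]
          have : z P ^ 2 = 1 := by
            rw [key hP1, hPz]
            rcases h.sgn_pm μ with e | e <;> rw [e] <;> norm_num
          rcases sq_eq_one_iff.1 this with e | e <;> simp [e]
      · refine Or.inr (Or.inr (Or.inr ⟨d i, hd i, ?_, ?_⟩))
        · rw [hi, key hQ1 (d Q)]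
          linear_combination (2 * (W μ Q * d Q) + (-1 - B)) * hQd
        · rw [show (χ : G → ℂ) t = z i from hz i, hi]
          have : z Q ^ 2 = 1 := by
            rw [key hQ1, hQz]
            rcases h.sgn_pm μ with e | e <;> rw [e] <;> norm_num
          rcases sq_eq_one_iff.1 this with e | e <;> simp [e]
      · obtain ⟨-, -, -, h4, h5, h6, -⟩ := hφ l
        refine Or.inr (Or.inr (Or.inl ⟨d i, hd i, ?_, ?_⟩))
        · rw [← hl, key h4, h5]; ring
        · rw [show (χ : G → ℂ) t = z i from hz i, ← hl]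
          have : z (φ l) = 2 ∨ z (φ l) = -2 := by
            rcases h4 with e | e <;> rw [e] at h6 <;>
              rcases h.sgn_pm l.1 with e' | e' <;> rw [e'] at h6 <;> omega
          rcases this with e | e <;> simp [e]
    · left
      rw [show (χ : G → ℂ) t = z i from hz i, hzeroZ i hi, Int.cast_zero]
  · intro x hx T hT
    obtain ⟨hrl, hru⟩ := hrel x hx
    have h1 := column_orth (G := G) x x
    rw [if_pos (IsConj.refl x)] at h1
    have h2 : ∑ χ : IrrCharacter G, ‖(χ : G → ℂ) x‖ ^ 2 =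
        (Nat.card (Subgroup.centralizer ({x} : Set G)) : ℝ) := by
      have h3 : ((∑ χ : IrrCharacter G, ‖(χ : G → ℂ) x‖ ^ 2 : ℝ) : ℂ) =
          ((Nat.card (Subgroup.centralizer ({x} : Set G)) : ℝ) : ℂ) := by
        push_cast
        rw [← h1]
        exact Finset.sum_congr rfl fun χ _ => (Complex.mul_conj' _).symm
      exact_mod_cast h3
    rw [← h2]
    let Z' : Finset (IrrCharacter G) := insert (principalIrr G) (Z.image Subtype.val)
    have hdisj : Disjoint Z' T := by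
      rw [Finset.disjoint_left]
      intro χ hχ hχT
      have h0 := hT χ hχT
      rcases Finset.mem_insert.1 hχ with rfl | hχ
      · simp at h0
      obtain ⟨i, hi, rfl⟩ := Finset.mem_image.1 hχ
      rw [hz] at h0
      have h0' : z i = 0 := by exact_mod_cast h0
      simp only [Z, Finset.mem_union, Finset.mem_insert, Finset.mem_singleton,
        Finset.mem_image] at hi
      rcases hi with (hi | hi | hi) | ⟨l, -, hl⟩
      · rw [hi] at h0'; rw [h0', mul_zero] at ha_z; exact zero_ne_one ha_z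
      · rw [hi] at h0'; rw [h0', mul_zero] at hPz
        rcases h.sgn_pm μ with e | e <;> rw [e] at hPz <;> omega
      · rw [hi] at h0'; rw [h0', mul_zero] at hQz
        rcases h.sgn_pm μ with e | e <;> rw [e] at hQz <;> omega
      · obtain ⟨-, -, -, -, -, h6, -⟩ := hφ l
        rw [hl, h0', mul_zero] at h6
        rcases h.sgn_pm l.1 with e | e <;> rw [e] at h6 <;> omega
    refine le_trans ?_ (Finset.sum_le_sum_of_subset_of_nonneg (Finset.subset_univ (Z' ∪ T))
      fun χ _ _ => sq_nonneg _)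
    rw [Finset.sum_union hdisj]
    refine add_le_add ?_ le_rfl
    rw [Finset.sum_insert (fun hm => by
        obtain ⟨i, -, hi⟩ := Finset.mem_image.1 hm
        exact i.2 hi),
      Finset.sum_image Subtype.val_injective.injOn, hZsum, principalIrr_apply, norm_one, one_pow]
    set b := (ε : ℂ) * (a.1 : G → ℂ) x with hb
    have hns : ∀ {v : ℤ}, (v = 1 ∨ v = -1) → ∀ y : ℂ, ‖(v : ℂ) * y‖ = ‖y‖ := by
      rintro v (rfl | rfl) y <;> simp
    have hS' : ∑ l ∈ S, ‖((φ l).1 : G → ℂ) x‖ ^ 2 = (c : ℝ) * ‖1 + b‖ ^ 2 := by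
      rw [Finset.sum_congr rfl (g := fun _ => ‖1 + b‖ ^ 2) fun l _ => by
        rw [← hns (hφ l).2.2.2.1, hrl l, ← norm_neg (1 + b), neg_add']]
      rw [Finset.sum_const, hScard, nsmul_eq_mul]
    have hb' : ‖b‖ = ‖(a.1 : G → ℂ) x‖ := hns ha_pm _
    have hpq : ‖1 + b‖ ≤ ‖(P.1 : G → ℂ) x‖ + ‖(Q.1 : G → ℂ) x‖ := by
      rw [← norm_neg, neg_add', ← hru]
      refine (norm_add_le _ _).trans (le_of_eq ?_)
      rw [hns hP1, hns hQ1]
    have hpq2 : ‖1 + b‖ ^ 2 / 2 ≤ ‖(P.1 : G → ℂ) x‖ ^ 2 + ‖(Q.1 : G → ℂ) x‖ ^ 2 := by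
      have := norm_nonneg (1 + b)
      nlinarith [sq_nonneg (‖(P.1 : G → ℂ) x‖ - ‖(Q.1 : G → ℂ) x‖)]
    rw [hS', ← hb']
    have hcc : (c : ℝ) = (Nat.card K : ℝ) / 2 - 1 := by
      obtain ⟨k, hk⟩ := hK2
      rw [hc, hk, Nat.mul_div_cancel_left _ two_pos, Nat.cast_sub (by omega)]
      push_cast; ring
    rw [hcc]
    nlinarith

/-- The possible degrees of the common constituent. -/
theorem Family.B_eq (Fam : Family (G := G) K t) (h : Setup K t s) :
    (Fam.B = 2 * Nat.card K + 1 ∨ Fam.B = 1 - 2 * Nat.card K) ∧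
      2 * ((invs G).card : ℤ) = Fam.B * (Fam.B + 1) := by
  obtain ⟨k, hk⟩ := h.even_card_K
  have hdvd := h.card_K_dvd
  rw [hk] at hdvd
  have hn1 : (((2 * k : ℕ) : ℤ)) ∣ ((invs G).card : ℤ) - 1 := by
    have h1 : ((2 * k : ℕ) : ℤ) ∣ (((invs G).card + 2 * (2 * k) - 1 : ℕ) : ℤ) :=
      Int.natCast_dvd_natCast.2 hdvd
    have hpos : 0 < (invs G).card := Finset.card_pos.2 ⟨t, mem_invs.2 h.ht⟩
    rw [Nat.cast_sub (by omega)] at h1
    push_cast at h1 ⊢
    have h2 := dvd_sub h1 (dvd_mul_left (2 * (k : ℤ)) 2)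
    rwa [show ((invs G).card : ℤ) + 2 * (2 * (k : ℤ)) - 1 - 2 * (2 * (k : ℤ)) =
      ((invs G).card : ℤ) - 1 by ring] at h2
  have hkpos : 0 < k := by
    have := Nat.card_pos (α := K)
    omega
  obtain ⟨e, he⟩ : ∃ e, Fam.B = 2 * e + 1 := by
    obtain ⟨j, hj⟩ := Fam.B_odd
    exact ⟨j - 1, by omega⟩
  have hmain := Fam.main
  rw [hk, he] at hmain
  push_cast at hmain hn1
  set n : ℤ := ((invs G).card : ℤ)
  have h4 : e ^ 2 * n = (2 * (k : ℤ)) ^ 2 * ((2 * e + 1) * (e + 1)) := by linarith [hmain]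
  have he0 : e ≠ 0 := by
    rintro rfl
    have h5 : (2 * (k : ℤ)) ^ 2 = 0 := by linarith
    rw [pow_eq_zero_iff two_ne_zero] at h5
    omega
  have hco : IsCoprime (e ^ 2) ((2 * e + 1) * (e + 1)) :=
    IsCoprime.pow_left (IsCoprime.mul_right ⟨-2, 1, by ring⟩ ⟨-1, 1, by ring⟩)
  have hdv : e ^ 2 ∣ (2 * (k : ℤ)) ^ 2 :=
    hco.dvd_of_dvd_mul_right ⟨n, h4.symm⟩
  obtain ⟨r, hr⟩ := (Int.pow_dvd_pow_iff two_ne_zero).1 hdv
  have hn : n = r ^ 2 * ((2 * e + 1) * (e + 1)) := by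
    refine mul_left_cancel₀ (pow_ne_zero 2 he0) ?_
    rw [h4, hr]; ring
  have hr1 : r ∣ 1 := by
    have h5 : r ∣ n := ⟨r * ((2 * e + 1) * (e + 1)), by rw [hn]; ring⟩
    have h6 : r ∣ n - 1 := (Dvd.intro_left e hr.symm).trans hn1
    simpa using dvd_sub h5 h6
  rcases Int.isUnit_iff.1 (isUnit_of_dvd_one hr1) with rfl | rfl
  · refine ⟨Or.inl ?_, ?_⟩
    · rw [he, hk]; push_cast; linarith
    · rw [hn, he]; ring
  · refine ⟨Or.inr ?_, ?_⟩
    · rw [he, hk]; push_cast; linarith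
    · rw [hn, he]; ring

end CfsgLib.BSW
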