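import Cfsg.Agent.Lib.BSW.Real
import Mathlib.GroupTheory.SchurZassenhaus
import Mathlib.GroupTheory.Nilpotent

/-!
# The case `q = 2|K| - 1`
-/

set_option autoImplicit false
set_option linter.style.haveILetI false

namespace CfsgLib.BSW

open Cfsg CfsgLib.Involutions CfsgLib.InvChar CfsgLib.Characters Setup
open scoped ComplexConjugate

universe u

variable {G : Type u} [Group G] [Fintype G] {K : Subgroup G} {t s : G}

/-- The strongly real centralizers have order `|K| - 1`. -/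
theorem minus_real (h : Setup K t s) (Fam : Family (G := G) K t) (hK : 4 ≤ Nat.card K)
    (hB : Fam.B = 1 - 2 * Nat.card K) {x u : G} (hx : ¬ InK K x) (hu : u ∈ invPairs x) :
    Nat.card (Subgroup.centralizer ({x} : Set G)) + 1 = Nat.card K := by
  set κ := Nat.card K with hκ
  set A := Subgroup.centralizer ({x} : Set G) with hA
  obtain ⟨z, hz, hN⟩ := Fam.count_neg h hK hB hx
  obtain ⟨-, -, hcard, hy⟩ := h.real_facts hx hu
  rw [hcard] at hN
  have hconst : ∀ c ∈ A, c ≠ 1 → Fam.b c = z := by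
    intro c hc hc1
    obtain ⟨hu', hC⟩ := hy c hc hc1
    obtain ⟨z', hz', hN'⟩ := Fam.count_neg h hK hB (h.not_inK_of_mem hx hc hc1)
    rw [(h.real_facts (h.not_inK_of_mem hx hc hc1) hu').2.2.1, hC, hN] at hN'
    rw [hz', mul_left_cancel₀ (by omega : -((κ : ℤ) - 1) ≠ 0) hN']
  have hdvd := Fam.card_dvd A hconst
  rw [hB, hN] at hdvd
  have hz1 : z < 0 := by
    have hpos : (0 : ℤ) < Nat.card A := by exact_mod_cast Nat.card_pos
    by_contra hcon
    rw [hN] at hpos
    nlinarith [mul_nonneg (by omega : (0 : ℤ) ≤ (κ : ℤ) - 1) (by omega : (0 : ℤ) ≤ z)]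
  obtain ⟨m, hm, rfl⟩ : ∃ m : ℤ, 0 < m ∧ z = -m := ⟨-z, by omega, by omega⟩
  obtain ⟨w, hw⟩ := hdvd
  have hodd : Odd (Nat.card A) := h.odd_centralizer hx
  have heven : (2 : ℤ) ∣ κ := by exact_mod_cast h.even_card_K
  have hb := Fam.bound_int hx hz ∅ (by simp)
  rw [Finset.sum_empty, add_zero, show ((Nat.card A : ℕ) : ℝ) = ((Nat.card A : ℤ) : ℝ) by simp,
    hN] at hb
  push_cast at hb
  have hb' : 2 + 2 * m ^ 2 + ((κ : ℤ) - 1) * (1 - m) ^ 2 ≤ 2 * (((κ : ℤ) - 1) * m) := by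
    have : 2 + 2 * (m : ℝ) ^ 2 + ((κ : ℝ) - 1) * (1 - (m : ℝ)) ^ 2 ≤
        2 * (((κ : ℝ) - 1) * m) := by rw [← hκ] at hb; linarith
    exact_mod_cast this
  -- `κ - 1` divides `m - 1`, and `m` is odd
  obtain ⟨v, hv⟩ : ((κ : ℤ) - 1) ∣ m - 1 :=
    ⟨2 + w * m, by linear_combination hw⟩
  have hmodd : ¬ (2 : ℤ) ∣ m := by
    rintro ⟨j, rfl⟩
    obtain ⟨i, hi⟩ := hodd
    have h1 : (Nat.card A : ℤ) = 2 * (((κ : ℤ) - 1) * j) := by rw [hN]; ring
    omega
  have hm1 : m = 1 := by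
    by_contra hne
    have hκ1 : (0 : ℤ) < (κ : ℤ) - 1 := by omega
    have hvpos : 0 < v := by
      by_contra hcon
      have := mul_nonpos_of_nonneg_of_nonpos hκ1.le (by omega : v ≤ 0)
      omega
    have hv2 : 2 ≤ v := by
      by_contra hcon
      have hv1 : v = 1 := by omega
      rw [hv1, mul_one] at hv
      omega
    have h1 : m - 1 ≥ 2 * ((κ : ℤ) - 1) := by
      have := mul_le_mul_of_nonneg_left hv2 hκ1.le
      omega
    have h7 : 7 ≤ m := by omega
    have h2 : 2 * m ≤ (1 - m) ^ 2 := by nlinarith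
    have := mul_le_mul_of_nonneg_left h2 hκ1.le
    nlinarith
  subst hm1
  have hfin : (Nat.card A : ℤ) = (κ : ℤ) - 1 := by rw [hN]; ring
  omega

/-- The characters carried by the dual of the real centralizer. -/
theorem minus_family (h : Setup K t s) (Fam : Family (G := G) K t) (hK : 4 ≤ Nat.card K)
    (hB : Fam.B = 1 - 2 * Nat.card K) {A : Subgroup G} {u : G} (hA : DTI A u)
    (hAK : Nat.card A + 1 = Nat.card K) (hAx : ∀ c ∈ A, c ≠ 1 → ¬ InK K c)
    (hAN : ∀ c ∈ A, c ≠ 1 → (invPairs c).card = Nat.card A) :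
    ∃ T : Finset (IrrCharacter G), Nat.card K ≤ 2 * T.card + 2 ∧
      (∀ χ ∈ T, (χ : G → ℂ) t = 0) ∧
      ∀ χ ∈ T, ∀ x : G, ¬ InK K x → (¬ ∃ g : G, g * x * g⁻¹ ∈ A) → Fam.b x = 0 →
        ‖(χ : G → ℂ) x‖ = 1 := by
  classical
  set κ := Nat.card K with hκ
  have hcomm : ∀ a b : A, a * b = b * a := fun a b => Subtype.ext (hA.comm a a.2 b b.2)
  haveI : Finite (A →* ℂˣ) :=
    Nat.finite_of_card_ne_zero (by rw [card_dual hcomm]; exact Nat.card_pos.ne')
  letI := Fintype.ofFinite (A →* ℂˣ)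
  have hAodd : Odd (Nat.card A) := by
    obtain ⟨k, hk⟩ := h.even_card_K
    exact ⟨k - 1, by omega⟩
  have hsq : ∀ l : A →* ℂˣ, l * l = 1 → l = 1 := by
    intro l hl
    ext a
    have h1 : l a * l a = 1 := DFunLike.congr_fun hl a
    have h2 : l a ^ Nat.card A = 1 := by rw [← map_pow, pow_card_eq_one', map_one]
    obtain ⟨k, hk⟩ := hAodd
    rw [hk, pow_succ, pow_mul, sq, h1, one_pow, one_mul] at h2
    simp [h2]
  let ι := {χ : IrrCharacter G // χ ≠ principalIrr G}
  choose d hd hd0 using fun χ : ι => exists_int_degree χ.1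
  choose z hz using fun χ : ι => exists_int_at_involution χ.1 h.ht
  choose co hco using fun (l : A →* ℂˣ) (χ : IrrCharacter G) =>
    classInner_generalized_int (isGeneralized_F l) (isGeneralizedCharacter_irr χ)
  let W : (A →* ℂˣ) → ι → ℤ := fun l χ => co l χ.1
  let Λ := {l : A →* ℂˣ // l ≠ 1}
  have hexp : ∀ l : A →* ℂˣ, l ≠ 1 → ∀ w : IrrCharacter G → ℂ,
      ∑ χ : IrrCharacter G, classInner (F l) (χ : G → ℂ) * w χ =
        w (principalIrr G) + ∑ χ : ι, (W l χ : ℂ) * w χ.1 := by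
    intro l hl w
    rw [sum_split]
    congr 1
    · rw [show classInner (F l) ((principalIrr G : IrrCharacter G) : G → ℂ) = 1 from
        DTI.inner_F_one l hl, one_mul]
    · exact Finset.sum_congr rfl fun χ _ => by rw [hco]
  have hFval : ∀ l : A →* ℂˣ, l ≠ 1 → ∀ x : G,
      F l x = 1 + ∑ χ : ι, (W l χ : ℂ) * (χ.1 : G → ℂ) x := by
    intro l hl x
    conv_lhs => rw [classFunction_eq_sum (isClassFunction_F l)]
    simp only [Finset.sum_apply, Pi.smul_apply, smul_eq_mul]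
    rw [hexp l hl fun χ => (χ : G → ℂ) x, principalIrr_apply]
  have hinner : ∀ l m : A →* ℂˣ, l ≠ 1 → m ≠ 1 →
      (∑ χ : ι, W l χ * W m χ) = 1 + (if l = m then 1 else 0) + (if l = m⁻¹ then 1 else 0) := by
    intro l m hl hm
    have h1 := hA.inner_F hl hm
    rw [classInner_eq_sum_mul (isClassFunction_F m), hexp l hl] at h1
    simp only [hco, map_intCast] at h1
    have h2 : co m (principalIrr G) = 1 := by
      have := hco m (principalIrr G)
      rw [show classInner (F m) ((principalIrr G : IrrCharacter G) : G → ℂ) = 1 from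
        DTI.inner_F_one m hm] at this
      exact_mod_cast this.symm
    rw [h2] at h1
    have h3 : (((1 + ∑ χ : ι, W l χ * W m χ) : ℤ) : ℂ) =
        ((2 + (if l = m then 1 else 0) + (if l = m⁻¹ then 1 else 0) : ℤ) : ℂ) := by
      push_cast
      simpa using h1
    have h4 : (1 + ∑ χ : ι, W l χ * W m χ) =
        (2 + (if l = m then 1 else 0) + (if l = m⁻¹ then 1 else 0) : ℤ) := by exact_mod_cast h3
    linarith
  have hnorm : ∀ l : Λ, ∑ χ : ι, W l.1 χ ^ 2 = 2 := by
    intro l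
    simp only [sq]
    rw [hinner l.1 l.1 l.2 l.2, if_pos rfl,
      if_neg fun e => l.2 (hsq _ (by rw [hom_mul_self]; exact e))]
    rfl
  have hq : (Fam.B : ℤ) = 1 - 2 * κ := hB
  have hn2 : ((invs G).card : ℤ) = (2 * (κ : ℤ) - 1) * (κ - 1) := by
    have := (Fam.B_eq h).2
    rw [hq] at this
    linarith
  have helem : ∀ (i : ι) (v : ℤ), (v = 1 ∨ v = -1) →
      v * z i = 0 ∨ (i.1 = Fam.ψ ∧ v * z i = v * Fam.ε ∧ v * d i = v * Fam.ε * Fam.B) ∨
      ((v * z i = 2 ∨ v * z i = -2) ∧ (v * d i = Fam.B + 1 ∨ v * d i = -(Fam.B + 1))) ∨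
      ((v * z i = 1 ∨ v * z i = -1) ∧
        (2 * (v * d i) = Fam.B + 1 ∨ 2 * (v * d i) = -(Fam.B + 1))) := by
    intro i v hv
    have hzi : ∀ c : ℤ, (i.1 : G → ℂ) t = c → z i = c := fun c hc => by
      rw [hz] at hc; exact_mod_cast hc
    rcases Fam.classify i.1 i.2 with h0 | hψ | ⟨dg, hdg, hsqd, h2⟩ | ⟨dg, hdg, hsqd, h2⟩
    · left
      rw [hzi 0 (by rw [h0]; simp), mul_zero]
    · right; left
      have h1 : Fam.ε * z i = 1 := by
        have := Fam.ψ_t
        rw [← hψ, hz, ← Int.cast_mul] at this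
        exact_mod_cast this
      have h2 : Fam.ε * d i = Fam.B := by
        have := Fam.ψ_one
        rw [← hψ, hd, ← Int.cast_mul] at this
        exact_mod_cast this
      refine ⟨hψ, ?_, ?_⟩ <;> rcases Fam.ε_pm with e | e <;> rw [e] at h1 h2 ⊢
      · rw [show z i = 1 by omega]
      · rw [show z i = -1 by omega]
      · rw [show d i = Fam.B by omega, mul_one]
      · rw [show d i = -Fam.B by omega]; ring
    · right; right; left
      rw [hd] at hdg
      have hdi : d i = dg := by exact_mod_cast hdg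
      rw [← hdi] at hsqd
      have hzc : z i = 2 ∨ z i = -2 :=
        h2.imp (fun e => hzi 2 (by rw [e]; norm_num)) (fun e => hzi (-2) (by rw [e]; norm_num))
      rcases sq_eq_sq_iff_eq_or_eq_neg.1 hsqd with e | e <;> rcases hv with rfl | rfl <;> omega
    · right; right; right
      rw [hd] at hdg
      have hdi : d i = dg := by exact_mod_cast hdg
      rw [← hdi, show 4 * d i ^ 2 = (2 * d i) ^ 2 by ring] at hsqd
      have hzc : z i = 1 ∨ z i = -1 :=
        h2.imp (fun e => hzi 1 (by rw [e]; norm_num)) (fun e => hzi (-1) (by rw [e]; norm_num))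
      rcases sq_eq_sq_iff_eq_or_eq_neg.1 hsqd with e | e <;> rcases hv with rfl | rfl <;> omega
  have htA : ¬ ∃ g : G, g * t * g⁻¹ ∈ A := by
    rintro ⟨g, hg⟩
    exact hAx _ hg (fun e => ne_one_of_involution h.ht (conj_eq_one_iff.1 e))
      ((Setup.inK_conj t g).2 ⟨1, by simpa using h.htK⟩)
  have hkey : ∀ l : Λ, ∃ U : ι, z U = 0 ∧ W l.1 U ≠ 0 ∧ ∀ x : G,
      (W l.1 U : ℂ) * (U.1 : G → ℂ) x = F l.1 x - 1 + Fam.b x := by
    intro l
    obtain ⟨a, b, hab, ha, hb, h0⟩ := Coeff.exists_two (hnorm l)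
    have pm : ∀ i, W l.1 i ≠ 0 → W l.1 i = 1 ∨ W l.1 i = -1 := fun i hi => by
      rcases Coeff.pm_of_sum_sq (hnorm l) (by norm_num) i with e | e | e
      exacts [Or.inr e, absurd e hi, Or.inl e]
    have hd' := hFval l.1 l.2 1
    rw [hA.F_one, Coeff.sum_two hab h0 fun χ : ι => (χ.1 : G → ℂ) 1] at hd'
    simp only [hd] at hd'
    have degeq : W l.1 a * d a + W l.1 b * d b = -1 := by
      have : ((W l.1 a * d a + W l.1 b * d b : ℤ) : ℂ) = ((-1 : ℤ) : ℂ) := by
        push_cast; linear_combination -hd'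
      exact_mod_cast this
    have hz' := hFval l.1 l.2 t
    rw [DTI.F_off _ htA, Coeff.sum_two hab h0 fun χ : ι => (χ.1 : G → ℂ) t] at hz'
    simp only [hz] at hz'
    have valeq : W l.1 a * z a + W l.1 b * z b = -1 := by
      have : ((W l.1 a * z a + W l.1 b * z b : ℤ) : ℂ) = ((-1 : ℤ) : ℂ) := by
        push_cast; linear_combination -hz'
      exact_mod_cast this
    have h1 := h.sum_coeff (isClassFunction_F l.1)
    rw [DTI.sum_F_mul l.1 l.2 isClassFunction_card_invPairs (c := (Nat.card A : ℂ))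
      (fun x hx hx1 => by rw [hAN x hx hx1]), hexp l.1 l.2, principalIrr_apply,
      Coeff.sum_two hab h0
        fun χ : ι => (χ.1 : G → ℂ) t ^ 2 / (χ.1 : G → ℂ) 1] at h1
    simp only [hz, hd, principalIrr_apply, one_pow, div_one] at h1
    have helleq : (2 * (κ : ℤ) - 1) *
        ((W l.1 a * z a) ^ 2 * (W l.1 b * d b) + (W l.1 b * z b) ^ 2 * (W l.1 a * d a)) =
        (W l.1 a * d a) * (W l.1 b * d b) := by
      have e1 : ∀ (v zz dd : ℤ), (v = 1 ∨ v = -1) →
          (v : ℂ) * ((zz : ℂ) ^ 2 / dd) = ((v * zz : ℤ) : ℂ) ^ 2 / ((v * dd : ℤ) : ℂ) := by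
        rintro v zz dd (rfl | rfl) <;> push_cast
        · simp
        · rw [neg_one_mul, neg_one_mul, neg_one_mul, div_neg, neg_sq]
      rw [e1 _ _ _ (pm a ha), e1 _ _ _ (pm b hb)] at h1
      set Da := W l.1 a * d a with hDa
      set Db := W l.1 b * d b with hDb
      have hDa0 : (Da : ℂ) ≠ 0 := by exact_mod_cast mul_ne_zero ha (hd0 a)
      have hDb0 : (Db : ℂ) ≠ 0 := by exact_mod_cast mul_ne_zero hb (hd0 b)
      have hn : ((invs G).card : ℂ) = (2 * (κ : ℂ) - 1) * ((κ : ℂ) - 1) := by exact_mod_cast hn2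
      have hG : (Nat.card G : ℂ) = 2 * (κ : ℂ) * (invs G).card := by
        rw [h.card_G']; push_cast; rfl
      have hAc : (Nat.card A : ℂ) = (κ : ℂ) - 1 := by rw [← hAK]; push_cast; ring
      have hn0 : ((invs G).card : ℂ) ≠ 0 := Nat.cast_ne_zero.2 h.n_pos.ne'
      have hκ1 : (κ : ℂ) - 1 ≠ 0 := by
        rw [sub_ne_zero]; exact_mod_cast (by omega : κ ≠ 1)
      rw [hG, hAc] at h1
      have h2 : ((invs G).card : ℂ) * (1 + (((W l.1 a * z a : ℤ) : ℂ) ^ 2 / Da +
          ((W l.1 b * z b : ℤ) : ℂ) ^ 2 / Db)) = 2 * (κ : ℂ) * ((κ : ℂ) - 1) :=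
        mul_left_cancel₀ hn0 (by linear_combination h1)
      rw [hn] at h2
      have h3 : (2 * (κ : ℂ) - 1) * (1 + (((W l.1 a * z a : ℤ) : ℂ) ^ 2 / Da +
          ((W l.1 b * z b : ℤ) : ℂ) ^ 2 / Db)) = 2 * (κ : ℂ) :=
        mul_left_cancel₀ hκ1 (by linear_combination h2)
      field_simp at h3
      have h4 : (((2 * (κ : ℤ) - 1) * ((W l.1 a * z a) ^ 2 * Db + (W l.1 b * z b) ^ 2 * Da) : ℤ) : ℂ) =
          ((Da * Db : ℤ) : ℂ) := by push_cast at h3 ⊢; linear_combination h3
      exact_mod_cast h4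
    have main : (W l.1 a * z a = 0 ∧ b.1 = Fam.ψ ∧ W l.1 b = -Fam.ε) ∨
        (W l.1 b * z b = 0 ∧ a.1 = Fam.ψ ∧ W l.1 a = -Fam.ε) := by
      have hε := Fam.ε_pm
      have e1 := helem a (W l.1 a) (pm a ha)
      have e2 := helem b (W l.1 b) (pm b hb)
      have hda : W l.1 a * d a ≠ 0 := mul_ne_zero ha (hd0 a)
      have hdb : W l.1 b * d b ≠ 0 := mul_ne_zero hb (hd0 b)
      have hκ4 : (4 : ℤ) ≤ κ := by exact_mod_cast hK
      rw [hq] at e1 e2
      rcases pm a ha with p1 | p1 <;> rcases pm b hb with p2 | p2 <;> rw [p1, p2] at degeq valeq helleq <;>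
        rw [p1] at e1 hda ⊢ <;> rw [p2] at e2 hdb ⊢ <;> rcases hε with hε | hε <;> rw [hε] at e1 e2 ⊢ <;>
        rcases e1 with e1 | ⟨i1, e1, f1⟩ | ⟨e1 | e1, f1 | f1⟩ | ⟨e1 | e1, f1 | f1⟩ <;>
        rcases e2 with e2 | ⟨i2, e2, f2⟩ | ⟨e2 | e2, f2 | f2⟩ | ⟨e2 | e2, f2 | f2⟩ <;>
        first
          | omega
          | (exfalso; rw [e1, e2] at helleq; nlinarith)
          | exact Or.inl ⟨e1, i2, by omega⟩
          | exact Or.inr ⟨e2, i1, by omega⟩
    rcases main with ⟨hza, hψ, hWb⟩ | ⟨hzb, hψ, hWa⟩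
    · refine ⟨a, (mul_eq_zero.1 hza).resolve_left ha, ha, fun x => ?_⟩
      rw [hFval l.1 l.2 x, Coeff.sum_two hab h0 fun χ : ι => (χ.1 : G → ℂ) x, hWb, hψ, Family.b]
      push_cast; ring
    · refine ⟨b, (mul_eq_zero.1 hzb).resolve_left hb, hb, fun x => ?_⟩
      rw [hFval l.1 l.2 x, Coeff.sum_two hab h0 fun χ : ι => (χ.1 : G → ℂ) x, hWa, hψ, Family.b]
      push_cast; ring
  choose U hUz hUne hUx using hkey
  refine ⟨(Finset.univ : Finset Λ).image fun l => (U l).1, ?_, ?_, ?_⟩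
  · have hfib : ∀ l m : Λ, (U l).1 = (U m).1 → m = l ∨ m.1 = (l.1)⁻¹ := by
      intro l m e
      have hFlm : (W l.1 (U l) : ℂ) • F m.1 - (W m.1 (U m) : ℂ) • F l.1 =
          ((W l.1 (U l) : ℂ) - (W m.1 (U m) : ℂ)) • fun x => 1 - Fam.b x := by
        funext x
        have h1 := hUx l x
        have h2 := hUx m x
        rw [← e] at h2
        simp only [Pi.sub_apply, Pi.smul_apply, smul_eq_mul]
        linear_combination -(W l.1 (U l) : ℂ) * h2 + (W m.1 (U m) : ℂ) * h1
      have hWe : W l.1 (U l) = W m.1 (U m) := by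
        have h3 := congrFun hFlm t
        simp only [Pi.sub_apply, Pi.smul_apply, smul_eq_mul, DTI.F_off _ htA] at h3
        have h4 := congrFun hFlm 1
        simp only [Pi.sub_apply, Pi.smul_apply, smul_eq_mul, hA.F_one] at h4
        rw [mul_zero, mul_zero, sub_zero, eq_comm, mul_eq_zero] at h4
        rcases h4 with h4 | h4
        · exact_mod_cast sub_eq_zero.1 h4
        · exfalso
          have h5 : Fam.b 1 = (Fam.B : ℂ) := Fam.ψ_one
          rw [h5, sub_eq_zero, hq] at h4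
          have h6 : (1 : ℤ) = 1 - 2 * (κ : ℤ) := by exact_mod_cast h4
          omega
      have hF : F l.1 = F m.1 := by
        rw [hWe, sub_self, zero_smul, ← smul_sub, smul_eq_zero] at hFlm
        rcases hFlm with h5 | h5
        · exact absurd (by exact_mod_cast h5) (hUne m)
        · exact (sub_eq_zero.1 h5).symm
      have hW : W l.1 = W m.1 := by
        funext χ
        have h6 := hco l.1 χ.1
        rw [hF, hco m.1 χ.1] at h6
        exact_mod_cast h6.symm
      by_contra hne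
      push Not at hne
      have h7 := hinner m.1 l.1 m.2 l.2
      rw [if_neg fun e => hne.1 (Subtype.ext e), if_neg hne.2, hW] at h7
      have h8 := hnorm m
      simp only [sq] at h8
      omega
    have hle := Finset.card_le_mul_card_image (f := fun l : Λ => (U l).1)
      (Finset.univ : Finset Λ) 2 (fun v hv => by
        obtain ⟨l, -, rfl⟩ := Finset.mem_image.1 hv
        refine le_trans (Finset.card_le_card (t := {l, ⟨(l.1)⁻¹, fun e => l.2
          (MonoidHom.ext fun a => by simpa using DFunLike.congr_fun e a)⟩}) ?_) Finset.card_le_two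
        intro m hm
        rw [Finset.mem_insert, Finset.mem_singleton]
        rcases hfib l m (Finset.mem_filter.1 hm).2.symm with e | e
        · exact Or.inl e
        · exact Or.inr (Subtype.ext e))
    have hΛ : Nat.card Λ + 1 = Nat.card A := by
      rw [← card_dual hcomm, ← Finite.card_option]
      exact Nat.card_congr (Equiv.optionSubtypeNe 1)
    rw [Finset.card_univ, ← Nat.card_eq_fintype_card] at hle
    omega
  · intro χ hχ
    obtain ⟨l, -, rfl⟩ := Finset.mem_image.1 hχ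
    rw [hz, hUz, Int.cast_zero]
  · intro χ hχ x hx hxA hb
    obtain ⟨l, -, rfl⟩ := Finset.mem_image.1 hχ
    have := congrArg norm (hUx l x)
    rw [DTI.F_off _ hxA, hb, norm_mul, Complex.norm_intCast] at this
    rcases Coeff.pm_of_sum_sq (hnorm l) (by norm_num) (U l) with e | e | e
    · simpa [e] using this
    · exact absurd e (hUne l)
    · simpa [e] using this

theorem concl_minus (h : Setup K t s) (Fam : Family (G := G) K t) (hK : 4 ≤ Nat.card K)
    (hB : Fam.B = 1 - 2 * Nat.card K) : Concl G := by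
  classical
  set κ := Nat.card K with hκ
  set n := (invs G).card with hn
  obtain ⟨ρ, hρ⟩ : ∃ ρ, κ = ρ + 1 := ⟨κ - 1, by omega⟩
  have hρ3 : 3 ≤ ρ := by omega
  have hn2 : n = (2 * ρ + 1) * ρ := by
    have := (Fam.B_eq h).2
    rw [hB, ← hn, hρ] at this
    push_cast at this
    have : ((n : ℕ) : ℤ) = (((2 * ρ + 1) * ρ : ℕ) : ℤ) := by push_cast; linarith
    exact_mod_cast this
  set q := 2 * ρ + 1 with hq
  have hG : Nat.card G = 2 * κ * (q * ρ) := by rw [h.card_G', ← hn, hn2]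
  have hreal : ∀ x ∈ realSet K, Nat.card (Subgroup.centralizer ({x} : Set G)) = ρ := by
    intro x hx
    obtain ⟨hxK, u, hu⟩ := mem_realSet.1 hx
    have := minus_real h Fam hK hB hxK hu
    omega
  have hp := h.sum_pairs
  rw [Finset.sum_congr rfl hreal, Finset.sum_const, smul_eq_mul, h.card_conjSet_K, ← hn] at hp
  have hR : (realSet K).card + q = q * (ρ * ρ) := by
    have h1 := congrArg (Nat.cast (R := ℤ)) hp
    rw [show Nat.card K - 1 = ρ by omega, ← hκ, hρ, hn2] at h1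
    push_cast [hq] at h1
    have : (((realSet K).card + q : ℕ) : ℤ) = ((q * (ρ * ρ) : ℕ) : ℤ) := by
      push_cast [hq]
      exact mul_left_cancel₀ (by omega : (ρ : ℤ) ≠ 0) (by linear_combination -h1)
    exact_mod_cast this
  obtain ⟨x₀, hx₀⟩ : (realSet K).Nonempty := by
    rw [← Finset.card_pos]
    have : q * 1 < q * (ρ * ρ) := Nat.mul_lt_mul_of_pos_left (by nlinarith) (by omega)
    omega
  obtain ⟨hx₀K, u₀, hu₀⟩ := mem_realSet.1 hx₀
  have ha₀ := hreal x₀ hx₀
  have hconj := h.realSet_eq_conjSet hx₀K hu₀ ha₀ (by omega)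
  rw [Finset.filter_true_of_mem hreal] at hconj
  set A := Subgroup.centralizer ({x₀} : Set G) with hA
  obtain ⟨-, -, -, hy₀⟩ := h.real_facts hx₀K hu₀
  have hAC : ∀ c ∈ A, c ≠ 1 → Subgroup.centralizer ({c} : Set G) = A :=
    fun c hc hc1 => (hy₀ c hc hc1).2
  have hNA : Nat.card (Subgroup.normalizer (A : Set G)) = 2 * ρ := by
    have hcnt := congrArg Finset.card hconj
    rw [card_conjSet_of_cent hAC, ha₀] at hcnt
    set N := Subgroup.normalizer (A : Set G)
    have h1 := congrArg (Nat.cast (R := ℤ)) hcnt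
    have h2 := congrArg (Nat.cast (R := ℤ)) hR
    push_cast [hq, Nat.cast_sub (show 1 ≤ ρ by omega)] at h1 h2
    have hidx : (N.index : ℤ) = (2 * ρ + 1) * (ρ + 1) :=
      mul_right_cancel₀ (by omega : (ρ : ℤ) - 1 ≠ 0) (by linear_combination h2 - h1)
    have h3 := congrArg (Nat.cast (R := ℤ)) N.card_mul_index
    rw [hG, hρ] at h3
    push_cast [hq] at h3
    rw [hidx] at h3
    have : (Nat.card N : ℤ) = 2 * ρ :=
      mul_right_cancel₀ (mul_ne_zero (by omega) (by omega) : (2 * (ρ : ℤ) + 1) * (ρ + 1) ≠ 0)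
        (by rw [h3]; ring)
    exact_mod_cast this
  have hDTI : DTI A u₀ := h.real_dti hx₀K hu₀ (by rw [hNA, ← hA, ha₀])
  obtain ⟨T, hT, hT0, hT1⟩ := minus_family h Fam hK hB hDTI (by omega)
    (fun c hc hc1 => h.not_inK_of_mem hx₀K hc hc1)
    (fun c hc hc1 => by
      rw [(h.real_facts (h.not_inK_of_mem hx₀K hc hc1) (hy₀ c hc hc1).1).2.2.1, hAC c hc hc1])
  -- the remaining elements
  set U := Finset.univ.filter fun x : G => ¬ InK K x ∧ x ∉ realSet K with hUdef
  have hUmem : ∀ {x : G}, x ∈ U ↔ ¬ InK K x ∧ x ∉ realSet K := fun {x} => by simp [U]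
  have hU : U.card + 1 = q * q := by
    have hoff := h.card_off
    rw [← Finset.card_filter_add_card_filter_not (s := Finset.univ.filter fun x : G => ¬ InK K x)
      (fun x => x ∈ realSet K), Finset.filter_filter, Finset.filter_filter] at hoff
    rw [show (Finset.univ.filter fun x : G => ¬ InK K x ∧ x ∈ realSet K) = realSet K by
      ext x; simp [mem_realSet], ← hUdef, hG, ← hn, hn2, ← hκ, hρ, Nat.add_sub_cancel] at hoff
    have h1 := congrArg (Nat.cast (R := ℤ)) hoff
    have h2 := congrArg (Nat.cast (R := ℤ)) hR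
    push_cast [hq] at h1 h2
    have : ((U.card + 1 : ℕ) : ℤ) = ((q * q : ℕ) : ℤ) := by
      push_cast [hq]; linear_combination h1 - h2
    exact_mod_cast this
  have hU2 : ∀ x ∈ U, ∀ v, v ∉ invPairs x := fun x hx v hv =>
    (hUmem.1 hx).2 (mem_realSet.2 ⟨(hUmem.1 hx).1, v, hv⟩)
  have hUcentMem : ∀ x ∈ U, ∀ y ∈ Subgroup.centralizer ({x} : Set G), y ≠ 1 → y ∈ U := by
    intro x hx y hy hy1
    refine hUmem.2 ⟨h.not_inK_of_mem (hUmem.1 hx).1 hy hy1, fun hyR => ?_⟩
    rw [hconj, DTI.mem_conjSet] at hyR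
    obtain ⟨-, g, hg⟩ := hyR
    have hgx : g * x * g⁻¹ ∈ A := by
      rw [← hAC _ hg fun e => hy1 (conj_eq_one_iff.1 e), Subgroup.mem_centralizer_singleton_iff]
      rw [Subgroup.mem_centralizer_singleton_iff] at hy
      calc g * x * g⁻¹ * (g * y * g⁻¹) = g * (x * y) * g⁻¹ := by group
        _ = g * (y * x) * g⁻¹ := by rw [hy]
        _ = g * y * g⁻¹ * (g * x * g⁻¹) := by group
    exact (hUmem.1 hx).2 (hconj ▸ DTI.mem_conjSet.2 ⟨ne_one_of_not_inK (hUmem.1 hx).1, g, hgx⟩)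
  have hAidx : ∀ r : ℕ, r.Prime → r ≠ 2 → r ∣ ρ → ¬ r ∣ A.index := by
    intro r hr hr2 hrρ hd
    have h1 := A.card_mul_index
    rw [ha₀, hG, show 2 * κ * (q * ρ) = ρ * (2 * κ * q) by ring] at h1
    rw [mul_left_cancel₀ (by omega : ρ ≠ 0) h1] at hd
    rcases hr.dvd_mul.1 hd with hd | hd
    · rcases hr.dvd_mul.1 hd with hd | hd
      · exact hr2 ((Nat.prime_dvd_prime_iff_eq hr Nat.prime_two).1 hd)
      · rw [hρ] at hd; exact hr.one_lt.ne' (Nat.dvd_one.1 ((Nat.dvd_add_right hrρ).1 hd))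
    · exact hr.one_lt.ne' (Nat.dvd_one.1 ((Nat.dvd_add_right (hrρ.mul_left 2)).1 hd))
  have hsmall : ∀ r : ℕ, r.Prime → r ≠ 2 → r ∣ 2 * κ * ρ →
      ∃ (B : Subgroup G) (v : G), DTI B v ∧ ¬ r ∣ B.index ∧ (B = K ∨ B = A) := by
    intro r hr hr2 hd
    rcases hr.dvd_mul.1 hd with hd | hd
    · rcases hr.dvd_mul.1 hd with hd | hd
      · exact absurd ((Nat.prime_dvd_prime_iff_eq hr Nat.prime_two).1 hd) hr2
      · exact ⟨K, s, h.dti, h.not_dvd_index_K hr hr2 hd, Or.inl rfl⟩
    · exact ⟨A, u₀, hDTI, hAidx r hr hr2 hd, Or.inr rfl⟩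
  have hodd2 : ∀ x : G, ¬ InK K x → ∀ {r : ℕ}, r ∣ Nat.card (Subgroup.centralizer ({x} : Set G)) →
      r ≠ 2 := fun x hx r hd e => by
    subst e
    exact Nat.not_even_iff_odd.2 (h.odd_centralizer hx) (even_iff_two_dvd.2 hd)
  have hUq : ∀ x ∈ U, Nat.card (Subgroup.centralizer ({x} : Set G)) = q := by
    intro x hx
    have hxK := (hUmem.1 hx).1
    set c := Nat.card (Subgroup.centralizer ({x} : Set G)) with hc
    have hco : Nat.Coprime c (2 * κ * ρ) := by
      refine Nat.coprime_of_dvd fun r hr hrc hrd => ?_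
      haveI : Fact r.Prime := ⟨hr⟩
      obtain ⟨B, v, hB', hidx, hBK⟩ := hsmall r hr (hodd2 x hxK hrc) hrd
      obtain ⟨⟨y, hy⟩, hy2⟩ := exists_prime_orderOf_dvd_card' r hrc
      rw [Subgroup.orderOf_mk] at hy2
      have hy1 : y ≠ 1 := fun e => by rw [e, orderOf_one] at hy2; exact hr.one_lt.ne hy2
      obtain ⟨g, hg⟩ := exists_conj_mem hidx hy2
      obtain ⟨hyK, hyR⟩ := hUmem.1 (hUcentMem x hx y hy hy1)
      rcases hBK with rfl | rfl
      · exact hyK ⟨g, hg⟩
      · exact hyR (hconj ▸ DTI.mem_conjSet.2 ⟨hy1, g, hg⟩)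
    have hdvd : c ∣ q := by
      refine hco.dvd_of_dvd_mul_right ?_
      have := Subgroup.card_subgroup_dvd_card (Subgroup.centralizer ({x} : Set G))
      rwa [hG, show 2 * κ * (q * ρ) = q * (2 * κ * ρ) by ring] at this
    have hxA : ¬ ∃ g : G, g * x * g⁻¹ ∈ A := fun e =>
      (hUmem.1 hx).2 (hconj ▸ DTI.mem_conjSet.2 ⟨ne_one_of_not_inK hxK, e⟩)
    obtain ⟨z, hz, hN⟩ := Fam.count_neg h hK hB hxK
    rw [h.invPairs_eq_zero hxK (hUmem.1 hx).2] at hN
    have hz0 : z = 0 := by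
      rcases mul_eq_zero.1 hN.symm with e | e
      · omega
      · exact e
    subst hz0
    have hb := Fam.bound_int hxK hz T hT0
    rw [Finset.sum_congr rfl (g := fun _ => (1 : ℝ)) fun χ hχ => by
      rw [hT1 χ hχ x hxK hxA (by rw [hz, Int.cast_zero]), one_pow], Finset.sum_const, nsmul_eq_mul,
      mul_one, ← hc, ← hκ] at hb
    push_cast at hb
    have hb' : κ + 1 + 2 * T.card ≤ 2 * c := by
      have : ((κ + 1 + 2 * T.card : ℕ) : ℝ) ≤ ((2 * c : ℕ) : ℝ) := by push_cast; linarith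
      exact_mod_cast this
    obtain ⟨w, hw⟩ := hdvd
    rcases (show w = 0 ∨ w = 1 ∨ w = 2 ∨ 3 ≤ w by omega) with rfl | rfl | rfl | hw3
    · omega
    · omega
    · omega
    · have : c * 3 ≤ c * w := Nat.mul_le_mul_left c hw3
      omega
  -- two classes of such elements
  have hclass : ∀ x ∈ U, ∀ y ∈ U, IsConj x y ∨ IsConj x⁻¹ y := by
    intro x hx
    have hxK := (hUmem.1 hx).1
    have hUconj : ∀ w ∈ U, ∀ v, IsConj w v → v ∈ U := by
      intro w hw v hv
      obtain ⟨g, rfl⟩ := isConj_iff.1 hv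
      obtain ⟨hwK, hwR⟩ := hUmem.1 hw
      refine hUmem.2 ⟨fun e => hwK ((Setup.inK_conj w g).1 e), fun e => hwR ?_⟩
      rw [hconj, DTI.mem_conjSet] at e ⊢
      obtain ⟨-, a, ha⟩ := e
      exact ⟨ne_one_of_not_inK hwK, a * g, by
        rwa [show a * g * w * (a * g)⁻¹ = a * (g * w * g⁻¹) * a⁻¹ by group]⟩
    have hxinv : x⁻¹ ∈ U := hUcentMem x hx _ (Subgroup.inv_mem _ (x_mem x))
      (inv_ne_one.2 (ne_one_of_not_inK hxK))
    have hnc : ¬ IsConj x x⁻¹ := by
      rw [isConj_iff]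
      rintro ⟨g, hg⟩
      have hg2 : g * g ∈ Subgroup.centralizer ({x} : Set G) := by
        rw [Subgroup.mem_centralizer_singleton_iff]
        calc g * g * x = g * (g * x * g⁻¹) * g⁻¹ * (g * g) := by group
          _ = g * x⁻¹ * g⁻¹ * (g * g) := by rw [hg]
          _ = (g * x * g⁻¹)⁻¹ * (g * g) := by group
          _ = x * (g * g) := by rw [hg, inv_inv]
      have hq1 : (g ^ q) ^ 2 = 1 := by
        rw [← pow_mul, mul_comm, pow_mul, sq, ← hUq x hx]
        have h1 : (⟨g * g, hg2⟩ : Subgroup.centralizer ({x} : Set G)) ^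
            Nat.card (Subgroup.centralizer ({x} : Set G)) = 1 := pow_card_eq_one'
        have h2 := congrArg Subtype.val h1
        simp only [Subgroup.coe_pow, Subgroup.coe_one] at h2
        exact h2
      have hinv : g ^ q * x * (g ^ q)⁻¹ = x⁻¹ := by
        have h1 : (g * g) ^ ρ * x = x * (g * g) ^ ρ :=
          Subgroup.mem_centralizer_singleton_iff.1 (Subgroup.pow_mem _ hg2 ρ)
        have h2 : g ^ q = g * (g * g) ^ ρ := by rw [← sq, ← pow_mul, ← pow_succ']
        rw [h2]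
        calc g * (g * g) ^ ρ * x * (g * (g * g) ^ ρ)⁻¹
            = g * ((g * g) ^ ρ * x * ((g * g) ^ ρ)⁻¹) * g⁻¹ := by group
          _ = x⁻¹ := by rw [h1, mul_inv_cancel_right, hg]
      have hne1 : g ^ q ≠ 1 := fun e => by
        rw [e, one_mul, inv_one, mul_one] at hinv
        have h3 : x ^ 2 = 1 := by rw [sq]; nth_rewrite 2 [hinv]; exact mul_inv_cancel x
        have h4 := orderOf_dvd_of_pow_eq_one h3
        rcases (Nat.dvd_prime Nat.prime_two).1 h4 with h5 | h5
        · exact ne_one_of_not_inK hxK (orderOf_eq_one_iff.1 h5)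
        · exact hxK (h.inK_of_involution h5)
      refine hU2 x hx (g ^ q) (mem_invPairs_iff_inverts.2
        ⟨orderOf_eq_prime hq1 hne1, fun e => ?_, hinv⟩)
      rw [← inv_eq_of_mul_eq_one_right e] at hxK
      exact hxK (inK_inv.2 (h.inK_of_involution (orderOf_eq_prime hq1 hne1)))
    have hcls : ∀ w ∈ U, (Finset.univ.filter (IsConj w)).card = 2 * κ * ρ := by
      intro w hw
      have h1 := card_isConj_mul_card_centralizer (G := G) w
      rw [hUq w hw, hG, Nat.card_eq_fintype_card, Fintype.card_subtype] at h1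
      exact mul_right_cancel₀ (by omega : q ≠ 0) (by rw [h1]; ring)
    have hsub : (Finset.univ.filter (IsConj x)) ∪ (Finset.univ.filter (IsConj x⁻¹)) = U := by
      refine Finset.eq_of_subset_of_card_le ?_ ?_
      · intro v hv
        rcases Finset.mem_union.1 hv with hv | hv
        · exact hUconj x hx v (Finset.mem_filter.1 hv).2
        · exact hUconj _ hxinv v (Finset.mem_filter.1 hv).2
      · rw [Finset.card_union_of_disjoint, hcls x hx, hcls _ hxinv]
        · rw [hρ]; nlinarith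
        · rw [Finset.disjoint_left]
          intro v hv hv'
          exact hnc ((Finset.mem_filter.1 hv).2.trans (Finset.mem_filter.1 hv').2.symm)
    intro y hy
    rw [← hsub, Finset.mem_union] at hy
    exact hy.imp (fun e => (Finset.mem_filter.1 e).2) (fun e => (Finset.mem_filter.1 e).2)
  -- a prime exponent
  obtain ⟨x, hx⟩ : U.Nonempty := by
    rw [← Finset.card_pos]
    have : 1 * 1 < q * q := Nat.mul_lt_mul_of_lt_of_lt (by omega) (by omega)
    omega
  obtain ⟨p, hp', hpq⟩ := Nat.exists_prime_and_dvd (by omega : q ≠ 1)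
  haveI : Fact p.Prime := ⟨hp'⟩
  obtain ⟨⟨y, hy⟩, hyp⟩ := exists_prime_orderOf_dvd_card'
    (G := Subgroup.centralizer ({x} : Set G)) p (hUq x hx ▸ hpq)
  rw [Subgroup.orderOf_mk] at hyp
  have hyU : y ∈ U := hUcentMem x hx y hy fun e => by
    rw [e, orderOf_one] at hyp; exact hp'.one_lt.ne hyp
  have hord : ∀ w ∈ U, orderOf w = p := by
    intro w hw
    rcases hclass y hyU w hw with e | e
    · exact (orderOf_eq_of_isConj e).trans hyp
    · exact (orderOf_eq_of_isConj e).trans ((orderOf_inv y).trans hyp)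
  have hpgrp : ∀ w ∈ U, IsPGroup p (Subgroup.centralizer ({w} : Set G)) := by
    intro w hw c
    by_cases hc : c = 1
    · exact ⟨0, by simp [hc]⟩
    · refine ⟨1, Subtype.ext ?_⟩
      rw [pow_one, Subgroup.coe_pow, Subgroup.coe_one,
        ← hord c (hUcentMem w hw c c.2 fun e => hc (Subtype.ext e)), pow_orderOf_eq_one]
  obtain ⟨e, he⟩ := IsPGroup.iff_card.1 (hpgrp x hx)
  rw [hUq x hx] at he
  have he0 : e ≠ 0 := fun h0 => by rw [h0, pow_zero] at he; omega
  have hqco : Nat.Coprime q (2 * κ * ρ) := by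
    have h2 : Nat.Coprime q 2 := by rw [hq]; simp
    have h3 : Nat.Coprime q ρ := by rw [hq]; simp
    have h4 : Nat.Coprime q κ := by
      refine Nat.coprime_of_dvd fun r hr hrq hrκ => ?_
      have h5 : r ∣ q + 1 := by
        rw [show q + 1 = 2 * κ by omega]; exact hrκ.mul_left 2
      exact hr.one_lt.ne' (Nat.dvd_one.1 ((Nat.dvd_add_right hrq).1 h5))
    exact (h2.mul_right h4).mul_right h3
  have hpG : p ^ (Nat.card G).factorization p = q := by
    have hnd : ¬ p ∣ 2 * κ * ρ := fun hd =>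
      hp'.one_lt.ne' (Nat.eq_one_of_dvd_coprimes hqco hpq hd)
    rw [hG, show 2 * κ * (q * ρ) = q * (2 * κ * ρ) by ring,
      Nat.factorization_mul (by omega) (Nat.mul_ne_zero (Nat.mul_ne_zero two_ne_zero (by omega))
        (by omega)), Finsupp.add_apply, Nat.factorization_eq_zero_of_not_dvd hnd, add_zero, he,
      hp'.factorization_pow, Finsupp.single_eq_same]
  have hsyl : ∀ w ∈ U, ∃ P : Sylow p G, (P : Subgroup G) = Subgroup.centralizer ({w} : Set G) :=
    fun w hw => ⟨Sylow.ofCard _ (by rw [hUq w hw, hpG]), Sylow.coe_ofCard _ _⟩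
  have hcardP : ∀ P : Sylow p G, Nat.card P = q := fun P => by rw [P.card_eq_multiplicity, hpG]
  have hPU : ∀ (P : Sylow p G) (c : G), c ∈ (P : Subgroup G) → c ≠ 1 → c ∈ U := by
    intro P c hc hc1
    obtain ⟨P₀, hP₀⟩ := hsyl x hx
    obtain ⟨g, hg⟩ := MulAction.exists_smul_eq G P P₀
    have h1 : g * c * g⁻¹ ∈ Subgroup.centralizer ({x} : Set G) := by
      rw [← hP₀, ← hg, Sylow.smul_def]; exact ⟨c, hc, rfl⟩
    obtain ⟨hK', hR'⟩ := hUmem.1 (hUcentMem x hx _ h1 fun e => hc1 (conj_eq_one_iff.1 e))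
    refine hUmem.2 ⟨fun e => hK' ((Setup.inK_conj c g).2 e), fun e => hR' ?_⟩
    rw [hconj, DTI.mem_conjSet] at e ⊢
    obtain ⟨-, a, ha⟩ := e
    exact ⟨fun e => hc1 (conj_eq_one_iff.1 e), a * g⁻¹, by
      rwa [show a * g⁻¹ * (g * c * g⁻¹) * (a * g⁻¹)⁻¹ = a * c * a⁻¹ by group]⟩
  -- Sylow `p`-subgroups meet trivially
  have hprimes : ∀ L : Subgroup G, Odd (Nat.card L) → ∀ p' : ℕ, (p'.Prime → p' = p) →
      ∀ r : ℕ, r.Prime → r ≠ p' → (r ≠ p ∨ ¬ r ∣ Nat.card L) → r ∣ Nat.card L →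
      ∀ T : Subgroup G, IsPGroup r T → T ≤ L → ∀ g ∈ L, (∀ y ∈ T, g * y * g⁻¹ ∈ T) →
      ∀ x ∈ T, g * x = x * g := by
    intro L hLodd p' _ r hr _ hrp hrL T hT hTL g hg hn' x hxT
    haveI : Fact r.Prime := ⟨hr⟩
    have hr2 : r ≠ 2 := fun e => by
      subst e
      exact Nat.not_even_iff_odd.2 hLodd (even_iff_two_dvd.2 hrL)
    have hrd : r ∣ q * (2 * κ * ρ) := by
      have h1 := hrL.trans L.card_subgroup_dvd_card
      rwa [hG, show 2 * κ * (q * ρ) = q * (2 * κ * ρ) by ring] at h1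
    have hrq : ¬ r ∣ q := fun hd => hrp.elim (fun hne => hne
      ((Nat.prime_dvd_prime_iff_eq hr hp').1 (hr.dvd_of_dvd_pow (he ▸ hd)))) (fun hne => hne hrL)
    obtain ⟨B, v, hB', hidx, -⟩ := hsmall r hr hr2 ((hr.dvd_mul.1 hrd).resolve_left hrq)
    exact hB'.commute_of_pGroup hidx hT (hLodd.of_dvd_nat (Subgroup.orderOf_dvd_natCard L hg)) hn' hxT
  have hNodd : ∀ (P : Sylow p G) (R : Subgroup G), R ≤ P → R ≠ ⊥ →
      Odd (Nat.card (Subgroup.normalizer (R : Set G))) := by
    intro P R hR hne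
    rw [← Nat.not_even_iff_odd]
    intro hev
    haveI : Fact (Nat.Prime 2) := ⟨Nat.prime_two⟩
    obtain ⟨⟨v, hv⟩, hv2⟩ := exists_prime_orderOf_dvd_card'
      (G := Subgroup.normalizer (R : Set G)) 2 (even_iff_two_dvd.1 hev)
    rw [Subgroup.orderOf_mk] at hv2
    obtain ⟨c, hc, hc1⟩ : ∃ c ∈ R, c ≠ 1 := by
      by_contra! hall
      exact hne ((Subgroup.eq_bot_iff_forall R).2 hall)
    have hinv := inverts_of_fixedPointFree hv2
      (fun a ha => (Subgroup.mem_normalizer_iff.1 hv a).1 ha)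
      (fun a ha hav => by_contra fun ha1 =>
        (hUmem.1 (hPU P a (hR ha) ha1)).1 (h.inK_of_commute hv2 hav))
    have hcU := hPU P c (hR hc) hc1
    refine hU2 c hcU v (mem_invPairs_iff_inverts.2 ⟨hv2, fun e => ?_, hinv c hc⟩)
    exact (hUmem.1 hcU).1 (by
      rw [← inv_eq_of_mul_eq_one_right e, inK_inv]; exact h.inK_of_involution hv2)
  have hTI : ∀ j : ℕ, ∀ P₁ P₂ : Sylow p G,
      q ≤ Nat.card ((P₁ : Subgroup G) ⊓ P₂ : Subgroup G) + j →
      (P₁ : Subgroup G) ⊓ P₂ ≠ ⊥ → P₁ = P₂ := by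
    intro j
    induction j with
    | zero =>
      intro P₁ P₂ hle _
      have h1 : (P₁ : Subgroup G) ⊓ P₂ = P₁ :=
        Subgroup.eq_of_le_of_card_ge inf_le_left (by rw [hcardP]; simpa using hle)
      exact (Sylow.ext ((Subgroup.eq_of_le_of_card_ge (inf_eq_left.1 h1)
        (by rw [hcardP, hcardP])))).trans rfl
    | succ j ih =>
      intro P₁ P₂ hle hne
      set R := (P₁ : Subgroup G) ⊓ P₂ with hR'
      by_contra hP
      have hlt : ∀ P : Sylow p G, R ≤ P → ∃ y ∈ (P : Subgroup G), y ∉ R ∧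
          y ∈ Subgroup.normalizer (R : Set G) := by
        intro P hRP
        haveI := P.isPGroup'.isNilpotent
        have hne' : R.subgroupOf P ≠ ⊤ := by
          intro e
          rw [Subgroup.subgroupOf_eq_top] at e
          have h1 : (P₁ : Subgroup G) = R := (Subgroup.eq_of_le_of_card_ge inf_le_left (by
            rw [hcardP, ← hcardP P]; exact Subgroup.card_le_of_le e)).symm
          exact hP (Sylow.ext (Subgroup.eq_of_le_of_card_ge (h1 ▸ inf_le_right)
            (by rw [hcardP, hcardP])))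
        obtain ⟨y, hy, hyR⟩ := SetLike.exists_of_lt
          (Group.normalizerCondition_of_isNilpotent (R.subgroupOf P) hne'.lt_top)
        refine ⟨y, y.2, hyR, ?_⟩
        rw [Subgroup.mem_normalizer_iff] at hy ⊢
        intro a
        constructor
        · intro ha
          exact (hy ⟨a, hRP ha⟩).1 ha
        · intro ha
          have hm : a ∈ (P : Subgroup G) := by
            have h1 := hRP ha
            have h2 := (P : Subgroup G).mul_mem ((P : Subgroup G).mul_mem
              ((P : Subgroup G).inv_mem y.2) h1) y.2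
            rwa [show (y : G)⁻¹ * (y * a * (y : G)⁻¹) * y = a by group] at h2
          exact (hy ⟨a, hm⟩).2 ha
      obtain ⟨y₁, hy₁P, hy₁R, hy₁N⟩ := hlt P₁ inf_le_left
      obtain ⟨y₂, hy₂P, hy₂R, hy₂N⟩ := hlt P₂ inf_le_right
      set L := Subgroup.normalizer (R : Set G) with hL
      have hLodd := hNodd P₁ R inf_le_left hne
      obtain ⟨M, -, hMp, hMel, -⟩ := exists_pCore (L := L) (p := p) fun r hr hrp hrL =>
        hprimes L hLodd p (fun _ => rfl) r hr hrp (Or.inl hrp) hrL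
      obtain ⟨P₃, hP₃⟩ := hMp.exists_le_sylow
      have hmem : ∀ (P : Sylow p G) (a : G), a ∈ (P : Subgroup G) → a ∈ L →
          a ∈ (P₃ : Subgroup G) := by
        intro P a ha haL
        obtain ⟨i, hi⟩ := P.isPGroup' ⟨a, ha⟩
        exact hP₃ (hMel hp' a haL i (by simpa using congrArg Subtype.val hi))
      have hstep : ∀ (P : Sylow p G) (y : G), R ≤ P → y ∈ (P : Subgroup G) → y ∉ R → y ∈ L →
          P = P₃ := by
        intro P y hRP hyP hyR hyL
        have hR2 : R ≤ (P : Subgroup G) ⊓ P₃ := fun a ha =>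
          ⟨hRP ha, hmem P a (hRP ha) (Subgroup.le_normalizer ha)⟩
        refine ih P P₃ ?_ (fun e => hne (le_bot_iff.1 (hR2.trans e.le)))
        have hlt' : Nat.card R < Nat.card ((P : Subgroup G) ⊓ P₃ : Subgroup G) := by
          by_contra hcon
          have h1 := Subgroup.eq_of_le_of_card_ge hR2 (by omega)
          exact hyR (h1 ▸ ⟨hyP, hmem P y hyP hyL⟩)
        omega
      exact hP ((hstep P₁ y₁ inf_le_left hy₁P hy₁R hy₁N).trans
        (hstep P₂ y₂ inf_le_right hy₂P hy₂R hy₂N).symm)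
  -- the Sylow subgroup
  obtain ⟨P, hP⟩ := hsyl x hx
  have hPC : ∀ c ∈ (P : Subgroup G), c ≠ 1 → Subgroup.centralizer ({c} : Set G) = P := by
    intro c hc hc1
    obtain ⟨Pc, hPc⟩ := hsyl c (hPU P c hc hc1)
    rw [← hPc]
    refine congrArg Sylow.toSubgroup (hTI q Pc P (by omega) fun e => hc1 ?_)
    rw [← Subgroup.mem_bot, ← e]
    exact ⟨hPc ▸ x_mem c, hc⟩
  have hconjP : DTI.conjSet (P : Subgroup G) = U := by
    ext c
    rw [DTI.mem_conjSet]
    constructor
    · rintro ⟨hc1, g, hg⟩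
      refine hPU (g⁻¹ • P) c ?_ hc1
      rw [Sylow.smul_def]
      exact ⟨g * c * g⁻¹, hg, by simp [MulDistribMulAction.toMonoidEnd_apply]; group⟩
    · intro hc
      obtain ⟨Pc, hPc⟩ := hsyl c hc
      obtain ⟨g, hg⟩ := MulAction.exists_smul_eq G Pc P
      refine ⟨ne_one_of_not_inK (hUmem.1 hc).1, g, ?_⟩
      rw [← hg, Sylow.smul_def]
      exact ⟨c, hPc ▸ x_mem c, rfl⟩
  set N := Subgroup.normalizer ((P : Subgroup G) : Set G) with hN
  have hNcard : Nat.card N = q * ρ := by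
    have h1 := congrArg Finset.card hconjP
    rw [card_conjSet_of_cent hPC, hcardP, show q - 1 = 2 * ρ by omega, ← hN] at h1
    have hidx : N.index = 2 * κ := by
      have h2 : N.index * (2 * ρ) = 2 * κ * (2 * ρ) := by
        rw [h1]; nlinarith
      exact mul_right_cancel₀ (by omega) h2
    have h3 := N.card_mul_index
    rw [hidx, hG] at h3
    exact mul_right_cancel₀ (by omega : 2 * κ ≠ 0) (by rw [h3]; ring)
  haveI : ((P : Subgroup G).subgroupOf N).Normal := Subgroup.normal_in_normalizer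
  have hPsub : Nat.card ((P : Subgroup G).subgroupOf N) = q := by
    rw [Nat.card_congr (Subgroup.subgroupOfEquivOfLe Subgroup.le_normalizer).toEquiv, hcardP]
  have hPidx : ((P : Subgroup G).subgroupOf N).index = ρ := by
    have h1 := ((P : Subgroup G).subgroupOf N).card_mul_index
    rw [hPsub, hNcard] at h1
    exact mul_left_cancel₀ (by omega) h1
  obtain ⟨D₀, hD₀⟩ := Subgroup.exists_right_complement'_of_coprime
    (N := (P : Subgroup G).subgroupOf N) (by
      rw [hPsub, hPidx]; exact hqco.coprime_dvd_right (dvd_mul_left ρ (2 * κ)))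
  set D := D₀.map N.subtype with hD
  have hDcard : Nat.card D = ρ := by
    rw [hD, Subgroup.card_map_of_injective N.subtype_injective]
    have h1 := hD₀.card_mul
    rw [hPsub, hNcard] at h1
    exact mul_left_cancel₀ (by omega) h1
  have hρodd : Odd ρ := by
    obtain ⟨k, hk⟩ := h.even_card_K
    exact ⟨k - 1, by omega⟩
  have hDab : ∀ a ∈ D, ∀ b ∈ D, a * b = b * a := by
    obtain ⟨M, -, hM1, -, hMc⟩ := exists_pCore (L := D) (p := 1) fun r hr _ hrD =>
      hprimes D (hDcard.symm ▸ hρodd) 1 (fun h1 => absurd h1 Nat.not_prime_one) r hr hr.one_lt.ne'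
        (Or.inl fun e => by
          subst e
          exact hp'.one_lt.ne' (Nat.eq_one_of_dvd_coprimes
            (hqco.coprime_dvd_right (dvd_mul_left ρ (2 * κ))) hpq (hDcard ▸ hrD))) hrD
    intro a ha b hb
    obtain ⟨k, hk⟩ := hM1 ⟨_, hMc a ha b hb⟩
    rw [one_pow, pow_one] at hk
    have hk' : a * b * a⁻¹ * b⁻¹ = 1 := congrArg Subtype.val hk
    rw [mul_inv_eq_one, mul_inv_eq_iff_eq_mul] at hk'
    exact hk'
  obtain ⟨r, hr, hrρ⟩ := Nat.exists_prime_and_dvd (by omega : ρ ≠ 1)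
  haveI : Fact r.Prime := ⟨hr⟩
  obtain ⟨⟨c, hc⟩, hcr⟩ := exists_prime_orderOf_dvd_card' (G := D) r (hDcard.symm ▸ hrρ)
  rw [Subgroup.orderOf_mk] at hcr
  have hr2 : r ≠ 2 := fun e => by
    subst e; exact Nat.not_even_iff_odd.2 hρodd (even_iff_two_dvd.2 hrρ)
  obtain ⟨g, hg⟩ := exists_conj_mem (hAidx r hr hr2 hrρ) hcr
  have hDA : D.map (MulAut.conj g).toMonoidHom = A := by
    refine Subgroup.eq_of_le_of_card_ge ?_
      (by rw [Subgroup.card_map_of_injective (MulAut.conj g).injective, hDcard, ha₀])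
    rintro _ ⟨d, hd, rfl⟩
    rw [← hAC _ hg fun e => by
      rw [conj_eq_one_iff] at e; rw [e, orderOf_one] at hcr; exact hr.one_lt.ne hcr,
      Subgroup.mem_centralizer_singleton_iff]
    simp only [MulEquiv.toMonoidHom_eq_coe, MonoidHom.coe_coe, MulAut.conj_apply]
    calc g * d * g⁻¹ * (g * c * g⁻¹) = g * (d * c) * g⁻¹ := by group
      _ = g * (c * d) * g⁻¹ := by rw [hDab d hd c hc]
      _ = g * c * g⁻¹ * (g * d * g⁻¹) := by group
  have hDTI' : DTI D (g⁻¹ * u₀ * g) := by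
    have h1 := hDTI.map_conj g⁻¹
    rw [inv_inv] at h1
    convert h1 using 1
    ext d
    rw [mem_map_conj, ← hDA, mem_map_conj,
      show g⁻¹ * (g⁻¹⁻¹ * d * g⁻¹) * g = d by group]
  refine concl_of (Q := (P : Subgroup G)) hDTI' ?_ hPC ?_ ?_ ?_
  · rw [hcardP, hG, show q - 1 = 2 * ρ by omega, show q + 1 = 2 * κ by omega]; ring
  · rw [hDcard, hcardP]
  · rw [hcardP, hDcard, ← hN, hNcard]
  · rintro _ ⟨d, -, rfl⟩
    exact d.2

end CfsgLib.BSW
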