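import Cfsg.Agent.Lib.BSW.Real
import Mathlib.Tactic.IntervalCases

/-!
# The case of a Klein four centralizer
-/

set_option autoImplicit false
set_option linter.style.haveILetI false

namespace CfsgLib.BSW

open Cfsg CfsgLib.Involutions CfsgLib.InvChar Setup

universe u

variable {G : Type u} [Group G] [Fintype G] {K : Subgroup G} {t s : G}

theorem concl_one (h : Setup K t s) (hK : Nat.card K = 2) : Concl G := by
  classical
  set n := (invs G).card with hn
  have hG : Nat.card G = 4 * n := by rw [h.card_G', hK]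
  have hnodd : n % 2 = 1 := by
    have h1 := h.card_K_dvd
    rw [hK, ← hn] at h1
    have := h.n_pos
    omega
  have hE : ∀ x u : G, ¬ InK K x → u ∈ invPairs x →
      Nat.card (Subgroup.normalizer (Subgroup.centralizer ({x} : Set G) : Set G)) =
        Nat.card (Subgroup.centralizer ({x} : Set G)) * 2 := by
    intro x u hx hu
    have hu2 := (mem_invPairs.1 hu).1
    obtain ⟨d, hd⟩ := isConj_iff.1 (h.hconj u t hu2 h.ht)
    rw [h.card_normalizer hx hu]
    congr 1
    set E := Subgroup.normalizer (Subgroup.centralizer ({x} : Set G) : Set G) ⊓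
      Subgroup.centralizer ({u} : Set G)
    refine le_antisymm ?_ ?_
    · rw [← Subgroup.card_map_of_injective (f := (MulAut.conj d).toMonoidHom) (MulAut.conj d).injective,
        ← hK]
      refine Subgroup.card_le_of_le ?_
      rintro _ ⟨e, he, rfl⟩
      exact h.complement_le hx hu hd he.1 (Subgroup.mem_centralizer_singleton_iff.1 he.2)
    · obtain ⟨hinv, -, -, -⟩ := h.real_facts hx hu
      have huE : u ∈ E := by
        refine ⟨Subgroup.mem_normalizer_iff.2 fun c => ⟨fun hc => ?_, fun hc => ?_⟩,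
          Subgroup.mem_centralizer_singleton_iff.2 rfl⟩
        · rw [hinv c hc]; exact Subgroup.inv_mem _ hc
        · have := hinv _ hc
          rw [show u * (u * c * u⁻¹) * u⁻¹ = (u * u) * c * (u * u)⁻¹ by group, mul_self_eq_one hu2,
            one_mul, inv_one, mul_one] at this
          rw [this]; exact Subgroup.inv_mem _ hc
      exact hu2 ▸ Nat.le_of_dvd Nat.card_pos (Subgroup.orderOf_dvd_natCard E huE)
  have hmem : ∀ u : G, u ∈ realSet K → ∀ v ∈ Subgroup.centralizer ({u} : Set G), v ≠ 1 →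
      v ∈ realSet K ∧
        Subgroup.centralizer ({v} : Set G) = Subgroup.centralizer ({u} : Set G) := by
    intro u hu v hv hv1
    obtain ⟨huK, w, hw⟩ := mem_realSet.1 hu
    obtain ⟨hw', hC⟩ := (h.real_facts huK hw).2.2.2 v hv hv1
    exact ⟨mem_realSet.2 ⟨h.not_inK_of_mem huK hv hv1, w, hw'⟩, hC⟩
  have hcl : ∀ g u : G, u ∈ realSet K → g * u * g⁻¹ ∈ realSet K := by
    intro g u hu
    obtain ⟨huK, hne⟩ := mem_realSet.1 hu
    refine mem_realSet.2 ⟨fun e => huK ((Setup.inK_conj u g).1 e), ?_⟩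
    obtain ⟨w, hw⟩ := hne
    refine Finset.card_pos.1 ?_
    rw [Setup.invPairs_conj]
    exact Finset.card_pos.2 ⟨w, hw⟩
  obtain ⟨reps, hreps, hinj, hsum⟩ := exists_reps_sum (realSet K) hcl
    (fun e => (mem_realSet.1 e).1 inK_one) hmem
  have hrep : ∀ A ∈ reps, ∃ x u : G, ¬ InK K x ∧ u ∈ invPairs x ∧
      A = Subgroup.centralizer ({x} : Set G) ∧ 3 ≤ Nat.card A ∧ Nat.card A % 2 = 1 ∧
      (Subgroup.normalizer (A : Set G)).index * Nat.card A = 2 * n := by
    intro A hA
    obtain ⟨x, hx, rfl⟩ := hreps A hA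
    obtain ⟨hxK, u, hu⟩ := mem_realSet.1 hx
    have hodd := Nat.odd_iff.1 (h.odd_centralizer hxK)
    have h1 : 1 < Nat.card (Subgroup.centralizer ({x} : Set G)) :=
      (Subgroup.one_lt_card_iff_ne_bot _).2 fun e =>
        ne_one_of_not_inK hxK (Subgroup.mem_bot.1 (e ▸ x_mem x))
    refine ⟨x, u, hxK, hu, rfl, by omega, hodd, ?_⟩
    have h2 := (Subgroup.normalizer (Subgroup.centralizer ({x} : Set G) : Set G)).card_mul_index
    rw [hE x u hxK hu, hG] at h2
    linarith
  set w : Subgroup G → ℕ := fun A => (Subgroup.normalizer (A : Set G)).index * (Nat.card A - 1)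
  have hwt : ∀ A ∈ reps, 4 * n ≤ 3 * w A := by
    intro A hA
    obtain ⟨x, u, -, -, -, h3, -, hidx⟩ := hrep A hA
    obtain ⟨a, ha⟩ : ∃ a, Nat.card A = a + 3 := ⟨Nat.card A - 3, by omega⟩
    simp only [w]
    rw [ha, show a + 3 - 1 = a + 2 by omega]
    rw [ha] at hidx
    nlinarith
  have hone := hsum fun _ => 1
  simp only [Finset.sum_const, smul_eq_mul, mul_one] at hone
  have hsa : ∑ x ∈ realSet K, Nat.card (Subgroup.centralizer ({x} : Set G)) =
      2 * n * ∑ A ∈ reps, (Nat.card A - 1) := by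
    rw [hsum fun a => a, Finset.mul_sum]
    refine Finset.sum_congr rfl fun A hA => ?_
    obtain ⟨-, -, -, -, -, -, -, hidx⟩ := hrep A hA
    rw [← hidx]; ring
  have hp := h.sum_pairs
  rw [h.card_conjSet_K, hK, ← hn, hsa] at hp
  have hn3 : n = 3 + 2 * ∑ A ∈ reps, (Nat.card A - 1) := by
    refine mul_left_cancel₀ h.n_pos.ne' ?_
    rw [hp]; ring
  have hoff := h.card_off
  rw [hK, ← hn, hG] at hoff
  have hle : (realSet K).card ≤ (Finset.univ.filter fun x : G => ¬ InK K x).card :=
    Finset.card_le_card fun x hx =>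
      Finset.mem_filter.2 ⟨Finset.mem_univ x, (mem_realSet.1 hx).1⟩
  have hcardR : (realSet K).card + (n + 1) ≤ 4 * n := by omega
  have hlt : ∀ S : Finset (Subgroup G), S ⊆ reps → ∑ A ∈ S, w A + (n + 1) ≤ 4 * n := fun S hS =>
    le_trans (Nat.add_le_add_right ((Finset.sum_le_sum_of_subset hS).trans hone.symm.le) _) hcardR
  have hcard2 : reps.card ≤ 2 := by
    by_contra hcon
    have h1 : reps.card * (4 * n) ≤ ∑ A ∈ reps, 3 * w A := by
      rw [← smul_eq_mul, ← Finset.sum_const]
      exact Finset.sum_le_sum hwt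
    rw [← Finset.mul_sum] at h1
    have h2 := hlt reps le_rfl
    nlinarith
  have hco : ∀ A ∈ reps, ∀ B ∈ reps, A ≠ B → Nat.Coprime (Nat.card A) (Nat.card B) := by
    intro A hA B hB hne
    obtain ⟨x, u, hx, hu, rfl, -, -, -⟩ := hrep A hA
    obtain ⟨y, v, hy, hv, rfl, -, -, -⟩ := hrep B hB
    refine Nat.coprime_of_dvd fun p hp' h1 h2 => hne ?_
    haveI : Fact p.Prime := ⟨hp'⟩
    exact hinj _ hA _ hB (h.real_conj_of_prime hx hu hy hv h1 h2)
  rcases (show reps.card = 0 ∨ reps.card = 1 ∨ reps.card = 2 by omega) with h0 | h1 | h2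
  · -- no strongly real element of odd order: `|G| = 12`
    rw [Finset.card_eq_zero] at h0
    rw [h0, Finset.sum_empty] at hn3
    have hn3' : n = 3 := by omega
    rw [hn3'] at hG
    have hR : realSet K = ∅ := by
      rw [← Finset.card_eq_zero, hone, h0, Finset.sum_empty]
    haveI : Fact (Nat.Prime 3) := ⟨Nat.prime_three⟩
    obtain ⟨x, hx⟩ := exists_prime_orderOf_dvd_card' (G := G) 3 (by rw [hG]; norm_num)
    have hthree : ∀ y : G, orderOf y = 3 → ¬ InK K y ∧
        Nat.card (Subgroup.centralizer ({y} : Set G)) = 3 := by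
      intro y hy
      have hyK : ¬ InK K y := by
        rintro ⟨g, hg⟩
        have := Subgroup.orderOf_dvd_natCard K hg
        rw [orderOf_conj_eq, hy, hK] at this
        omega
      refine ⟨hyK, ?_⟩
      have h1 := Subgroup.card_subgroup_dvd_card (Subgroup.centralizer ({y} : Set G))
      rw [hG] at h1
      have h2 : 3 ∣ Nat.card (Subgroup.centralizer ({y} : Set G)) :=
        hy ▸ Subgroup.orderOf_dvd_natCard _ (x_mem y)
      have h3 := Nat.odd_iff.1 (h.odd_centralizer hyK)
      have h4 := Nat.le_of_dvd (by norm_num) h1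
      interval_cases hc : Nat.card (Subgroup.centralizer ({y} : Set G)) <;> omega
    set Q := Subgroup.zpowers x
    have hQ : Nat.card Q = 3 := by rw [Nat.card_zpowers, hx]
    have hQC : ∀ y ∈ Q, y ≠ 1 → Subgroup.centralizer ({y} : Set G) = Q := by
      intro y hy hy1
      have hy3 : orderOf y = 3 := by
        rcases (Nat.dvd_prime Nat.prime_three).1 (hQ ▸ Subgroup.orderOf_dvd_natCard Q hy) with e | e
        · exact absurd (orderOf_eq_one_iff.1 e) hy1
        · exact e
      refine (Subgroup.eq_of_le_of_card_ge ?_ (by rw [(hthree y hy3).2, hQ])).symm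
      rintro z ⟨i, rfl⟩
      obtain ⟨j, rfl⟩ := hy
      exact Subgroup.mem_centralizer_singleton_iff.2 (zpow_mul_comm x i j)
    set N := Subgroup.normalizer (Q : Set G) with hN
    have hNodd : ¬ 2 ∣ Nat.card N := by
      intro hd
      haveI : Fact (Nat.Prime 2) := ⟨Nat.prime_two⟩
      obtain ⟨⟨v, hv⟩, hv2⟩ := exists_prime_orderOf_dvd_card' (G := N) 2 hd
      rw [Subgroup.orderOf_mk] at hv2
      have hxK := (hthree x hx).1
      have hinv := inverts_of_fixedPointFree hv2
        (fun a ha => (Subgroup.mem_normalizer_iff.1 hv a).1 ha)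
        (fun a ha hav => by_contra fun ha1 => h.not_inK_of_mem hxK
          (by rw [hQC x (Subgroup.mem_zpowers x) (ne_one_of_not_inK hxK)]; exact ha) ha1
          (h.inK_of_commute hv2 hav))
      have hvR : x ∈ realSet K := by
        refine mem_realSet.2 ⟨hxK, v, mem_invPairs_iff_inverts.2
          ⟨hv2, fun e => hxK ?_, hinv x (Subgroup.mem_zpowers x)⟩⟩
        rw [← inv_eq_of_mul_eq_one_right e, inK_inv]
        exact h.inK_of_involution hv2
      rw [hR] at hvR
      exact Finset.notMem_empty x hvR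
    have hNc : Nat.card N = 3 := by
      have h1 := N.card_subgroup_dvd_card
      rw [hG] at h1
      have h2 : 3 ∣ Nat.card N := hQ ▸ Subgroup.card_dvd_of_le Subgroup.le_normalizer
      have h4 := Nat.le_of_dvd (by norm_num) h1
      interval_cases hc : Nat.card N <;> omega
    refine concl_of (DTI.of_bot h.ht) (Q := Q) ?_ hQC ?_ ?_ bot_le
    · rw [hQ, hG]
    · rw [hQ, Subgroup.card_bot]
    · rw [hQ, Subgroup.card_bot, ← hN, hNc]
  · exfalso
    obtain ⟨A, hA⟩ := Finset.card_eq_one.1 h1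
    rw [hA, Finset.sum_singleton] at hn3
    obtain ⟨-, -, -, -, -, h3, hodd, hidx⟩ := hrep A (hA ▸ Finset.mem_singleton_self A)
    have hd : Nat.card A ∣ 2 * n := ⟨_, (mul_comm _ _).trans hidx |>.symm⟩
    have hd2 : Nat.card A ∣ 2 * n - Nat.card A * 4 :=
      Nat.dvd_sub hd (dvd_mul_right _ _)
    rw [show 2 * n - Nat.card A * 4 = 2 by omega] at hd2
    have := Nat.le_of_dvd two_pos hd2
    omega
  · obtain ⟨A, B, hne, hAB⟩ := Finset.card_eq_two.1 h2
    have hA : A ∈ reps := hAB ▸ Finset.mem_insert_self A _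
    have hB : B ∈ reps := hAB ▸ Finset.mem_insert_of_mem (Finset.mem_singleton_self B)
    have hcop := hco A hA B hB hne
    have hw := hlt {A, B} (hAB ▸ le_rfl)
    rw [Finset.sum_pair hne] at hw
    rw [hAB, Finset.sum_pair hne] at hn3
    obtain ⟨x, u, hx, hu, hAx, hA3, hAodd, hAidx⟩ := hrep A hA
    obtain ⟨y, v, hy, hv, hBy, hB3, hBodd, hBidx⟩ := hrep B hB
    obtain ⟨a', ha⟩ : ∃ a', Nat.card A = a' + 1 := ⟨Nat.card A - 1, by omega⟩
    obtain ⟨b', hb⟩ : ∃ b', Nat.card B = b' + 1 := ⟨Nat.card B - 1, by omega⟩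
    rw [ha] at hA3 hAodd hAidx hcop
    rw [hb] at hB3 hBodd hBidx hcop
    simp only [w, ha, hb, Nat.add_sub_cancel] at hw
    rw [ha, hb, Nat.add_sub_cancel, Nat.add_sub_cancel] at hn3
    have hprod : 2 * (a' * (b' + 1) + b' * (a' + 1)) < 3 * ((a' + 1) * (b' + 1)) := by
      have h5 := congrArg (· * (b' + 1) * a') hAidx
      have h6 := congrArg (· * (a' + 1) * b') hBidx
      refine Nat.lt_of_mul_lt_mul_left (a := n) ?_
      nlinarith [Nat.mul_le_mul_right ((a' + 1) * (b' + 1)) hw]
    have hsmall : (a' + 1 = 3 ∧ b' + 1 = 5) ∨ (a' + 1 = 5 ∧ b' + 1 = 3) := by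
      rcases (show a' = 2 ∨ 4 ≤ a' by omega) with e | e
      · rcases (show b' = 2 ∨ 4 ≤ b' by omega) with e' | e'
        · subst e; subst e'; norm_num at hcop
        · subst e; left; omega
      · rcases (show b' = 2 ∨ 4 ≤ b' by omega) with e' | e'
        · subst e'; right; omega
        · nlinarith [Nat.mul_le_mul e e']
    have finish : ∀ z z' : G, ¬ InK K z → z' ∈ invPairs z →
        Nat.card (Subgroup.centralizer ({z} : Set G)) = 5 → Concl G := by
      intro z z' hz hz' hc
      refine h.concl_of_real hz hz' ?_ ?_ ?_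
      · rw [hE z z' hz hz', hK]
      · rw [hK, hc]
      · rw [hc, hG]; omega
    rcases hsmall with ⟨e1, e2⟩ | ⟨e1, e2⟩
    · exact finish y v hy hv (by rw [← hBy, hb, e2])
    · exact finish x u hx hu (by rw [← hAx, ha, e1])

end CfsgLib.BSW
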