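import Cfsg.Agent.Lib.BSW.Plus
import Cfsg.Agent.Lib.BSW.Minus
import Cfsg.Agent.Lib.BSW.One

/-!
# The Brauer–Suzuki–Wall theorem, abstract form
-/

set_option autoImplicit false

namespace CfsgLib.BSW

universe u

variable {G : Type u} [Group G] [Finite G] {K : Subgroup G} {t s : G}

theorem concl_of_setup (h : Setup K t s) : Concl G := by
  haveI := Fintype.ofFinite G
  by_cases h2 : Nat.card K = 2
  · exact concl_one h h2
  · have hK := h.four_le h2
    obtain ⟨Fam⟩ := h.nonempty_family hK
    rcases (Fam.B_eq h).1 with hB | hB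
    · exact concl_plus h Fam hB
    · exact concl_minus h Fam hK hB

end CfsgLib.BSW
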