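import Cfsg.Agent.Lib.BSW.Real

/-!
# The case `q = 2|K| + 1`
-/

set_option autoImplicit false
set_option linter.style.haveILetI false

namespace CfsgLib.BSW

open Cfsg CfsgLib.Involutions CfsgLib.InvChar Setup

universe u

variable {G : Type u} [Group G] [Fintype G] {K : Subgroup G} {t s : G}

theorem concl_plus (h : Setup K t s) (Fam : Family (G := G) K t)
    (hB : Fam.B = 2 * Nat.card K + 1) : Concl G := by
  classical
  set κ := Nat.card K with hκ
  set n := (invs G).card with hn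
  have hκ2 : 2 ≤ κ := Nat.le_of_dvd Nat.card_pos h.even_card_K
  have hall : ∀ x : G, ¬ InK K x → ∃ z : ℤ, ∃ u, Fam.b x = z ∧ u ∈ invPairs x ∧
      (Nat.card (Subgroup.centralizer ({x} : Set G)) : ℤ) = 2 * κ + 1 + κ * z := by
    intro x hx
    obtain ⟨z, hz, hN⟩ := Fam.count_pos h hB hx
    have hne : (invPairs x).card ≠ 0 := by
      intro e
      rw [e, Nat.cast_zero] at hN
      have hd : (κ : ℤ) ∣ 1 := ⟨-2 - z, by linarith⟩
      have := Int.le_of_dvd one_pos hd
      omega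
    obtain ⟨u, hu⟩ := Finset.card_ne_zero.1 hne
    refine ⟨z, u, hz, hu, ?_⟩
    rw [← (h.real_facts hx hu).2.2.1]
    exact hN
  have hcase : ∀ x : G, ¬ InK K x →
      Nat.card (Subgroup.centralizer ({x} : Set G)) = 2 * κ + 1 ∨
      Nat.card (Subgroup.centralizer ({x} : Set G)) = κ + 1 := by
    intro x hx
    obtain ⟨z, u, hz, hu, ha⟩ := hall x hx
    set A := Subgroup.centralizer ({x} : Set G) with hA
    have ha2 : 1 < Nat.card A := (Subgroup.one_lt_card_iff_ne_bot A).2 fun e =>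
      Setup.ne_one_of_not_inK hx (Subgroup.mem_bot.1 (e ▸ Setup.x_mem x))
    have hconst : ∀ c ∈ A, c ≠ 1 → Fam.b c = z := by
      intro c hc hc1
      obtain ⟨hu', hC⟩ := (h.real_facts hx hu).2.2.2 c hc hc1
      obtain ⟨z', u', hz', -, ha'⟩ := hall c (h.not_inK_of_mem hx hc hc1)
      rw [hC, ha] at ha'
      have : z' = z := mul_left_cancel₀ (by omega : (κ : ℤ) ≠ 0) (by linarith)
      rw [hz', this]
    have hdvd := Fam.card_dvd A hconst
    rw [ha, hB] at hdvd
    have hb := Fam.bound_int hx hz ∅ (by simp)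
    rw [Finset.sum_empty, add_zero, show ((Nat.card A : ℕ) : ℝ) = ((Nat.card A : ℤ) : ℝ) by simp,
      ha] at hb
    push_cast at hb
    have hb' : 2 + 2 * z ^ 2 + ((κ : ℤ) - 1) * (1 + z) ^ 2 ≤ 4 * κ + 2 + 2 * κ * z := by
      have : (2 + 2 * (z : ℝ) ^ 2 + ((κ : ℝ) - 1) * (1 + (z : ℝ)) ^ 2) ≤
          4 * (κ : ℝ) + 2 + 2 * κ * z := by rw [← hκ] at hb; linarith
      exact_mod_cast this
    have hlo : -1 ≤ z := by
      by_contra hc
      have : (κ : ℤ) * z ≤ κ * (-2) := mul_le_mul_of_nonneg_left (by omega) (by omega)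
      omega
    have hhi : z ≤ 1 := by
      by_contra hc
      have h1 : 2 ≤ z := by omega
      nlinarith [mul_nonneg (by omega : (0 : ℤ) ≤ (κ : ℤ) + 1) (mul_nonneg (by omega : (0 : ℤ) ≤ z - 2)
        (by omega : (0 : ℤ) ≤ z))]
    rcases (show z = -1 ∨ z = 0 ∨ z = 1 by omega) with rfl | rfl | rfl
    · right; omega
    · left; omega
    · exfalso
      have := Int.le_of_dvd (by omega) hdvd
      omega
  -- counting
  have hn2 : (n : ℤ) = (2 * (κ : ℤ) + 1) * (κ + 1) := by
    have := (Fam.B_eq h).2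
    rw [hB] at this
    linarith
  have hoff := h.card_off
  have hR : realSet K = Finset.univ.filter fun x : G => ¬ InK K x := by
    ext x
    rw [Setup.mem_realSet, Finset.mem_filter, and_iff_right (Finset.mem_univ x)]
    exact ⟨fun hx => hx.1, fun hx => ⟨hx, by
      obtain ⟨z, u, -, hu, -⟩ := hall x hx; exact ⟨u, hu⟩⟩⟩
  rw [← hR, h.card_G', ← hκ, ← hn] at hoff
  have hp := h.sum_pairs
  rw [h.card_conjSet_K, ← hκ, ← hn] at hp
  set a : G → ℕ := fun x => Nat.card (Subgroup.centralizer ({x} : Set G))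
  have hsum : ∑ x ∈ realSet K, a x =
      (2 * κ + 1) * ((realSet K).filter fun x => a x = 2 * κ + 1).card +
      (κ + 1) * ((realSet K).filter fun x => ¬ a x = 2 * κ + 1).card := by
    rw [← Finset.sum_filter_add_sum_filter_not (realSet K) (fun x => a x = 2 * κ + 1),
      Finset.sum_congr rfl (g := fun _ => 2 * κ + 1) fun x hx => (Finset.mem_filter.1 hx).2,
      Finset.sum_congr rfl (g := fun _ => κ + 1) fun x hx =>
        (hcase x (Setup.mem_realSet.1 (Finset.mem_filter.1 hx).1).1).resolve_left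
          (Finset.mem_filter.1 hx).2,
      Finset.sum_const, Finset.sum_const, smul_eq_mul, smul_eq_mul]
    ring
  have hsplit := Finset.card_filter_add_card_filter_not (s := realSet K)
    (fun x : G => a x = 2 * κ + 1)
  set R1 := (realSet K).filter fun x => a x = 2 * κ + 1 with hR1
  set R2 := (realSet K).filter fun x => ¬ a x = 2 * κ + 1
  rw [← hsplit] at hoff
  rw [hsum] at hp
  have hoff' : (1 : ℤ) + n * (κ - 1) + (R1.card + R2.card) = 2 * κ * n := by
    have h1 := congrArg (Nat.cast (R := ℤ)) hoff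
    push_cast [Nat.cast_sub (show 1 ≤ κ by omega)] at h1
    linarith
  have hp' : (n : ℤ) * n = n + n * (κ - 1) * κ +
      ((2 * κ + 1) * R1.card + (κ + 1) * R2.card) := by
    have h1 := congrArg (Nat.cast (R := ℤ)) hp
    push_cast [Nat.cast_sub (show 1 ≤ κ by omega)] at h1
    linarith
  have hR1c : (R1.card : ℤ) = (2 * (κ : ℤ) + 1) ^ 2 - 1 := by
    refine mul_left_cancel₀ (by omega : (κ : ℤ) ≠ 0) ?_
    rw [hn2] at hp' hoff'
    linear_combination ((κ : ℤ) + 1) * (-hoff') - hp'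
  obtain ⟨x₀, hx₀⟩ : R1.Nonempty := by
    rw [← Finset.card_pos]
    have : (0 : ℤ) < (R1.card : ℤ) := by rw [hR1c]; nlinarith
    exact_mod_cast this
  rw [hR1, Finset.mem_filter, Setup.mem_realSet] at hx₀
  obtain ⟨⟨hx₀K, u₀, hu₀⟩, ha₀⟩ := hx₀
  have hconj := h.realSet_eq_conjSet hx₀K hu₀ ha₀ (by omega)
  have hcnt := congrArg Finset.card hconj
  rw [card_conjSet_of_cent fun c hc hc1 => ((h.real_facts hx₀K hu₀).2.2.2 c hc hc1).2] at hcnt
  change R1.card = _ at hcnt
  rw [show Nat.card (Subgroup.centralizer ({x₀} : Set G)) = 2 * κ + 1 from ha₀] at hcnt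
  set N := Subgroup.normalizer (Subgroup.centralizer ({x₀} : Set G) : Set G) with hN
  have hidx : (N.index : ℤ) = 2 * ((κ : ℤ) + 1) := by
    refine mul_left_cancel₀ (by omega : (2 * κ : ℤ) ≠ 0) ?_
    have h1 := congrArg (Nat.cast (R := ℤ)) hcnt
    rw [hR1c] at h1
    rw [Nat.add_sub_cancel] at h1
    push_cast at h1
    linear_combination -h1
  have hcardN : Nat.card N = (2 * κ + 1) * κ := by
    have h1 := congrArg (Nat.cast (R := ℤ)) N.card_mul_index
    rw [h.card_G', ← hκ, ← hn] at h1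
    push_cast at h1
    rw [hidx, hn2] at h1
    have : (Nat.card N : ℤ) = (2 * (κ : ℤ) + 1) * κ :=
      mul_right_cancel₀ (by omega : (2 * ((κ : ℤ) + 1)) ≠ 0) (by rw [h1]; ring)
    exact_mod_cast this
  refine h.concl_of_real hx₀K hu₀ (hcardN.trans ?_) ha₀.symm ?_
  · rw [show Nat.card (Subgroup.centralizer ({x₀} : Set G)) = 2 * κ + 1 from ha₀]
  · rw [show Nat.card (Subgroup.centralizer ({x₀} : Set G)) = 2 * κ + 1 from ha₀, h.card_G',
      ← hκ, ← hn, Nat.add_sub_cancel]
    have : ((2 * (2 * κ * n) : ℕ) : ℤ) = (((2 * κ + 1) * (2 * κ + 1 + 1) * (2 * κ) : ℕ) : ℤ) := by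
      push_cast; rw [hn2]; ring
    exact_mod_cast this

end CfsgLib.BSW
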