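import Cfsg.Agent.Lib.BSW.Counting
import Cfsg.Agent.Lib.BSW.Family
import Cfsg.Agent.Lib.Characters.Galois

/-!
# Consequences shared by the cases of the Brauer–Suzuki–Wall theorem
-/

set_option autoImplicit false
set_option linter.style.haveILetI false

namespace CfsgLib.BSW

open Cfsg CfsgLib.Involutions CfsgLib.InvChar CfsgLib.Characters
open scoped ComplexConjugate

universe u

variable {G : Type u} [Group G] [Fintype G] {K : Subgroup G} {t s : G}

omit [Fintype G] in
theorem inK_inv {x : G} : InK K x⁻¹ ↔ InK K x := by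
  constructor
  · rintro ⟨g, hg⟩
    refine ⟨g, ?_⟩
    have := K.inv_mem hg
    rwa [show (g * x⁻¹ * g⁻¹)⁻¹ = g * x * g⁻¹ by group] at this
  · rintro ⟨g, hg⟩
    refine ⟨g, ?_⟩
    have := K.inv_mem hg
    rwa [show (g * x * g⁻¹)⁻¹ = g * x⁻¹ * g⁻¹ by group] at this

namespace Setup

omit [Fintype G] in
theorem four_le (h : Setup K t s) [Finite G] (h2 : Nat.card K ≠ 2) : 4 ≤ Nat.card K := by
  obtain ⟨k, hk⟩ := h.even_card_K
  have := Nat.card_pos (α := K)
  omega

theorem n_pos (h : Setup K t s) : 0 < (invs G).card :=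
  Finset.card_pos.2 ⟨t, mem_invs.2 h.ht⟩

theorem card_G' (h : Setup K t s) : Nat.card G = 2 * Nat.card K * (invs G).card := by
  rw [h.card_G, h.card_invs]

theorem index_K (h : Setup K t s) : K.index = 2 * (invs G).card := by
  have h1 := K.card_mul_index
  rw [h.card_G', mul_comm 2, mul_assoc] at h1
  exact mul_left_cancel₀ Nat.card_pos.ne' h1

/-- An odd prime divisor of `|K|` does not divide the index of `K`. -/
theorem not_dvd_index_K (h : Setup K t s) {r : ℕ} (hr : r.Prime) (hr2 : r ≠ 2)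
    (hrK : r ∣ Nat.card K) : ¬ r ∣ K.index := by
  rw [h.index_K]
  intro hd
  have h1 := (hr.dvd_mul.1 hd).resolve_left fun e =>
    hr2 ((Nat.prime_dvd_prime_iff_eq hr Nat.prime_two).1 e)
  have h2 := hrK.trans h.card_K_dvd
  have h3 : r ∣ (invs G).card + 2 * Nat.card K := h1.add (hrK.mul_left 2)
  have hpos := h.n_pos
  have h4 : r ∣ 1 := by
    have := Nat.dvd_sub h3 h2
    rwa [show (invs G).card + 2 * Nat.card K - ((invs G).card + 2 * Nat.card K - 1) = 1 by omega]
      at this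
  exact hr.one_lt.ne' (Nat.dvd_one.1 h4)

/-- The partition of `G` into `1`, the conjugates of `K#` and the rest. -/
theorem card_off (h : Setup K t s) [DecidablePred fun x : G => ¬ InK K x] :
    1 + (invs G).card * (Nat.card K - 1) +
      (Finset.univ.filter fun x : G => ¬ InK K x).card = Nat.card G := by
  classical
  rw [← h.card_conjSet_K, Nat.card_eq_fintype_card, ← Finset.card_univ]
  have h1 : (Finset.univ.filter fun x : G => InK K x) = insert 1 (DTI.conjSet K) := by
    ext x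
    simp only [Finset.mem_filter, Finset.mem_univ, true_and, Finset.mem_insert, DTI.mem_conjSet]
    constructor
    · intro hx
      exact or_iff_not_imp_left.2 fun h1 => ⟨h1, hx⟩
    · rintro (rfl | ⟨-, hx⟩)
      exacts [Setup.inK_one, hx]
  have h2 := Finset.card_filter_add_card_filter_not (s := (Finset.univ : Finset G))
    (fun x : G => InK K x)
  rw [h1, Finset.card_insert_of_notMem (fun e => (DTI.mem_conjSet.1 e).1 rfl)] at h2
  rw [← h2, add_comm (DTI.conjSet K).card 1]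

theorem invPairs_eq_zero (h : Setup K t s) {x : G} (hx : ¬ InK K x) (hR : x ∉ realSet K) :
    (invPairs x).card = 0 := by
  rw [Finset.card_eq_zero, Finset.eq_empty_iff_forall_notMem]
  exact fun v hv => hR (mem_realSet.2 ⟨hx, v, hv⟩)

/-- Strongly real elements with a centralizer of the same order are the conjugates of `A#`. -/
theorem realSet_eq_conjSet (h : Setup K t s) {x₀ u₀ : G} (hx₀ : ¬ InK K x₀) (hu₀ : u₀ ∈ invPairs x₀)
    {a : ℕ} (ha : Nat.card (Subgroup.centralizer ({x₀} : Set G)) = a) (ha1 : a ≠ 1)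
    [DecidablePred fun y : G => Nat.card (Subgroup.centralizer ({y} : Set G)) = a] :
    (realSet K).filter (fun y => Nat.card (Subgroup.centralizer ({y} : Set G)) = a) =
      DTI.conjSet (Subgroup.centralizer ({x₀} : Set G)) := by
  obtain ⟨p, hp, hpa⟩ := Nat.exists_prime_and_dvd ha1
  haveI : Fact p.Prime := ⟨hp⟩
  obtain ⟨-, -, -, hy⟩ := h.real_facts hx₀ hu₀
  ext y
  rw [Finset.mem_filter, DTI.mem_conjSet, mem_realSet]
  constructor
  · rintro ⟨⟨hyK, v, hv⟩, hya⟩
    obtain ⟨g, hg⟩ := h.real_conj_of_prime hyK hv hx₀ hu₀ (hya ▸ hpa) (ha ▸ hpa)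
    refine ⟨Setup.ne_one_of_not_inK hyK, g, ?_⟩
    rw [← hg]
    exact ⟨y, Setup.x_mem y, rfl⟩
  · rintro ⟨hy1, g, hg⟩
    have hne : g * y * g⁻¹ ≠ 1 := fun e => hy1 (conj_eq_one_iff.1 e)
    obtain ⟨hu', hC⟩ := hy _ hg hne
    have hK : ¬ InK K y := fun e =>
      h.not_inK_of_mem hx₀ hg hne ((Setup.inK_conj y g).2 e)
    have hne' : (invPairs y).Nonempty := by
      rw [← Finset.card_pos, ← Setup.invPairs_conj y g, Finset.card_pos]
      exact ⟨u₀, hu'⟩
    refine ⟨⟨hK, hne'⟩, ?_⟩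
    have : (Subgroup.centralizer ({y} : Set G)).map (MulAut.conj g).toMonoidHom =
        Subgroup.centralizer ({g * y * g⁻¹} : Set G) := by
      ext b
      rw [mem_map_conj, Subgroup.mem_centralizer_singleton_iff,
        Subgroup.mem_centralizer_singleton_iff]
      constructor
      · intro e
        calc b * (g * y * g⁻¹) = g * (g⁻¹ * b * g * y) * g⁻¹ := by group
          _ = g * (y * (g⁻¹ * b * g)) * g⁻¹ := by rw [e]
          _ = g * y * g⁻¹ * b := by group
      · intro e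
        calc g⁻¹ * b * g * y = g⁻¹ * (b * (g * y * g⁻¹)) * g := by group
          _ = g⁻¹ * (g * y * g⁻¹ * b) * g := by rw [e]
          _ = y * (g⁻¹ * b * g) := by group
    rw [← ha, ← hC, ← this, Subgroup.card_map_of_injective (MulAut.conj g).injective]

/-- The finish when the complement of `A = C(x)` in its normalizer is a conjugate of `K`. -/
theorem concl_of_real (h : Setup K t s) {x u : G} (hx : ¬ InK K x) (hu : u ∈ invPairs x)
    (hN : Nat.card (Subgroup.normalizer (Subgroup.centralizer ({x} : Set G) : Set G)) =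
      Nat.card (Subgroup.centralizer ({x} : Set G)) * Nat.card K)
    (hq : 2 * Nat.card K + 1 = Nat.card (Subgroup.centralizer ({x} : Set G)))
    (hG : 2 * Nat.card G = Nat.card (Subgroup.centralizer ({x} : Set G)) *
      (Nat.card (Subgroup.centralizer ({x} : Set G)) + 1) *
      (Nat.card (Subgroup.centralizer ({x} : Set G)) - 1)) : Concl G := by
  set A := Subgroup.centralizer ({x} : Set G) with hA
  obtain ⟨d, hd⟩ := isConj_iff.1 (h.hconj u t (mem_invPairs.1 hu).1 h.ht)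
  have hE := h.card_normalizer hx hu
  rw [← hA, hN] at hE
  set E := Subgroup.normalizer (A : Set G) ⊓ Subgroup.centralizer ({u} : Set G) with hEdef
  have hEK : E.map (MulAut.conj d).toMonoidHom = K := by
    refine Subgroup.eq_of_le_of_card_ge ?_ ?_
    · rintro _ ⟨e, he, rfl⟩
      exact h.complement_le hx hu hd he.1 (Subgroup.mem_centralizer_singleton_iff.1 he.2)
    · rw [Subgroup.card_map_of_injective (MulAut.conj d).injective]
      exact (mul_left_cancel₀ Nat.card_pos.ne' hE).le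
  refine concl_of (Q := A) (D := K.map (MulAut.conj d⁻¹).toMonoidHom) (h.dti.map_conj d⁻¹) hG
    (fun y hy hy1 => ((h.real_facts hx hu).2.2.2 y hy hy1).2) ?_ ?_ ?_
  · rw [Subgroup.card_map_of_injective (MulAut.conj d⁻¹).injective, hq]
  · rw [Subgroup.card_map_of_injective (MulAut.conj d⁻¹).injective, hN]
  · intro y hy
    rw [mem_map_conj, ← hEK] at hy
    obtain ⟨e, he, he'⟩ := hy
    have : e = y := by
      simp only [MulEquiv.toMonoidHom_eq_coe, MonoidHom.coe_coe, MulAut.conj_apply] at he'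
      calc e = d⁻¹ * (d * e * d⁻¹) * d := by group
        _ = d⁻¹ * (d⁻¹⁻¹ * y * d⁻¹) * d := by rw [he']
        _ = y := by group
    exact this ▸ he.1

end Setup

namespace Family

variable (Fam : Family (G := G) K t)

/-- The signed value of the common constituent. -/
noncomputable def b (x : G) : ℂ := (Fam.ε : ℂ) * (Fam.ψ : G → ℂ) x

theorem isIntegral_b (x : G) : IsIntegral ℤ (Fam.b x) :=
  isIntegral_algebraMap.mul (isIntegral_of_isCharacter (irr_isCharacter Fam.ψ) x)

theorem exists_int_b {x : G} {r : ℚ} (hr : conj (Fam.b x) = (r : ℂ)) :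
    ∃ z : ℤ, Fam.b x = z ∧ (z : ℚ) = r := by
  have h1 : Fam.b x = (r : ℂ) := by
    rw [← Complex.conj_conj (Fam.b x), hr, map_ratCast]
  obtain ⟨z, hz⟩ := exists_int_of_isIntegral_rat (h1 ▸ Fam.isIntegral_b x)
  exact ⟨z, by rw [h1, ← hz, Rat.cast_intCast], hz⟩

theorem count' (h : Setup K t s) {x : G} (hx : ¬ InK K x) :
    4 * (Nat.card K : ℂ) * ((invPairs x).card : ℂ) = (Fam.B : ℂ) * ((Fam.B : ℂ) + 1) +
      conj (Fam.b x) * ((Fam.B : ℂ) + 1) +
      (2 * (Nat.card K : ℂ) - 2) * (1 + conj (Fam.b x)) * (Fam.B : ℂ) := by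
  have h1 := Fam.count x hx
  have h2 : 2 * ((invs G).card : ℂ) = (Fam.B : ℂ) * ((Fam.B : ℂ) + 1) := by
    exact_mod_cast (Fam.B_eq h).2
  have hB : (Fam.B : ℂ) ≠ 0 := by exact_mod_cast Fam.B_ne
  have hB' : (Fam.B : ℂ) + 1 ≠ 0 := by exact_mod_cast Fam.B_ne'
  change 2 * (Nat.card K : ℂ) * ((invPairs x).card : ℂ) = ((invs G).card : ℂ) *
      (1 + conj (Fam.b x) / Fam.B +
        (2 * (Nat.card K : ℂ) - 2) * (1 + conj (Fam.b x)) / ((Fam.B : ℂ) + 1)) at h1
  calc 4 * (Nat.card K : ℂ) * ((invPairs x).card : ℂ)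
      = 2 * (2 * (Nat.card K : ℂ) * ((invPairs x).card : ℂ)) := by ring
    _ = _ := by rw [h1, ← mul_assoc, h2]; field_simp

theorem count_pos (h : Setup K t s) (hB : Fam.B = 2 * Nat.card K + 1) {x : G} (hx : ¬ InK K x) :
    ∃ z : ℤ, Fam.b x = z ∧
      ((invPairs x).card : ℤ) = 2 * (Nat.card K : ℤ) + 1 + Nat.card K * z := by
  have h1 := Fam.count' h hx
  rw [hB] at h1
  push_cast at h1
  have hK : (Nat.card K : ℂ) ≠ 0 := Nat.cast_ne_zero.2 Nat.card_pos.ne'
  have h2 : conj (Fam.b x) =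
      ((((invPairs x).card : ℚ) - 2 * Nat.card K - 1) / Nat.card K : ℚ) := by
    push_cast
    rw [eq_div_iff hK]
    refine mul_left_cancel₀ (mul_ne_zero (by norm_num : (4 : ℂ) ≠ 0) hK) ?_
    linear_combination -h1
  obtain ⟨z, hz, hz'⟩ := Fam.exists_int_b h2
  refine ⟨z, hz, ?_⟩
  rw [eq_div_iff (Nat.cast_ne_zero.2 Nat.card_pos.ne')] at hz'
  have : (((invPairs x).card : ℤ) : ℚ) =
      ((2 * (Nat.card K : ℤ) + 1 + Nat.card K * z : ℤ) : ℚ) := by push_cast; linarith
  exact_mod_cast this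

theorem count_neg (h : Setup K t s) (hK4 : 4 ≤ Nat.card K) (hB : Fam.B = 1 - 2 * Nat.card K)
    {x : G} (hx : ¬ InK K x) :
    ∃ z : ℤ, Fam.b x = z ∧ ((invPairs x).card : ℤ) = -((Nat.card K : ℤ) - 1) * z := by
  have h1 := Fam.count' h hx
  rw [hB] at h1
  push_cast at h1
  have hK : (Nat.card K : ℂ) ≠ 0 := Nat.cast_ne_zero.2 Nat.card_pos.ne'
  have hK1 : (Nat.card K : ℂ) - 1 ≠ 0 := by
    rw [sub_ne_zero]; exact_mod_cast (by omega : Nat.card K ≠ 1)
  have h2 : conj (Fam.b x) = ((-((invPairs x).card : ℚ)) / ((Nat.card K : ℚ) - 1) : ℚ) := by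
    push_cast
    rw [eq_div_iff hK1]
    refine mul_left_cancel₀ (mul_ne_zero (by norm_num : (4 : ℂ) ≠ 0) hK) ?_
    linear_combination h1
  obtain ⟨z, hz, hz'⟩ := Fam.exists_int_b h2
  refine ⟨z, hz, ?_⟩
  have hK1' : (Nat.card K : ℚ) - 1 ≠ 0 := by
    rw [sub_ne_zero]; exact_mod_cast (by omega : Nat.card K ≠ 1)
  rw [eq_div_iff hK1'] at hz'
  have : (((invPairs x).card : ℤ) : ℚ) = ((-((Nat.card K : ℤ) - 1) * z : ℤ) : ℚ) := by
    push_cast; linarith
  exact_mod_cast this

/-- Restriction to a subgroup on which the common constituent is constant off `1`. -/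
theorem card_dvd (A : Subgroup G) {z : ℤ} (hz : ∀ c ∈ A, c ≠ 1 → Fam.b c = z) :
    (Nat.card A : ℤ) ∣ Fam.B - z := by
  classical
  obtain ⟨m, hm⟩ := classInner_char_nat (CfsgLib.CharGalois.isCharacter_comp (irr_isCharacter Fam.ψ) A.subtype)
    (isCharacter_one (G := A))
  have hc : (Nat.card A : ℂ) ≠ 0 := Nat.cast_ne_zero.2 Nat.card_pos.ne'
  rw [classInner, inv_mul_eq_iff_eq_mul₀ hc] at hm
  simp only [Pi.one_apply, map_one, mul_one] at hm
  have hsum : ∑ a : A, Fam.b (a : G) = (Fam.ε : ℂ) * ((Nat.card A : ℂ) * m) := by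
    rw [← hm, Finset.mul_sum]
    exact Finset.sum_congr rfl fun a _ => rfl
  rw [← Finset.add_sum_erase Finset.univ _ (Finset.mem_univ (1 : A)),
    Finset.sum_congr rfl (g := fun _ : A => (z : ℂ)) (fun (a : A) ha => hz a a.2 fun e =>
      (Finset.mem_erase.1 ha).1 (Subtype.ext e)), Finset.sum_const,
    Finset.card_erase_of_mem (Finset.mem_univ _), Finset.card_univ, ← Nat.card_eq_fintype_card,
    nsmul_eq_mul, Nat.cast_sub Nat.card_pos] at hsum
  have hb1 : Fam.b ((1 : A) : G) = Fam.B := Fam.ψ_one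
  rw [hb1] at hsum
  refine ⟨Fam.ε * m - z, ?_⟩
  have : ((Fam.B - z : ℤ) : ℂ) = (((Nat.card A : ℤ) * (Fam.ε * m - z) : ℤ) : ℂ) := by
    push_cast at hsum ⊢
    linear_combination hsum
  exact_mod_cast this

theorem bound_int {x : G} (hx : ¬ InK K x) {z : ℤ} (hz : Fam.b x = z)
    (T : Finset (IrrCharacter G)) (hT : ∀ χ ∈ T, (χ : G → ℂ) t = 0) :
    1 + (z : ℝ) ^ 2 + ((Nat.card K : ℝ) - 1) / 2 * (1 + (z : ℝ)) ^ 2 +
      ∑ χ ∈ T, ‖(χ : G → ℂ) x‖ ^ 2 ≤ (Nat.card (Subgroup.centralizer ({x} : Set G)) : ℝ) := by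
  have h1 := Fam.bound x hx T hT
  rw [show (Fam.ε : ℂ) * (Fam.ψ : G → ℂ) x = z from hz] at h1
  rw [show (1 : ℂ) + (z : ℂ) = ((1 + z : ℤ) : ℂ) by push_cast; ring, Complex.norm_intCast,
    Complex.norm_intCast, sq_abs, sq_abs] at h1
  push_cast at h1
  exact h1

end Family

end CfsgLib.BSW
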